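import Groth.Prelude.Def_AlgSpDec
import Groth.Prelude.Def_AlgSp4
/-!
Points of sheaves on `Over S` : elementary lemmas.
-/

universe u

open CategoryTheory CategoryTheory.Limits AlgebraicGeometry Opposite

namespace K612.Pts

open AlgSp

variable {S : Scheme.{u}} {F G H P : Sp S}

/-- `ofPt` of a composite `h_T' ⟶ h_T ⟶ F`. -/
theorem ofPt_map_comp {T T' : Over S} (φ : T' ⟶ T) (g : (yon S).obj T ⟶ F) (t : ↥T'.left) :
    Points.ofPt ((yon S).map φ ≫ g) t = Points.ofPt g (φ.left t) := by
  have h : Points.ofPt ((yon S).map φ) t = Points.ofScheme T (φ.left t) := by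
    apply (Points.schemeEquiv T).symm.injective
    change Points.toScheme T (Points.ofPt ((yon S).map φ) t) =
      Points.toScheme T (Points.ofScheme T (φ.left t))
    rw [Points.toScheme_ofPt, Points.toScheme_ofScheme]
  rw [← Points.map_ofPt, h, Points.map_ofPt, Category.id_comp]

/-- every point of `F` is `ofPt g t`. -/
theorem exists_ofPt (x : Points F) : ∃ (T : Over S) (g : (yon S).obj T ⟶ F) (t : ↥T.left),
    Points.ofPt g t = x := by
  induction x using Points.ind with
  | h p => exact ⟨p.pt, p.toHom, IsLocalRing.closedPoint p.K, Points.ofPt_toHom p _⟩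

/-- Two points of schemes define the same point of `F` iff they agree over a common field. -/
theorem ofPt_eq_ofPt_iff {T T' : Over S} (g : (yon S).obj T ⟶ F) (g' : (yon S).obj T' ⟶ F)
    (t : ↥T.left) (t' : ↥T'.left) :
    Points.ofPt g t = Points.ofPt g' t' ↔
      ∃ (W : Over S) (w : ↥W.left) (a : W ⟶ T) (b : W ⟶ T'),
        (yon S).map a ≫ g = (yon S).map b ≫ g' ∧ a.left w = t ∧ b.left w = t' := by
  constructor
  · intro h
    obtain ⟨Ω, _, w, a, b, hab⟩ := Points.mk_eq_mk_iff.1 h
    refine ⟨Over.mk w, IsLocalRing.closedPoint Ω,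
      a ≫ (Over.homMk (T.left.fromSpecResidueField t) rfl),
      b ≫ (Over.homMk (T'.left.fromSpecResidueField t') rfl), ?_, ?_, ?_⟩
    · have h1 := FieldPt.toHom_ofPt g t
      have h2 := FieldPt.toHom_ofPt g' t'
      rw [Functor.map_comp, Functor.map_comp, Category.assoc, Category.assoc]
      erw [← h1, ← h2]
      apply (J S).uliftYonedaEquiv.injective
      rw [GrothendieckTopology.uliftYonedaEquiv_comp, GrothendieckTopology.uliftYonedaEquiv_comp,
        GrothendieckTopology.uliftYonedaEquiv_uliftYoneda_map,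
        GrothendieckTopology.uliftYonedaEquiv_uliftYoneda_map]
      erw [FieldPt.toHom_app, FieldPt.toHom_app]
      exact hab
    · exact Scheme.fromSpecResidueField_apply _ (a.left (IsLocalRing.closedPoint Ω))
    · exact Scheme.fromSpecResidueField_apply _ (b.left (IsLocalRing.closedPoint Ω))
  · rintro ⟨W, w, a, b, h, rfl, rfl⟩
    rw [← ofPt_map_comp, ← ofPt_map_comp, h]

/-- A pullback square of sheaves is surjective on points over the fibre product of sets of points. -/
theorem exists_point_of_isPullback {fst : P ⟶ F} {snd : P ⟶ G} {f : F ⟶ H} {g : G ⟶ H}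
    (sq : IsPullback fst snd f g) (x : Points F) (y : Points G)
    (h : Points.map f x = Points.map g y) :
    ∃ z : Points P, Points.map fst z = x ∧ Points.map snd z = y := by
  obtain ⟨T, a, t, rfl⟩ := exists_ofPt x
  obtain ⟨T', a', t', rfl⟩ := exists_ofPt y
  rw [Points.map_ofPt, Points.map_ofPt, ofPt_eq_ofPt_iff] at h
  obtain ⟨W, w, b, b', hb, rfl, rfl⟩ := h
  refine ⟨Points.ofPt (sq.lift ((yon S).map b ≫ a) ((yon S).map b' ≫ a') (by simpa using hb)) w, ?_, ?_⟩
  · rw [Points.map_ofPt, sq.lift_fst, ofPt_map_comp]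
  · rw [Points.map_ofPt, sq.lift_snd, ofPt_map_comp]

/-- the scheme version : points of a represented pullback. -/
theorem exists_pt_of_isPullback {V : Over S} {U : Over S} {fst : (yon S).obj V ⟶ F} {snd : V ⟶ U}
    {f : F ⟶ H} {g : (yon S).obj U ⟶ H} (sq : IsPullback fst ((yon S).map snd) f g)
    (x : Points F) (y : ↥U.left) (h : Points.map f x = Points.ofPt g y) :
    ∃ v : ↥V.left, Points.ofPt fst v = x ∧ snd.left v = y := by
  obtain ⟨z, hz1, hz2⟩ := exists_point_of_isPullback sq x (Points.ofScheme U y)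
    (by rw [h, Points.map_ofPt, Category.id_comp])
  obtain ⟨v, rfl⟩ : ∃ v, Points.ofScheme V v = z := (Points.schemeEquiv V).surjective z
  refine ⟨v, ?_, ?_⟩
  · rw [← hz1, Points.map_ofPt, Category.id_comp]
  · apply (Points.schemeEquiv U).injective
    change Points.ofScheme U _ = Points.ofScheme U _
    rw [← hz2, Points.map_ofPt, Category.id_comp]
    have := ofPt_map_comp snd (𝟙 _) v
    rw [Category.comp_id] at this
    exact this.symm

/-- `RepWith Surjective` in terms of points. -/
theorem surjective_iff_of_representable {f : F ⟶ G} (hf : Representable f) :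
    RepWith @Surjective f ↔ Function.Surjective (Points.map f) := by
  constructor
  · rintro h y
    obtain ⟨T, g, t, rfl⟩ := exists_ofPt y
    obtain ⟨V, fst, snd, sq⟩ := hf g
    have hs : Surjective fst.left := h.2 g snd fst sq
    obtain ⟨v, rfl⟩ := hs.surj t
    refine ⟨Points.ofPt snd v, ?_⟩
    rw [Points.map_ofPt, sq.w, ofPt_map_comp]
  · intro h
    refine ⟨hf, fun U V g fst snd sq => ⟨fun t => ?_⟩⟩
    obtain ⟨x, hx⟩ := h (Points.ofPt g t)
    obtain ⟨v, -, hv⟩ := exists_pt_of_isPullback sq x t hx
    exact ⟨v, hv⟩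

/-- a surjective chart is surjective on points. -/
theorem surjective_ofPt {U : Over S} {p : (yon S).obj U ⟶ F} (hp : RepWith @Surjective p) :
    Function.Surjective (Points.ofPt p) := by
  intro x
  obtain ⟨y, rfl⟩ := (surjective_iff_of_representable hp.1).1 hp x
  obtain ⟨v, rfl⟩ : ∃ v, Points.ofScheme U v = y := (Points.schemeEquiv U).surjective y
  exact ⟨v, by rw [Points.map_ofPt, Category.id_comp]⟩

end K612.Pts
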