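import Groth.Agent.FlatB.GeomRed
import Groth.Agent.Pi1.H394.WEReduced
import Groth.Agent.AlgSp.K612.Pts
import Groth.Prelude.Def_AlgSpSub
import Mathlib.AlgebraicGeometry.Morphisms.Etale
import Mathlib.RingTheory.Etale.Weakly
/-!
Reducedness and etale charts.
-/

universe u

open CategoryTheory CategoryTheory.Limits AlgebraicGeometry Opposite

namespace K612.Reduced

open AlgSp

/-- A scheme etale over a reduced scheme is reduced (no finiteness assumption). -/
theorem isReduced_of_etale {X Y : Scheme.{u}} (f : X ⟶ Y) [Etale f] [IsReduced Y] : IsReduced X := by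
  refine Groth.Agent.FlatB.GeomRed.isReduced_of_flat_cover fun x => ?_
  obtain ⟨U, hU, hxU, -⟩ := exists_isAffineOpen_mem_and_subset (X := Y) (U := ⊤) (x := f x) trivial
  obtain ⟨V, hV, hxV, hVU⟩ := exists_isAffineOpen_mem_and_subset (X := X) (U := f ⁻¹ᵁ U) (x := x) hxU
  have he := Scheme.Hom.etale_appLE f hU hV hVU
  have : _root_.IsReduced Γ(X, V) := by
    algebraize [(f.appLE U V hVU).hom]
    have : Algebra.Etale Γ(Y, U) Γ(X, V) := he
    exact Groth.Agent.Pi1.H394.WEReduced.isReduced_of_weaklyEtale Γ(Y, U) Γ(X, V)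
  have h2 : IsReduced (Spec Γ(X, V)) := by rw [affine_isReduced_iff]; exact this
  have hx : x ∈ Set.range hV.fromSpec := by rw [hV.range_fromSpec]; exact hxV
  obtain ⟨z, hz⟩ := hx
  exact ⟨_, hV.fromSpec, z, hz, inferInstance, h2⟩

variable {S : Scheme.{u}} {X : Sp S}

/-- every scheme etale over a reduced space is reduced. -/
theorem isReduced_of_isReducedSp (hX : IsReducedSp X) {U : Over S} (a : (yon S).obj U ⟶ X)
    (ha : RepWith @Etale a) : IsReduced U.left := by
  obtain ⟨V, p, hp, hs, hV⟩ := hX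
  obtain ⟨P, fst, snd, sq⟩ := hp.1 a
  obtain ⟨snd, rfl⟩ := (yon S).map_surjective snd
  have h1 : Etale fst.left := hp.2 a _ fst sq
  have h2 : Surjective fst.left := hs.2 a _ fst sq
  have h3 : Etale snd.left := ha.2 p _ snd sq.flip
  have : IsReduced P.left := isReduced_of_etale snd.left
  exact Groth.Agent.FlatB.GeomRed.isReduced_of_flat_of_surjective fst.left

end K612.Reduced
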