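import Mathlib.RingTheory.RingHom.Etale
import Groth.Agent.AlgSp.K644.Chart
import Groth.Agent.Flat2A.EtaleProjGlue
/-!
Local projectivity of quasi-coherent modules on the small etale site of a space.
-/

set_option autoImplicit false
universe v' u' u

set_option backward.isDefEq.respectTransparency false

open CategoryTheory CategoryTheory.Limits AlgebraicGeometry Opposite TensorProduct

namespace K612.ProjLoc

open AlgSp Groth.Agent.Etbase.FFExact

section algebra

/-- base changes of projective modules are projective. -/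
theorem IsBC.projective {A B : Type*} [CommRing A] [CommRing B] {φ : A →+* B} {M M' : Type*}
    [AddCommGroup M] [AddCommGroup M'] [Module A M] [Module B M'] {ψ : M →+ M'} (h : IsBC φ ψ)
    [Module.Projective A M] : Module.Projective B M' := by
  obtain ⟨h1, h2⟩ := h
  let _ := φ.toAlgebra
  let _ : Module A M' := Module.compHom M' φ
  have : IsScalarTower A B M' := ⟨fun a b m => by
    change (φ a * b) • m = φ a • b • m
    rw [mul_smul]⟩
  exact Module.Projective.of_equiv' h2.equiv

/-- projectivity is local for the etale topology. -/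
theorem projective_of_isBC {A : Type u} [CommRing A] {N : Type u} [AddCommGroup N] [Module A N]
    (h : ∀ (p : Ideal A) [p.IsPrime], ∃ (A₁ : Type u) (_ : CommRing A₁) (φ : A →+* A₁)
      (p₁ : Ideal A₁) (_ : p₁.IsPrime) (N₁ : Type (u + 1)) (_ : AddCommGroup N₁)
      (_ : Module A₁ N₁) (ψ : N →+ N₁), φ.Etale ∧ p₁.comap φ = p ∧ IsBC φ ψ ∧
        Module.Projective A₁ N₁) : Module.Projective A N := by
  refine Groth.Agent.Flat2A.EtaleProjGlue.projective_of_etale_local A N fun p hp => ?_
  obtain ⟨A₁, _, φ, p₁, hp₁, N₁, _, _, ψ, h1, h2, ⟨h3, h4⟩, h5⟩ := h p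
  let _ := φ.toAlgebra
  let _ : Module A N₁ := Module.compHom N₁ φ
  have : IsScalarTower A A₁ N₁ := ⟨fun a b m => by
    change (φ a * b) • m = φ a • b • m
    rw [mul_smul]⟩
  exact ⟨A₁, inferInstance, inferInstance, p₁, hp₁, h1, ⟨h2.symm⟩,
    Module.Projective.of_equiv' h4.equiv.symm⟩

end algebra

variable {S : Scheme.{u}} {X : Sp S}

open K644.Chart

/-- every prime of the ring of functions of an affine scheme is the prime of a point, compatibly with morphisms. -/
theorem comap_primeOf {Y Z : Scheme.{u}} [IsAffine Y] [IsAffine Z] (f : Y ⟶ Z) (y : Y) :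
    Ideal.comap f.appTop.hom (Y.toSpecΓ y).asIdeal = (Z.toSpecΓ (f y)).asIdeal := by
  have h := Scheme.toSpecΓ_naturality f
  have h2 := congrArg (fun k => k y) h
  have h3 : Z.toSpecΓ (f y) = Spec.map f.appTop (Y.toSpecΓ y) := by
    rw [← Scheme.Hom.comp_apply, ← Scheme.Hom.comp_apply, h]
  rw [h3]
  rfl

theorem exists_point {Z : Scheme.{u}} [IsAffine Z] (p : Ideal Γ(Z, ⊤)) [hp : p.IsPrime] :
    ∃ z : Z, (Z.toSpecΓ z).asIdeal = p := by
  refine ⟨Z.isoSpec.inv ⟨p, hp⟩, ?_⟩
  change (Z.isoSpec.hom (Z.isoSpec.inv ⟨p, hp⟩)).asIdeal = p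
  rw [← Scheme.Hom.comp_apply, Iso.inv_hom_id]
  rfl

/-- projectivity of the sections over an affine object is inherited by affine objects over it. -/
theorem projective_of_hom (M : ModEt X) [M.IsQuasicoherent] {E E₁ : EtOver X} (g : E₁ ⟶ E)
    (hE : IsAffine E.obj.left.left) (hE₁ : IsAffine E₁.obj.left.left)
    (h : Module.Projective Γ(E.obj.left.left, ⊤) (M.val.presheaf.obj (op E))) :
    Module.Projective Γ(E₁.obj.left.left, ⊤) (M.val.presheaf.obj (op E₁)) :=
  IsBC.projective (isBC_of_isQuasicoherent M g hE hE₁)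

/-- projectivity of sections over an affine object is local. -/
theorem projective_of_local (M : ModEt X) [M.IsQuasicoherent] {E : EtOver X}
    (hE : IsAffine E.obj.left.left) {A N : Type u} [CommRing A] [AddCommGroup N] [Module A N]
    (σ : Γ(E.obj.left.left, ⊤) ≃+* A) (e : M.val.presheaf.obj (op E) ≃+ N)
    (he : ∀ (a : Γ(E.obj.left.left, ⊤)) (m : M.val.presheaf.obj (op E)), e (a • m) = σ a • e m)
    (h : ∀ x : ↥E.obj.left.left, ∃ (E₁ : EtOver X) (g : E₁ ⟶ E) (y : E₁.obj.left.left),
      IsAffine E₁.obj.left.left ∧ g.hom.left.left y = x ∧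
        Module.Projective Γ(E₁.obj.left.left, ⊤) (M.val.presheaf.obj (op E₁))) :
    Module.Projective A N := by
  let _ : Module Γ(E.obj.left.left, ⊤) N := Module.compHom N σ.toRingHom
  let e' : M.val.presheaf.obj (op E) ≃ₗ[Γ(E.obj.left.left, ⊤)] N :=
    { e with map_smul' := he }
  have key : Module.Projective Γ(E.obj.left.left, ⊤) N := by
    refine projective_of_isBC fun p hp => ?_
    obtain ⟨x, hx⟩ := exists_point (Z := E.obj.left.left) p
    obtain ⟨E₁, g, y, hE₁, hy, hP⟩ := h x
    refine ⟨Γ(E₁.obj.left.left, ⊤), inferInstance, g.hom.left.left.appTop.hom,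
      (E₁.obj.left.left.toSpecΓ y).asIdeal, inferInstance, M.val.presheaf.obj (op E₁),
      inferInstance, inferInstance, (M.val.presheaf.map g.op).hom.comp (e'.symm : N →+ _), ?_, ?_,
      ?_, hP⟩
    · have := EtOver.etale_left g
      exact (HasRingHomProperty.iff_of_isAffine (P := @Etale)).1 this
    · rw [comap_primeOf, hy, hx]
    · refine K644.Alg.IsBC.of_equiv (isBC_of_isQuasicoherent M g hE hE₁) e'
        (LinearEquiv.refl _ _) _ fun m => ?_
      change M.val.presheaf.map g.op (e'.symm (e' m)) = M.val.presheaf.map g.op m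
      rw [LinearEquiv.symm_apply_apply]
  have := RingHomInvPair.of_ringEquiv σ
  have := RingHomInvPair.of_ringEquiv_symm σ
  let τ : N ≃ₛₗ[(σ : Γ(E.obj.left.left, ⊤) →+* A)] N :=
    { AddEquiv.refl N with
      map_smul' := fun a m => rfl }
  exact Module.Projective.of_equiv τ

end K612.ProjLoc
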