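import Groth.Prelude.Def_AlgSpOX
/-!
Objects of the small etale site: open subschemes, etale composites, etale covers.
-/

universe u

set_option backward.isDefEq.respectTransparency false

open CategoryTheory CategoryTheory.Limits AlgebraicGeometry Opposite

namespace K612.Et

open AlgSp

variable {S : Scheme.{u}} {X : Sp S}

/-- A scheme `V` with an etale map to (the scheme of) an object `E` of the small etale site is an object of the
small etale site. -/
noncomputable def comp (E : EtOver X) {V : Scheme.{u}} (φ : V ⟶ E.obj.left.left) [Etale φ] : EtOver X :=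
  EtOver.mk (U := Over.mk (φ ≫ E.obj.left.hom)) ((yon S).map (Over.homMk φ rfl) ≫ E.obj.hom)
    ((repWith_isMultiplicative (S := S) @Etale).comp_mem _ _
      ((repWith_yon_map_iff _ _).2 (show Etale φ from inferInstance)) E.property)

/-- the structure map. -/
noncomputable def compMap (E : EtOver X) {V : Scheme.{u}} (φ : V ⟶ E.obj.left.left) [Etale φ] :
    comp E φ ⟶ E :=
  EtOver.homMk (Over.homMk φ rfl) rfl

@[simp]
theorem compMap_left (E : EtOver X) {V : Scheme.{u}} (φ : V ⟶ E.obj.left.left) [Etale φ] :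
    (compMap E φ).hom.left.left = φ := rfl

@[simp]
theorem comp_left (E : EtOver X) {V : Scheme.{u}} (φ : V ⟶ E.obj.left.left) [Etale φ] :
    (comp E φ).obj.left.left = V := rfl

/-- lifting a morphism along `compMap`. -/
noncomputable def compLift (E : EtOver X) {V : Scheme.{u}} (φ : V ⟶ E.obj.left.left) [Etale φ]
    {E' : EtOver X} (g : E' ⟶ E) (ψ : E'.obj.left.left ⟶ V) (h : ψ ≫ φ = g.hom.left.left) :
    E' ⟶ comp E φ :=
  EtOver.homMk (Over.homMk ψ (by
      change ψ ≫ φ ≫ E.obj.left.hom = E'.obj.left.hom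
      rw [reassoc_of% h, Over.w g.hom.left])) (by
    change (yon S).map _ ≫ (yon S).map _ ≫ E.obj.hom = _
    rw [← Functor.map_comp_assoc, ← EtOver.w g]
    congr 2
    ext1
    exact h)

@[simp]
theorem compLift_left (E : EtOver X) {V : Scheme.{u}} (φ : V ⟶ E.obj.left.left) [Etale φ]
    {E' : EtOver X} (g : E' ⟶ E) (ψ : E'.obj.left.left ⟶ V) (h : ψ ≫ φ = g.hom.left.left) :
    (compLift E φ g ψ h).hom.left.left = ψ := rfl

theorem compLift_comp (E : EtOver X) {V : Scheme.{u}} (φ : V ⟶ E.obj.left.left) [Etale φ]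
    {E' : EtOver X} (g : E' ⟶ E) (ψ : E'.obj.left.left ⟶ V) (h : ψ ≫ φ = g.hom.left.left) :
    compLift E φ g ψ h ≫ compMap E φ = g :=
  EtOver.hom_ext _ _ (Over.OverMorphism.ext h)

/-- an open subscheme -/
noncomputable abbrev opn (E : EtOver X) (W : E.obj.left.left.Opens) : EtOver X := comp E W.ι

noncomputable abbrev opnMap (E : EtOver X) (W : E.obj.left.left.Opens) : opn E W ⟶ E := compMap E W.ι

/-- a morphism whose image lands in the open factors. -/
theorem exists_lift_opn (E : EtOver X) (W : E.obj.left.left.Opens) {E' : EtOver X} (g : E' ⟶ E)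
    (h : Set.range (fun v => g.hom.left.left v) ⊆ (W : Set E.obj.left.left)) :
    ∃ g' : E' ⟶ opn E W, g' ≫ opnMap E W = g :=
  ⟨compLift E W.ι g (IsOpenImmersion.lift W.ι g.hom.left.left (by simpa using h))
    (IsOpenImmersion.lift_fac _ _ _), compLift_comp _ _ _ _ _⟩

/-- covering sieves from open covers -/
theorem sieve_opn_mem (E : EtOver X) {ι : Type*} (W : ι → E.obj.left.left.Opens) (hW : ⨆ i, W i = ⊤) :
    Sieve.ofArrows (fun i => opn E (W i)) (fun i => opnMap E (W i)) ∈ etTop X E := by
  refine ofArrows_mem_etTop _ _ fun x => ?_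
  have : x ∈ ⨆ i, W i := hW ▸ trivial
  obtain ⟨i, hi⟩ := TopologicalSpace.Opens.mem_iSup.1 this
  exact ⟨i, ⟨x, hi⟩, rfl⟩

/-- covering sieves of the small etale site: the joint image is everything. -/
theorem mem_etTop_iff {E : EtOver X} (R : Sieve E) : R ∈ etTop X E ↔
    ∀ x : ↥E.obj.left.left, ∃ (E' : EtOver X) (g : E' ⟶ E), R g ∧ x ∈ Set.range g.hom.left.left := by
  constructor
  · intro hR x
    obtain ⟨R', hR', hle⟩ := Precoverage.mem_toGrothendieck_iff_of_isStableUnderComposition.1 hR
    obtain ⟨ι, Z, g, rfl⟩ := R'.exists_eq_ofArrows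
    obtain ⟨i, hi⟩ := (ofArrows_mem_etPre_iff Z g).1 hR' x
    exact ⟨Z i, g i, hle _ _ (Presieve.ofArrows.mk i), hi⟩
  · intro h
    choose Z g hg hx using h
    refine (etTop X).superset_covering ?_ (ofArrows_mem_etTop Z g fun x => ⟨x, hx x⟩)
    rw [Sieve.generate_le_iff, Presieve.ofArrows_le_iff]
    exact hg

end K612.Et
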