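import Mathlib.CategoryTheory.Sites.Over
import Mathlib.CategoryTheory.Sites.CoverPreserving
import Mathlib.CategoryTheory.Limits.Constructions.Over.Connected
import Mathlib.CategoryTheory.Limits.Constructions.LimitsOfProductsAndEqualizers
/-!
Localisation `Over.post F : Over U ⥤ Over (F U)` of a functor: continuity and finality.
-/

set_option autoImplicit false
universe v₁ v₂ u₁ u₂

open CategoryTheory CategoryTheory.Limits Opposite

namespace K612.Post

variable {C : Type u₁} [Category.{v₁} C] {D : Type u₂} [Category.{v₂} D] (F : C ⥤ D) (U : C)

/-- the image of the terminal object -/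
noncomputable def isTerminal_post : IsTerminal ((Over.post (X := U) F).obj (Over.mk (𝟙 U))) :=
  IsTerminal.ofIso (Over.mkIdTerminal (X := F.obj U)) (Over.isoMk (Iso.refl _)
    ((Category.id_comp _).trans (F.map_id U)))

theorem flat_post [HasPullbacks C] [PreservesLimitsOfShape WalkingCospan F] :
    RepresentablyFlat (Over.post (X := U) F) := by
  have h1 : HasFiniteLimits (Over U) := hasFiniteLimits_of_hasTerminal_and_pullbacks
  have h2 : PreservesLimitsOfShape WalkingCospan (Over.post (X := U) F) := by
    have h3 : PreservesLimitsOfShape WalkingCospan (Over.post (X := U) F ⋙ Over.forget (F.obj U)) :=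
      inferInstanceAs (PreservesLimitsOfShape WalkingCospan (Over.forget U ⋙ F))
    exact preservesLimitsOfShape_of_reflects_of_preserves _ (Over.forget (F.obj U))
  have h4 : PreservesLimitsOfShape (Discrete PEmpty.{1}) (Over.post (X := U) F) := by
    have : PreservesLimit (Functor.empty.{0} (Over U)) (Over.post (X := U) F) :=
      preservesLimit_of_preserves_limit_cone (Over.mkIdTerminal (X := U))
        ((isLimitMapConeEmptyConeEquiv _ _).symm (isTerminal_post F U))
    exact preservesLimitsOfShape_pempty_of_preservesTerminal _
  have h5 : PreservesFiniteLimits (Over.post (X := U) F) :=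
    preservesFiniteLimits_of_preservesTerminal_and_pullbacks _
  exact flat_of_preservesFiniteLimits _

theorem isContinuous_post [HasPullbacks C] [PreservesLimitsOfShape WalkingCospan F]
    {J : GrothendieckTopology C} {K : GrothendieckTopology D} (hF : CoverPreserving J K F) :
    (Over.post (X := U) F).IsContinuous (J.over U) (K.over (F.obj U)) :=
  have := flat_post F U
  Functor.isContinuous_of_coverPreserving (compatiblePreservingOfFlat _ _) (hF.overPost U)

theorem isContinuous_post' [HasPullbacks C] [PreservesLimitsOfShape WalkingCospan F]
    (J : GrothendieckTopology C) (K : GrothendieckTopology D) [F.IsContinuous J K] :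
    (Over.post (X := U) F).IsContinuous (J.over U) (K.over (F.obj U)) :=
  isContinuous_post F U (CoverPreserving.of_isContinuous F J K)

/-- a functor taking a terminal object to a terminal object is final. -/
theorem final_of_isTerminal {T : C} (hT : IsTerminal T) (hFT : IsTerminal (F.obj T)) : F.Final where
  out d := by
    have : Nonempty (StructuredArrow d F) := ⟨StructuredArrow.mk (hFT.from d)⟩
    refine zigzag_isConnected fun a b => ?_
    have key : ∀ c : StructuredArrow d F, Zigzag c (StructuredArrow.mk (hFT.from d)) := fun c =>
      Relation.ReflTransGen.single (Or.inl ⟨StructuredArrow.homMk (hT.from c.right)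
        (hFT.hom_ext _ _)⟩)
    exact (key a).trans (key b).symm

theorem final_post : (Over.post (X := U) F).Final :=
  final_of_isTerminal _ Over.mkIdTerminal (isTerminal_post F U)

end K612.Post
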