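import Mathlib.Algebra.Category.ModuleCat.Presheaf.Pullback
import Mathlib.Algebra.Category.ModuleCat.Sheaf.PullbackContinuous
import Mathlib.CategoryTheory.Category.ULift
/-!
# Existence of the inverse image of (pre)sheaves of modules for categories with objects one universe above the morphisms
-/

set_option autoImplicit false
universe v u

open CategoryTheory CategoryTheory.Limits Opposite

namespace K612.UL

variable {C D : Type (u + 1)} [Category.{u} C] [Category.{u} D]

variable (C) in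
abbrev dn : ULiftHom.{u + 1} C ⥤ C := ULiftHom.down.{u, u + 1, u + 1}

variable (C) in
abbrev up : C ⥤ ULiftHom.{u + 1} C := ULiftHom.up.{u, u + 1, u + 1}

/-- restriction along `ULiftHom.down` -/
noncomputable abbrev pDown (R : Cᵒᵖ ⥤ RingCat.{u + 1}) :
    PresheafOfModules.{u + 1} R ⥤ PresheafOfModules.{u + 1} ((dn C).op ⋙ R) :=
  PresheafOfModules.pushforward (F := dn C) (𝟙 ((dn C).op ⋙ R))

/-- restriction along `ULiftHom.up` -/
noncomputable abbrev pUp (R : Cᵒᵖ ⥤ RingCat.{u + 1}) :
    PresheafOfModules.{u + 1} ((dn C).op ⋙ R) ⥤ PresheafOfModules.{u + 1} R :=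
  PresheafOfModules.pushforward (F := up C) (S := R) (𝟙 R)

noncomputable def equiv (R : Cᵒᵖ ⥤ RingCat.{u + 1}) :
    PresheafOfModules.{u + 1} R ≌ PresheafOfModules.{u + 1} ((dn C).op ⋙ R) :=
  CategoryTheory.Equivalence.mk (pDown R) (pUp R) (Iso.refl _) (Iso.refl _)

/-- The direct image of presheaves of modules has a left adjoint. -/
instance isRightAdjoint_pushforward {F : C ⥤ D} {R : Dᵒᵖ ⥤ RingCat.{u + 1}}
    {S : Cᵒᵖ ⥤ RingCat.{u + 1}} (φ : S ⟶ F.op ⋙ R) :
    (PresheafOfModules.pushforward.{u + 1} φ).IsRightAdjoint := by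
  let F' : ULiftHom.{u + 1} C ⥤ ULiftHom.{u + 1} D := dn C ⋙ F ⋙ up D
  let φ' : (dn C).op ⋙ S ⟶ F'.op ⋙ ((dn D).op ⋙ R) :=
    Functor.whiskerLeft (dn C).op φ
  have h : (PresheafOfModules.pushforward.{u + 1} φ').IsRightAdjoint := inferInstance
  have h1 : (pDown R).IsRightAdjoint := inferInstanceAs ((equiv R).functor.IsRightAdjoint)
  have h2 : (pUp S).IsRightAdjoint := inferInstanceAs ((equiv S).inverse.IsRightAdjoint)
  have h3 : (pDown R ⋙ PresheafOfModules.pushforward.{u + 1} φ' ⋙ pUp S).IsRightAdjoint :=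
    inferInstance
  exact h3

end K612.UL
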