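import Groth.Prelude.Def_AlgSpOX2
import Groth.Agent.AlgSp.K612.UL
/-!
Existence of `pullModEt`.
-/

set_option autoImplicit false
universe u

set_option backward.isDefEq.respectTransparency false

open CategoryTheory CategoryTheory.Limits AlgebraicGeometry Opposite

namespace K612.PullEx

open AlgSp

variable {S : Scheme.{u}} {X Y : Sp S} {f : X ⟶ Y} (hf : Representable f)

instance isRightAdjoint_pushModEt :
    (SheafOfModules.pushforward.{u + 1} (AlgSp.bcRingHom hf)).IsRightAdjoint :=
  inferInstance

end K612.PullEx
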