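import Groth.Prelude.Def_AlgSpOX2
import Groth.Agent.AlgSp.K612.Et
import Groth.Agent.AlgSp.K612.PullEx
import Groth.Agent.AlgSp.K612.Post
/-!
Restriction of sheaves and modules along an etale morphism of spaces: `EtOver.postcomp` is continuous, left adjoint to base
change, and the inverse image of modules is the restriction.
-/

set_option autoImplicit false
universe v' u' u

set_option backward.isDefEq.respectTransparency false

open CategoryTheory CategoryTheory.Limits AlgebraicGeometry Opposite

namespace K612.ResEt

open AlgSp

variable {S : Scheme.{u}} {X Y : Sp S}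

section

variable (f : X ⟶ Y) (he : IsEtaleMor f)

/-- postcomposition preserves fibre products. -/
theorem isPullback_postcomp {E₁ E₂ E₀ : EtOver X} (g₁ : E₁ ⟶ E₀) (g₂ : E₂ ⟶ E₀) :
    IsPullback ((EtOver.postcomp f he).map (EtOver.pullbackFst g₁ g₂))
      ((EtOver.postcomp f he).map (EtOver.pullbackSnd g₁ g₂)) ((EtOver.postcomp f he).map g₁)
      ((EtOver.postcomp f he).map g₂) := by
  refine IsPullback.of_iso (EtOver.isPullback ((EtOver.postcomp f he).map g₁)
    ((EtOver.postcomp f he).map g₂)) ?_ (Iso.refl _) (Iso.refl _) (Iso.refl _) ?_ ?_ ?_ ?_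
  · exact
      { hom := EtOver.homMk (𝟙 _) (by
          rw [(yon S).map_id, Category.id_comp]
          exact Category.assoc _ _ _)
        inv := EtOver.homMk (𝟙 _) (by
          rw [(yon S).map_id, Category.id_comp]
          exact (Category.assoc _ _ _).symm)
        hom_inv_id := EtOver.hom_ext _ _ (Category.id_comp _)
        inv_hom_id := EtOver.hom_ext _ _ (Category.id_comp _) }
  · exact EtOver.hom_ext _ _ ((Category.id_comp _).trans (Category.comp_id _).symm).symm
  · exact EtOver.hom_ext _ _ ((Category.id_comp _).trans (Category.comp_id _).symm).symm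
  · exact EtOver.hom_ext _ _ ((Category.id_comp _).trans (Category.comp_id _).symm).symm
  · exact EtOver.hom_ext _ _ ((Category.id_comp _).trans (Category.comp_id _).symm).symm

instance preservesLimit_postcomp {E₁ E₂ E₀ : EtOver X} (g₁ : E₁ ⟶ E₀) (g₂ : E₂ ⟶ E₀) :
    PreservesLimit (cospan g₁ g₂) (EtOver.postcomp f he) :=
  preservesLimit_of_preserves_limit_cone (EtOver.pullbackIsLimit g₁ g₂)
    ((isLimitMapConePullbackConeEquiv _ _).symm (isPullback_postcomp f he g₁ g₂).isLimit)

instance preservesPullbacks_postcomp :
    PreservesLimitsOfShape WalkingCospan (EtOver.postcomp f he) where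
  preservesLimit {K} := preservesLimit_of_iso_diagram _ (diagramIsoCospan K).symm

theorem etPre_le_comap_postcomp : etPre X ≤ (etPre Y).comap (EtOver.postcomp f he) :=
  le_of_eq (Precoverage.comap_comp (EtOver.postcomp f he) (EtOver.toScheme Y) _ :
    Scheme.etalePrecoverage.comap (EtOver.postcomp f he ⋙ EtOver.toScheme Y) = _)

instance postcomp_isContinuous : (EtOver.postcomp f he).IsContinuous (etTop X) (etTop Y) := by
  change (EtOver.postcomp f he).IsContinuous (etPre X).toGrothendieck (etPre Y).toGrothendieck
  exact Functor.isContinuous_toGrothendieck_of_pullbacksPreservedBy _ _ _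
    (etPre_le_comap_postcomp f he)

/-- the source of a morphism to `postcomp E` comes from `EtOver X`. -/
noncomputable def liftObj (E : EtOver X) {V : EtOver Y} (g : V ⟶ (EtOver.postcomp f he).obj E) :
    EtOver X :=
  EtOver.mk ((yon S).map g.hom.left ≫ E.obj.hom)
    ((repWith_isMultiplicative (S := S) @Etale).comp_mem _ _
      ((repWith_yon_map_iff _ _).2 (EtOver.etale_left g)) E.property)

noncomputable def liftHom (E : EtOver X) {V : EtOver Y} (g : V ⟶ (EtOver.postcomp f he).obj E) :
    liftObj f he E g ⟶ E :=
  EtOver.homMk g.hom.left rfl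

noncomputable def liftIso (E : EtOver X) {V : EtOver Y} (g : V ⟶ (EtOver.postcomp f he).obj E) :
    (EtOver.postcomp f he).obj (liftObj f he E g) ≅ V where
  hom := EtOver.homMk (𝟙 _) (by
    rw [(yon S).map_id, Category.id_comp, ← EtOver.w g]
    exact (Category.assoc _ _ _).symm)
  inv := EtOver.homMk (𝟙 _) (by
    rw [(yon S).map_id, Category.id_comp, ← EtOver.w g]
    exact Category.assoc _ _ _)
  hom_inv_id := EtOver.hom_ext _ _ (Category.id_comp _)
  inv_hom_id := EtOver.hom_ext _ _ (Category.id_comp _)

theorem liftIso_hom_comp (E : EtOver X) {V : EtOver Y} (g : V ⟶ (EtOver.postcomp f he).obj E) :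
    (liftIso f he E g).hom ≫ g = (EtOver.postcomp f he).map (liftHom f he E g) :=
  EtOver.hom_ext _ _ (Category.id_comp _)

instance postcomp_isCocontinuous :
    (EtOver.postcomp f he).IsCocontinuous (etTop X) (etTop Y) where
  cover_lift {E R} hR := by
    rw [Et.mem_etTop_iff] at hR ⊢
    intro x
    obtain ⟨V, g, hg, hx⟩ := hR x
    refine ⟨liftObj f he E g, liftHom f he E g, ?_, hx⟩
    change R _
    rw [← liftIso_hom_comp]
    exact R.downward_closed hg _

instance postcomp_over_isContinuous (E : EtOver X) :
    (Over.post (X := E) (EtOver.postcomp f he)).IsContinuous ((etTop X).over E)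
      ((etTop Y).over ((EtOver.postcomp f he).obj E)) :=
  Post.isContinuous_post' _ _ _ _

end

section

variable {f : X ⟶ Y} (hf : Representable f) (he : IsEtaleMor f)

/-- the unit of the adjunction. -/
noncomputable def adjUnit (E : EtOver X) :
    E ⟶ (EtOver.bc hf).obj ((EtOver.postcomp f he).obj E) :=
  EtOver.homMk (hf.lift E.obj.hom (𝟙 _) (by
    rw [(yon S).map_id, Category.id_comp]; rfl)) (hf.lift_fst _ _ _)

theorem adjUnit_snd (E : EtOver X) :
    (adjUnit hf he E).hom.left ≫ hf.snd ((EtOver.postcomp f he).obj E).obj.hom = 𝟙 _ :=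
  hf.lift_snd _ _ _

/-- the counit of the adjunction. -/
noncomputable def adjCounit (E : EtOver Y) :
    (EtOver.postcomp f he).obj ((EtOver.bc hf).obj E) ⟶ E :=
  EtOver.homMk (hf.snd E.obj.hom) (hf.w _).symm

/-- morphisms to a base change are determined by the second component. -/
theorem hom_ext_bc {E : EtOver X} {E' : EtOver Y} (g g' : E ⟶ (EtOver.bc hf).obj E')
    (h : g.hom.left ≫ hf.snd E'.obj.hom = g'.hom.left ≫ hf.snd E'.obj.hom) : g = g' :=
  EtOver.hom_ext _ _ (hf.hom_ext ((EtOver.w g).trans (EtOver.w g').symm) h)

/-- `postcomp` is left adjoint to base change. -/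
noncomputable def adj : EtOver.postcomp f he ⊣ EtOver.bc hf :=
  Adjunction.mkOfUnitCounit
    { unit :=
        { app := adjUnit hf he
          naturality := fun E E' g => hom_ext_bc hf _ _ (by
            change (g.hom.left ≫ (adjUnit hf he E').hom.left) ≫ hf.snd _ =
              ((adjUnit hf he E).hom.left ≫ (EtOver.bcMap hf ((EtOver.postcomp f he).map g)).hom.left) ≫
                hf.snd _
            rw [Category.assoc, Category.assoc, adjUnit_snd, EtOver.bcMap_snd, ← Category.assoc,
              adjUnit_snd, Category.comp_id]
            exact (Category.id_comp _).symm) }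
      counit :=
        { app := adjCounit hf he
          naturality := fun E E' g => EtOver.hom_ext _ _ (EtOver.bcMap_snd hf g) }
      left_triangle := by
        apply NatTrans.ext
        funext E
        refine EtOver.hom_ext _ _ ?_
        change (adjUnit hf he E).hom.left ≫ hf.snd _ = _
        exact adjUnit_snd hf he E
      right_triangle := by
        apply NatTrans.ext
        funext E
        refine hom_ext_bc hf _ _ ?_
        change ((adjUnit hf he _).hom.left ≫ (EtOver.bcMap hf (adjCounit hf he E)).hom.left) ≫
          hf.snd _ = 𝟙 _ ≫ hf.snd _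
        rw [Category.assoc, EtOver.bcMap_snd, ← Category.assoc, adjUnit_snd]
        rfl }

/-- the structure sheaf of `Y` restricts to that of `X`. -/
noncomputable def resRing : OEtRing X ⟶
    ((EtOver.postcomp f he).sheafPushforwardContinuous RingCat.{u + 1} (etTop X) (etTop Y)).obj
      (OEtRing Y) := 𝟙 (OEtRing X)

/-- restriction of modules along an etale morphism. -/
noncomputable abbrev resModEt : ModEt Y ⥤ ModEt X :=
  SheafOfModules.pushforward (resRing (f := f) he)

theorem ringMap_unit (E : EtOver X) :
    (BigSite.ORing Scheme.etalePrecoverage S).obj.map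
        (hf.snd ((EtOver.postcomp f he).obj E).obj.hom).op ≫
      (BigSite.ORing Scheme.etalePrecoverage S).obj.map (adjUnit hf he E).hom.left.op = 𝟙 _ := by
  rw [← Functor.map_comp, ← op_comp, adjUnit_snd, op_id]
  exact (BigSite.ORing Scheme.etalePrecoverage S).obj.map_id _

/-- restriction is left adjoint to the direct image. -/
noncomputable def resAdj : resModEt he ⊣ pushModEt hf :=
  SheafOfModules.pushforwardPushforwardAdj (adj hf he) (resRing he) (bcRingHom hf)
    (NatTrans.ext (funext fun _ => (Category.comp_id _).symm))
    (NatTrans.ext (funext fun E =>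
      (Category.id_comp _).trans (ringMap_unit hf he E.unop)))

/-- the inverse image along a representable etale morphism is the restriction. -/
noncomputable def pullIsoRes : pullModEt hf ≅ resModEt he :=
  (pullPushAdjModEt hf).leftAdjointUniq (resAdj hf he)

end

end K612.ResEt
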