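import Groth.Prelude.Def_AlgSpD
import Groth.Agent.AlgSp.K612.ProjLoc
import Groth.Agent.AlgSp.K612.ResEt
/-!
Sections of the Zariski restriction of a module on a space to an etale chart.
-/

set_option autoImplicit false
universe v' u' u

set_option backward.isDefEq.respectTransparency false

open CategoryTheory CategoryTheory.Limits AlgebraicGeometry Opposite TensorProduct

namespace K612.ProjChart

open AlgSp Groth.Agent.Etbase.FFExact K644.Chart

variable {S : Scheme.{u}} {X : Sp S}

/-- the object of the small etale site given by an open of an etale chart. -/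
noncomputable abbrev openObj {V : Over S} {q : (yon S).obj V ⟶ X} (he : IsEtaleMor q)
    (W : V.left.Opens) : EtOver X :=
  (EtOver.postcomp q he).obj ((EtOver.ofScheme V).obj (etaleOfOpen V.left W))

theorem openObj_left {V : Over S} {q : (yon S).obj V ⟶ X} (he : IsEtaleMor q)
    (W : V.left.Opens) : (openObj he W).obj.left.left = (W : Scheme.{u}) := rfl

/-- the inclusion of the open, as a morphism to the chart. -/
theorem openObj_hom {V : Over S} {q : (yon S).obj V ⟶ X} (he : IsEtaleMor q)
    (W : V.left.Opens) : ∃ k : (openObj he W).obj.left ⟶ V, k.left = W.ι ∧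
      (yon S).map k ≫ q = (openObj he W).obj.hom :=
  ⟨Over.homMk W.ι rfl, rfl, rfl⟩

/-- isomorphic modules have isomorphic sections. -/
noncomputable def secEquiv {M N : ModEt X} (φ : M ≅ N) (E : EtOver X) :
    M.val.obj (op E) ≃ₗ[(OEtRing X).obj.obj (op E)] N.val.obj (op E) :=
  ((SheafOfModules.evaluation (OEtRing X) (op E)).mapIso φ).toLinearEquiv

/-- the ring isomorphism. -/
noncomputable def topEquiv {V : Over S} {q : (yon S).obj V ⟶ X} (he : IsEtaleMor q)
    (W : V.left.Opens) :
    Γ((openObj he W).obj.left.left, ⊤) ≃+* (V.left.ringCatSheaf.obj.obj (Opposite.op W)) :=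
  W.topIso.commRingCatIsoToRingEquiv

theorem exists_equiv {V : Over S} {q : (yon S).obj V ⟶ X} (hrepq : Representable q)
    (he : IsEtaleMor q) [(SheafOfModules.pushforward.{u + 1} (bcRingHom hrepq)).IsRightAdjoint]
    (F : ModEt X) (G : V.left.Modules)
    (c : ZarCompanion V.left G ((resSchModEt V).obj ((pullModEt hrepq).obj F)))
    (W : V.left.Opens) :
    ∃ e : F.val.presheaf.obj (op (openObj he W)) ≃+ (G.val.obj (op W) : Type u),
      ∀ (a : Γ((openObj he W).obj.left.left, ⊤)) (m : F.val.presheaf.obj (op (openObj he W))),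
        e (a • m) = topEquiv he W a • e m := by
  let e₁ := secEquiv ((ResEt.pullIsoRes hrepq he).app F)
    ((EtOver.ofScheme V).obj (etaleOfOpen V.left W))
  let e₂ : ((resSchModEt V).obj ((pullModEt hrepq).obj F)).val.obj
    (op (etaleOfOpen V.left W)) ≃+ ULift.{u + 1} (G.val.obj (op W) : Type u) := c.iso W
  refine ⟨(e₁.symm.toAddEquiv : _ ≃+ _).trans (e₂.trans AddEquiv.ulift), fun a m => ?_⟩
  have h1 := c.map_smul W (W.topIso.hom a) (e₁.symm m)
  have h2 : W.topIso.inv (W.topIso.hom a) = a := ConcreteCategory.congr_hom W.topIso.hom_inv_id a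
  rw [h2] at h1
  have h3 := congrArg ULift.down h1
  refine Eq.trans ?_ h3
  change (e₂ _).down = (e₂ _).down
  congr 2
  exact e₁.symm.map_smul (ULift.up a) m

/-- projectivity over an open of a chart, on the Zariski site and on the small etale site. -/
theorem projective_sec {V : Over S} {q : (yon S).obj V ⟶ X} (hrepq : Representable q)
    (he : IsEtaleMor q) [(SheafOfModules.pushforward.{u + 1} (bcRingHom hrepq)).IsRightAdjoint]
    (F : ModEt X) (G : V.left.Modules)
    (c : ZarCompanion V.left G ((resSchModEt V).obj ((pullModEt hrepq).obj F)))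
    (W : V.left.Opens)
    (h : Module.Projective (V.left.ringCatSheaf.obj.obj (Opposite.op W)) (G.val.obj (op W))) :
    Module.Projective Γ((openObj he W).obj.left.left, ⊤)
      (F.val.presheaf.obj (op (openObj he W))) := by
  obtain ⟨e, he'⟩ := exists_equiv hrepq he F G c W
  let σ := topEquiv he W
  have := RingHomInvPair.of_ringEquiv σ
  have := RingHomInvPair.of_ringEquiv_symm σ
  let τ : F.val.presheaf.obj (op (openObj he W)) ≃ₛₗ[(σ : Γ((openObj he W).obj.left.left, ⊤) →+*
      (V.left.ringCatSheaf.obj.obj (Opposite.op W)))] (G.val.obj (op W) : Type u) :=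
    { e with
      map_smul' := fun a m => he' a m }
  exact Module.Projective.of_equiv τ.symm

/-- affine etale neighbourhoods, mapping to affine opens of a chart. -/
theorem exists_nhd {U : Over S} (p : (yon S).obj U ⟶ X) (hp : RepWith @Etale p)
    (hs : RepWith @Surjective p) (he : IsEtaleMor p) (E : EtOver X) (x : ↥E.obj.left.left) :
    ∃ (E₁ : EtOver X) (g : E₁ ⟶ E) (y : E₁.obj.left.left) (U' : U.left.Opens)
      (_ : E₁ ⟶ openObj he U'), IsAffine E₁.obj.left.left ∧ g.hom.left.left y = x ∧
        IsAffineOpen U' := by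
  let E₂ : EtOver X := EtOver.mk p hp
  let P := EtOver.prodObj E E₂
  have h1 : Surjective (EtOver.prodFst E E₂).hom.left.left := hs.2 _ _ _ (E₂.property.1.isPullback E.obj.hom)
  obtain ⟨z, hz⟩ := h1.surj x
  obtain ⟨U', hU', hzU', -⟩ := exists_isAffineOpen_mem_and_subset (X := U.left)
    (x := (EtOver.prodSnd E E₂).hom.left.left z) (U := ⊤) trivial
  obtain ⟨Z, hZ, hzZ, hZU'⟩ := exists_isAffineOpen_mem_and_subset (X := P.obj.left.left) (x := z)
    (U := (EtOver.prodSnd E E₂).hom.left.left ⁻¹ᵁ U') hzU'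
  let g₂ : Et.opn P Z ⟶ E₂ := Et.opnMap P Z ≫ EtOver.prodSnd E E₂
  have h2 : Set.range g₂.hom.left.left ⊆ Set.range U'.ι := by
    rintro _ ⟨y, rfl⟩
    rw [Scheme.Opens.range_ι]
    exact hZU' y.2
  obtain ⟨k, hk, hk'⟩ := openObj_hom he U'
  let l : (Et.opn P Z).obj.left ⟶ (openObj he U').obj.left :=
    Over.homMk (IsOpenImmersion.lift U'.ι g₂.hom.left.left h2) (by
      have h3 : (openObj he U').obj.left.hom = U'.ι ≫ U.hom := rfl
      rw [h3, ← Category.assoc, IsOpenImmersion.lift_fac]
      exact Over.w g₂.hom.left)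
  have hl : l ≫ k = g₂.hom.left := by
    ext : 1
    change IsOpenImmersion.lift U'.ι g₂.hom.left.left h2 ≫ k.left = _
    rw [hk]
    exact IsOpenImmersion.lift_fac _ _ _
  refine ⟨Et.opn P Z, Et.opnMap P Z ≫ EtOver.prodFst E E₂, ⟨z, hzZ⟩, U', EtOver.homMk l ?_, hZ, hz,
    hU'⟩
  rw [← hk', ← Category.assoc, ← Functor.map_comp, hl]
  exact EtOver.w g₂

end K612.ProjChart
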