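import Groth.Agent.AlgSp.K612.QuotLem
import Groth.Prelude.Def_AlgSpEt
/-!
Etale (more generally fppf) surjective representable morphisms of sheaves are effective epimorphisms; gluing of morphisms from an
algebraic space along a chart and along the objects of its small etale site.
-/

universe u

set_option backward.isDefEq.respectTransparency false

open CategoryTheory CategoryTheory.Limits AlgebraicGeometry Opposite

namespace K612.Chart

open AlgSp

variable {S : Scheme.{u}}

/-- fppf covers generate covering sieves over `S`. -/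
theorem sieve_mem {V T : Over S} (q : V ⟶ T) [Flat q.left] [Surjective q.left]
    [LocallyOfFinitePresentation q.left] (Sv : Sieve T) (h : Sv q) : Sv ∈ (J S) T := by
  rw [GrothendieckTopology.mem_over_iff]
  refine GrothendieckTopology.superset_covering _ ?_
    (Precoverage.generate_mem_toGrothendieck (Scheme.Hom.singleton_mem_fppfPrecoverage q.left))
  rw [Sieve.generate_le_iff]
  rintro Z _ ⟨⟩
  rw [Sieve.overEquiv_iff]
  have : (Over.homMk q.left : Over.mk (q.left ≫ T.hom) ⟶ T) =
      (Over.homMk (𝟙 _) (by simp) : Over.mk (q.left ≫ T.hom) ⟶ V) ≫ q := by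
    apply Over.OverMorphism.ext
    simp
  rw [this]
  exact Sv.downward_closed h _

/-- A representable fppf covering is locally surjective. -/
theorem isLocallySurjective {F G : Sp S} (f : F ⟶ G) (h : Representable f) (h1 : RepWith @Flat f)
    (h2 : RepWith @LocallyOfFinitePresentation f) (h3 : RepWith @Surjective f) :
    Sheaf.IsLocallySurjective f := by
  change Presheaf.IsLocallySurjective (J S) f.hom
  constructor
  intro T s
  let g : (yon S).obj T ⟶ G := (J S).uliftYonedaEquiv.symm s
  obtain ⟨V, fst, snd, sq⟩ := h g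
  have i1 : Flat fst.left := h1.2 g _ _ sq
  have i2 : LocallyOfFinitePresentation fst.left := h2.2 g _ _ sq
  have i3 : Surjective fst.left := h3.2 g _ _ sq
  refine sieve_mem fst _ ?_
  refine ⟨(J S).uliftYonedaEquiv snd, ?_⟩
  have h4 := congrArg (J S).uliftYonedaEquiv sq.w
  rw [GrothendieckTopology.uliftYonedaEquiv_comp, GrothendieckTopology.uliftYonedaEquiv_comp,
    GrothendieckTopology.uliftYonedaEquiv_uliftYoneda_map] at h4
  refine h4.trans ?_
  exact GrothendieckTopology.uliftYonedaEquiv_symm_app_apply _ _ _ _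

theorem epi_of_fppf {F G : Sp S} (f : F ⟶ G) (h : Representable f) (h1 : RepWith @Flat f)
    (h2 : RepWith @LocallyOfFinitePresentation f) (h3 : RepWith @Surjective f) : Epi f := by
  have := isLocallySurjective f h h1 h2 h3
  infer_instance

theorem repWith_mono {P Q : MorphismProperty Scheme.{u}} (hPQ : P ≤ Q) {F G : Sp S} {f : F ⟶ G}
    (h : RepWith P f) : RepWith Q f :=
  ⟨h.1, fun _ _ g fst snd sq => hPQ _ (h.2 g fst snd sq)⟩

theorem isLocallySurjective_of_etale {F G : Sp S} (f : F ⟶ G) (h : RepWith @Etale f)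
    (hs : RepWith @Surjective f) : Sheaf.IsLocallySurjective f :=
  isLocallySurjective f h.1 (repWith_mono (fun _ _ g (_ : Etale g) => inferInstanceAs (Flat g)) h)
    (repWith_mono (fun _ _ g (_ : Etale g) => inferInstanceAs (LocallyOfFinitePresentation g)) h) hs

theorem epi_of_etale {F G : Sp S} (f : F ⟶ G) (h : RepWith @Etale f) (hs : RepWith @Surjective f) :
    Epi f := by
  have := isLocallySurjective_of_etale f h hs
  infer_instance

/-- epimorphisms of sheaves are effective. -/
theorem effectiveEpi {F G : Sp S} (f : F ⟶ G) [Epi f] : EffectiveEpi f := by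
  have hr : IsRegularEpi f := IsRegularEpiCategory.regularEpiOfEpi _
  infer_instance

/-- Descent of morphisms along an epimorphism with given kernel pair. -/
theorem exists_desc {F G H R : Sp S} (f : F ⟶ G) [Epi f] {a b : R ⟶ F} (sq : IsPullback a b f f)
    (k : F ⟶ H) (hk : a ≫ k = b ≫ k) : ∃ l : G ⟶ H, f ≫ l = k := by
  have := effectiveEpi f
  have hc := isColimitCoforkOfEffectiveEpi f sq.cone sq.isLimit
  exact ⟨Cofork.IsColimit.desc hc k hk, Cofork.IsColimit.π_desc' hc _ _⟩

variable {X : Sp S}

/-- Gluing of morphisms along the small etale site: a compatible family of morphisms on the objects of the small etale site of a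
sheaf `X` with an etale surjective chart comes from a unique morphism `X ⟶ H`. -/
theorem existsUnique_glue {H : Sp S} {U : Over S} (p : (yon S).obj U ⟶ X) (hp : RepWith @Etale p)
    (hs : RepWith @Surjective p) (a : ∀ E : EtOver X, (yon S).obj E.obj.left ⟶ H)
    (ha : ∀ {E E' : EtOver X} (g : E ⟶ E'), (yon S).map g.hom.left ≫ a E' = a E) :
    ∃! f : X ⟶ H, ∀ E : EtOver X, E.obj.hom ≫ f = a E := by
  have hepi := epi_of_etale p hp hs
  let E₀ : EtOver X := EtOver.mk p hp
  obtain ⟨R, s, t, sq⟩ := hp.1 p
  obtain ⟨t, rfl⟩ := (yon S).map_surjective t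
  let ER : EtOver X := EtOver.mk ((yon S).map s ≫ p)
    ((repWith_isMultiplicative (S := S) @Etale).comp_mem _ _
      ((repWith_yon_map_iff _ _).2 (hp.2 p _ _ sq)) hp)
  let gs : ER ⟶ E₀ := EtOver.homMk s rfl
  let gt : ER ⟶ E₀ := EtOver.homMk t sq.w
  obtain ⟨f, hf⟩ := exists_desc p sq (a E₀) ((ha gt).trans (ha gs).symm)
  have hf' : ∀ E : EtOver X, E.obj.hom ≫ f = a E := by
    intro E
    obtain ⟨P, s, t, sq⟩ := hp.1 E.obj.hom
    obtain ⟨t, rfl⟩ := (yon S).map_surjective t
    have i1 : Etale s.left := hp.2 _ _ _ sq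
    have i2 : Surjective s.left := hs.2 _ _ _ sq
    have : Epi ((yon S).map s) :=
      epi_of_etale _ ((repWith_yon_map_iff _ _).2 i1) ((repWith_yon_map_iff _ _).2 i2)
    let EP : EtOver X := EtOver.mk ((yon S).map s ≫ E.obj.hom)
      ((repWith_isMultiplicative (S := S) @Etale).comp_mem _ _
        ((repWith_yon_map_iff _ _).2 i1) E.property)
    let gs : EP ⟶ E := EtOver.homMk s rfl
    let gt : EP ⟶ E₀ := EtOver.homMk t sq.w
    rw [← cancel_epi ((yon S).map s)]
    rw [← Category.assoc, ← sq.w, Category.assoc, hf]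
    exact (ha gt).trans (ha gs).symm
  refine ⟨f, hf', fun f' h' => ?_⟩
  rw [← cancel_epi p]
  exact (h' E₀).trans (hf' E₀).symm

end K612.Chart
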