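import Groth.Agent.AlgSp.K595.ChBaseAlg
import Groth.Agent.AlgSp.K610.ZarGlue
import Groth.Agent.AlgSp.K625.Prod
import Groth.Agent.AlgSp.K596.QC2
import Groth.Agent.Sga5.H846.DvrOver
import Mathlib.RingTheory.DedekindDomain.Ideal.Lemmas

/-!
# Representability after a change of base, and finite extensions of semi-local Dedekind domains

`isRepresentable_R`: if `F ⨯ h_T` is a scheme, for `T = (S ⟶ S')`, then `F` becomes a scheme over `S`.
`semilocal`: the integral closure of a semi-local Dedekind domain (not a field) in a finite extension of its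
fraction field is of the same kind. `exists_common`: two finite extensions lie in a third.
-/

set_option autoImplicit false
set_option backward.isDefEq.respectTransparency false
universe u

open CategoryTheory CategoryTheory.Limits AlgebraicGeometry Opposite AlgSp

namespace K612.ChRep

section cat

variable {C : Type*} [Category C]

/-- `A` is the pullback of the projection `A × B ⟶ B` along a point of `B`. -/
theorem isPullback_of_prod {A B P T : C} {p : P ⟶ A} {q : P ⟶ B} (hP : IsLimit (BinaryFan.mk p q))
    (hT : IsTerminal T) (σ : T ⟶ B) :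
    ∃ s : A ⟶ P, s ≫ p = 𝟙 A ∧ IsPullback s (hT.from A) q σ := by
  obtain ⟨s, h1, h2⟩ := BinaryFan.IsLimit.lift' hP (𝟙 A) (hT.from A ≫ σ)
  refine ⟨s, h1, ⟨⟨h2⟩, ⟨PullbackCone.IsLimit.mk _ (fun c => c.fst ≫ p) ?_ ?_ ?_⟩⟩⟩
  · intro c
    refine BinaryFan.IsLimit.hom_ext hP ?_ ?_
    · change ((c.fst ≫ p) ≫ s) ≫ p = c.fst ≫ p
      rw [Category.assoc]
      erw [h1]
      rw [Category.comp_id]
    · change ((c.fst ≫ p) ≫ s) ≫ q = c.fst ≫ q
      rw [Category.assoc]
      erw [h2]
      rw [← Category.assoc, c.condition]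
      congr 1
      exact hT.hom_ext _ _
  · intro c
    exact hT.hom_ext _ _
  · intro c m h3 _
    rw [← h3, Category.assoc]
    erw [h1]
    rw [Category.comp_id]

end cat

section rep

variable {S S' : Scheme.{u}} (g : S ⟶ S')

open K595.ChBase

theorem isRepresentable_R_yon (T : Over S') : ((R g).obj ((yon S').obj T)).obj.IsRepresentable :=
  ⟨_, ⟨repR T⟩⟩

theorem isRepresentable_R_of_rep {F : Sp S'} (h : F.obj.IsRepresentable) : ((R g).obj F).obj.IsRepresentable := by
  obtain ⟨H, ⟨e⟩⟩ := K610.ZarGlue.isRepresentable_iff.1 h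
  exact K610.ZarGlue.isRepresentable_iff.2 ⟨_, ⟨yonIsoR H ≪≫ (R g).mapIso e⟩⟩

/-- If `F ⨯ h_(S ⟶ S')` is a scheme then `F` is a scheme over `S`. -/
theorem isRepresentable_R (F : Sp S') (h : (F ⨯ (yon S').obj (Over.mk g)).obj.IsRepresentable) :
    ((R g).obj F).obj.IsRepresentable := by
  obtain ⟨Q, ⟨e⟩⟩ := K610.ZarGlue.isRepresentable_iff.1 (isRepresentable_R_of_rep g h)
  have hl : IsLimit (BinaryFan.mk ((R g).map (prod.fst : F ⨯ (yon S').obj (Over.mk g) ⟶ F))
      ((R g).map (prod.snd : F ⨯ (yon S').obj (Over.mk g) ⟶ _))) :=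
    mapIsLimitOfPreservesOfIsLimit (R g) _ _ (prodIsProd F ((yon S').obj (Over.mk g)))
  -- the point of `R h_(S ⟶ S')`
  let σ : (yon S).obj (Over.mk (𝟙 S)) ⟶ (R g).obj ((yon S').obj (Over.mk g)) :=
    homOf (F := (R g).obj ((yon S').obj (Over.mk g)))
      (⟨Over.homMk (𝟙 S)⟩ : ULift ((Over.map g).obj (Over.mk (𝟙 S)) ⟶ Over.mk g))
  obtain ⟨s, -, sq⟩ := isPullback_of_prod hl (K596.QC2.isTerminalYon S) σ
  have hr : Representable (e.hom ≫ (R g).map (prod.snd : F ⨯ (yon S').obj (Over.mk g) ⟶ _)) :=
    representable_to_R_yon _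
  have hr' : Representable ((R g).map (prod.snd : F ⨯ (yon S').obj (Over.mk g) ⟶ _)) :=
    ((Representable (S := S)).cancel_left_of_respectsIso e.hom _).1 hr
  obtain ⟨V, v, fst, sq'⟩ := hr' σ
  exact K610.ZarGlue.isRepresentable_iff.2 ⟨V, ⟨sq'.isoIsPullback _ _ sq⟩⟩

end rep

section dedekind

variable (R : Type u) [CommRing R] [IsDedekindDomain R] (K L : Type u) [Field K] [Algebra R K]
  [IsFractionRing R K] [Field L] [Algebra K L] [FiniteDimensional K L] [Algebra R L] [IsScalarTower R K L]

include K in
theorem isDedekindDomain : IsDedekindDomain (integralClosure R L) :=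
  Groth.Agent.Sga5.H846.DvrOver.isDedekindDomain R K L

omit [IsDedekindDomain R] [FiniteDimensional K L] in
include K in
theorem not_isField (h : ¬ IsField R) : ¬ IsField (integralClosure R L) := fun h' => by
  have hinj : Function.Injective (algebraMap R (integralClosure R L)) := by
    have h : Function.Injective (algebraMap R L) := by
      rw [IsScalarTower.algebraMap_eq R K L]
      exact (algebraMap K L).injective.comp (IsFractionRing.injective R K)
    intro a b hab
    exact h (congrArg (algebraMap (integralClosure R L) L) hab)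
  exact h (isField_of_isIntegral_of_isField hinj h')

include K in
theorem finite_maximalSpectrum [Finite (MaximalSpectrum R)] :
    Finite (MaximalSpectrum (integralClosure R L)) := by
  have := isDedekindDomain R K L
  have hinj : Function.Injective (algebraMap R (integralClosure R L)) := by
    have h : Function.Injective (algebraMap R L) := by
      rw [IsScalarTower.algebraMap_eq R K L]
      exact (algebraMap K L).injective.comp (IsFractionRing.injective R K)
    intro a b hab
    exact h (congrArg (algebraMap (integralClosure R L) L) hab)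
  have htf : Module.IsTorsionFree R (integralClosure R L) := by
    rw [Module.isTorsionFree_iff_algebraMap_injective]
    exact hinj
  have hfin : (⋃ q : MaximalSpectrum R, (Ideal.primesOver q.asIdeal (integralClosure R L))).Finite :=
    Set.finite_iUnion fun q => IsDedekindDomain.primesOver_finite _ _
  have := hfin.to_subtype
  refine Finite.of_injective (fun Q : MaximalSpectrum (integralClosure R L) =>
    (⟨Q.asIdeal, Set.mem_iUnion.2 ⟨⟨Q.asIdeal.under R, ?_⟩, ?_⟩⟩ :
      (⋃ q : MaximalSpectrum R, (Ideal.primesOver q.asIdeal (integralClosure R L)) : Set _))) ?_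
  · have := Q.isMaximal
    exact Ideal.isMaximal_comap_of_isIntegral_of_isMaximal Q.asIdeal
  · exact ⟨Q.isMaximal.isPrime, ⟨rfl⟩⟩
  · intro Q Q' h
    exact MaximalSpectrum.ext (congrArg Subtype.val h)

end dedekind

/-- Two finite extensions are contained in a third one. -/
theorem exists_common (K : Type u) [Field K] (K₁ K₂ : Type u) [Field K₁] [Algebra K K₁] [Field K₂] [Algebra K K₂]
    [FiniteDimensional K K₁] [FiniteDimensional K K₂] :
    ∃ (L : Type u) (_ : Field L) (_ : Algebra K L), FiniteDimensional K L ∧ Nonempty (K₁ →ₐ[K] L) ∧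
      Nonempty (K₂ →ₐ[K] L) := by
  let φ₁ : K₁ →ₐ[K] AlgebraicClosure K := IsAlgClosed.lift
  let φ₂ : K₂ →ₐ[K] AlgebraicClosure K := IsAlgClosed.lift
  have h1 : FiniteDimensional K φ₁.fieldRange := φ₁.equivFieldRange.toLinearEquiv.finiteDimensional
  have h2 : FiniteDimensional K φ₂.fieldRange := φ₂.equivFieldRange.toLinearEquiv.finiteDimensional
  refine ⟨↥(φ₁.fieldRange ⊔ φ₂.fieldRange), inferInstance, inferInstance, inferInstance, ⟨?_⟩, ⟨?_⟩⟩
  · exact (IntermediateField.inclusion le_sup_left).comp φ₁.rangeRestrict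
  · exact (IntermediateField.inclusion le_sup_right).comp φ₂.rangeRestrict

end K612.ChRep
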