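import Groth.Agent.AlgSp.K622.AnDefs
import Groth.Agent.AlgSp.K637.FpqcLocal
import Groth.Agent.AlgSp.K608.Field
import Groth.Agent.AlgSp.K607.Act
import Groth.Agent.AlgSp.K613.Chart
import Groth.Agent.AlgSp.K629.LocSurj

/-!
# The orbit maps of a homogeneous space are flat

`main`: `G` a group algebraic space over `S` acting on an algebraic space `M`, homogeneous (`G × M ⟶ M × M`
is an epimorphism of fppf sheaves).  Then the orbit map `G_k ⟶ M_k` of every point of `M` with values in a
field `k` over `S` is flat.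
-/

set_option autoImplicit false
universe u

open CategoryTheory CategoryTheory.Limits AlgebraicGeometry MonoidalCategory MonObj CartesianMonoidalCategory AlgSp
open K622.AnDefs

noncomputable section

namespace K612.OrbFlat

variable {S : Scheme.{u}} {G M : Over ((yon S).obj (Over.mk (𝟙 S)))}

/-- The object of `Over 1` defined by a sheaf. -/
abbrev ov (F : Sp S) : Over ((yon S).obj (Over.mk (𝟙 S))) := Over.mk ((K596.QC2.isTerminalYon S).from F)

/-- A morphism of sheaves as a morphism over the final object. -/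
def up {F : Sp S} {N : Over ((yon S).obj (Over.mk (𝟙 S)))} (g : F ⟶ N.left) : ov F ⟶ N :=
  Over.homMk g ((K596.QC2.isTerminalYon S).hom_ext _ _)

@[simp] theorem up_left {F : Sp S} {N : Over ((yon S).obj (Over.mk (𝟙 S)))} (g : F ⟶ N.left) :
    (up g).left = g := rfl

theorem up_of_left {F : Sp S} {N : Over ((yon S).obj (Over.mk (𝟙 S)))} (g : ov F ⟶ N) :
    up g.left = g := Over.OverMorphism.ext rfl

theorem hom_ext1 {F : Sp S} {a b : F ⟶ (yon S).obj (Over.mk (𝟙 S))} : a = b :=
  (K596.QC2.isTerminalYon S).hom_ext _ _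

/-- The pair `(g, m)` as a point of `G × M`. -/
def pr {F : Sp S} (g : F ⟶ G.left) (m : F ⟶ M.left) : F ⟶ (G ⊗ M).left :=
  pullback.lift g m hom_ext1

theorem pr_eq {F : Sp S} (g : F ⟶ G.left) (m : F ⟶ M.left) : pr g m = (lift (up g) (up m)).left := rfl

theorem comp_pr {F F' : Sp S} (r : F' ⟶ F) (g : F ⟶ G.left) (m : F ⟶ M.left) :
    r ≫ pr g m = pr (r ≫ g) (r ≫ m) := by
  refine pullback.hom_ext (f := G.hom) (g := M.hom) ?_ ?_
  · exact (Category.assoc _ _ _).trans ((congrArg (r ≫ ·) (pullback.lift_fst _ _ _)).trans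
      (pullback.lift_fst _ _ _).symm)
  · exact (Category.assoc _ _ _).trans ((congrArg (r ≫ ·) (pullback.lift_snd _ _ _)).trans
      (pullback.lift_snd _ _ _).symm)

variable [GrpObj G] (act : GAction G M)

/-- The action on points. -/
def op {F : Sp S} (g : F ⟶ G.left) (m : F ⟶ M.left) : F ⟶ M.left := pr g m ≫ act.act.left

/-- The product of points. -/
def mul {F : Sp S} (g h : F ⟶ G.left) : F ⟶ G.left := (up g * up h).left

/-- The inverse of a point. -/
def inv {F : Sp S} (g : F ⟶ G.left) : F ⟶ G.left := ((up g)⁻¹).left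

theorem comp_op {F F' : Sp S} (r : F' ⟶ F) (g : F ⟶ G.left) (m : F ⟶ M.left) :
    r ≫ op act g m = op act (r ≫ g) (r ≫ m) := by
  rw [op, op, ← Category.assoc, comp_pr]

theorem op_mul {F : Sp S} (g h : F ⟶ G.left) (m : F ⟶ M.left) :
    op act (mul g h) m = op act g (op act h m) := by
  have h1 := congrArg (fun f => f.left) (K607.Act.act_mul act (up g) (up h) (up m))
  exact h1

theorem op_one {F : Sp S} (m : F ⟶ M.left) : op act ((1 : ov F ⟶ G).left) m = m :=
  congrArg (fun f => f.left) (K607.Act.act_one act (up m))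

theorem mul_assoc' {F : Sp S} (g h k : F ⟶ G.left) : mul (mul g h) k = mul g (mul h k) := by
  have h1 := congrArg (fun f => f.left) (mul_assoc (up g) (up h) (up k))
  exact h1

theorem inv_mul' {F : Sp S} (g : F ⟶ G.left) : mul (inv g) g = (1 : ov F ⟶ G).left :=
  congrArg (fun f => f.left) (inv_mul_cancel (up g))

theorem mul_inv' {F : Sp S} (g : F ⟶ G.left) : mul g (inv g) = (1 : ov F ⟶ G).left :=
  congrArg (fun f => f.left) (mul_inv_cancel (up g))

theorem one_mul' {F : Sp S} (g : F ⟶ G.left) : mul ((1 : ov F ⟶ G).left) g = g :=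
  congrArg (fun f : ov F ⟶ G => f.left) (_root_.one_mul (up g))

theorem comp_mul {F F' : Sp S} (r : F' ⟶ F) (g h : F ⟶ G.left) : r ≫ mul g h = mul (r ≫ g) (r ≫ h) := by
  have h1 := congrArg (fun f => f.left) (MonObj.comp_mul (Over.homMk r hom_ext1 : ov F' ⟶ ov F) (up g) (up h))
  exact h1

theorem comp_inv {F F' : Sp S} (r : F' ⟶ F) (g : F ⟶ G.left) : r ≫ inv g = inv (r ≫ g) := by
  have h1 : mul (r ≫ inv g) (r ≫ g) = (1 : ov F' ⟶ G).left := by
    rw [← comp_mul, inv_mul']
    exact congrArg (fun f => f.left) (MonObj.comp_one (M := G) (Over.homMk r hom_ext1 : ov F' ⟶ ov F))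
  have h2 : mul (mul (r ≫ inv g) (r ≫ g)) (inv (r ≫ g)) = inv (r ≫ g) := by rw [h1, one_mul']
  rw [mul_assoc', mul_inv'] at h2
  have h3 : mul (r ≫ inv g) ((1 : ov F' ⟶ G).left) = r ≫ inv g :=
    congrArg (fun f : ov F' ⟶ G => f.left) (_root_.mul_one (up (r ≫ inv g)))
  rw [← h3, h2]

theorem inv_mul_cancel' {F : Sp S} (g h : F ⟶ G.left) : mul (inv g) (mul g h) = h := by
  rw [← mul_assoc', inv_mul', one_mul']

theorem mul_inv_cancel' {F : Sp S} (g h : F ⟶ G.left) : mul g (mul (inv g) h) = h := by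
  rw [← mul_assoc', mul_inv', one_mul']

variable {T : Over S} (x : (yon S).obj T ⟶ M.left)

/-- The structure map of a test scheme. -/
abbrev st (T : Over S) : (yon S).obj T ⟶ (yon S).obj (Over.mk (𝟙 S)) :=
  (yon S).map (Over.homMk T.hom (Category.comp_id T.hom) : T ⟶ Over.mk (𝟙 S))

theorem orb_fst : orb act x ≫ pullback.fst _ _ =
    op act (pullback.fst G.hom (st T)) (pullback.snd G.hom (st T) ≫ x) :=
  pullback.lift_fst _ _ _

theorem orb_snd : orb act x ≫ pullback.snd _ _ = pullback.snd G.hom (st T) :=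
  pullback.lift_snd _ _ _

/-- Equality of the orbit map on two points. -/
theorem comp_orb_eq {F : Sp S} {N : F ⟶ pullback G.hom (st T)} {b : F ⟶ pullback M.hom (st T)} :
    N ≫ orb act x = b ↔
      op act (N ≫ pullback.fst _ _) (N ≫ pullback.snd _ _ ≫ x) = b ≫ pullback.fst _ _ ∧
        N ≫ pullback.snd _ _ = b ≫ pullback.snd _ _ := by
  constructor
  · rintro rfl
    rw [Category.assoc, Category.assoc, orb_fst, orb_snd, comp_op]
    exact ⟨rfl, rfl⟩
  · rintro ⟨h1, h2⟩
    apply pullback.hom_ext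
    · rw [Category.assoc, orb_fst, comp_op, h1]
    · rw [Category.assoc, orb_snd, h2]

/-- The section of `M_T ⟶ T` defined by `x`. -/
def sec : (yon S).obj T ⟶ pullback M.hom (st T) := pullback.lift x (𝟙 _) hom_ext1

/-- The stabilizer of `x`. -/
abbrev Stab := pullback (orb act x) (sec x)

variable {W : Sp S} (w : W ⟶ pullback G.hom (st T))

theorem stab_cond : op act (pullback.fst (orb act x) (sec x) ≫ pullback.fst _ _)
      (pullback.snd (orb act x) (sec x) ≫ x) = pullback.snd (orb act x) (sec x) ≫ x ∧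
    pullback.fst (orb act x) (sec x) ≫ pullback.snd _ _ = pullback.snd (orb act x) (sec x) := by
  have h := (comp_orb_eq act x).1 (pullback.condition (f := orb act x) (g := sec x))
  have h2 : pullback.fst (orb act x) (sec x) ≫ pullback.snd _ _ = pullback.snd (orb act x) (sec x) := by
    rw [h.2, Category.assoc, sec, pullback.lift_snd, Category.comp_id]
  refine ⟨?_, h2⟩
  have h1 := h.1
  rw [reassoc_of% h2, Category.assoc (pullback.snd _ _), sec, pullback.lift_fst] at h1
  exact h1

/-- The fibre product of the orbit map with `w ≫ orb` is the base change of the stabilizer. -/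
theorem exists_isPullback : ∃ φ : pullback (orb act x) (w ≫ orb act x) ⟶ Stab act x,
    IsPullback φ (pullback.snd (orb act x) (w ≫ orb act x)) (pullback.snd (orb act x) (sec x))
      (w ≫ pullback.snd _ _) := by
  set p1 := pullback.fst (orb act x) (w ≫ orb act x) with hp1
  set p2 := pullback.snd (orb act x) (w ≫ orb act x) with hp2
  have hc : p1 ≫ orb act x = (p2 ≫ w) ≫ orb act x := by
    rw [Category.assoc]; exact pullback.condition
  have hc' := (comp_orb_eq act x).1 hc
  have hc2 : p1 ≫ pullback.snd _ _ = p2 ≫ w ≫ pullback.snd _ _ := by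
    rw [hc'.2, Category.assoc, Category.assoc, orb_snd]
  have hc1 : op act (p1 ≫ pullback.fst _ _) (p1 ≫ pullback.snd _ _ ≫ x) =
      op act ((p2 ≫ w) ≫ pullback.fst _ _) (p1 ≫ pullback.snd _ _ ≫ x) := by
    have h := hc'.1
    rw [Category.assoc (p2 ≫ w), orb_fst, comp_op] at h
    rw [h]
    congr 1
    rw [reassoc_of% hc2, Category.assoc]
  -- the translated point
  let q : pullback (orb act x) (w ≫ orb act x) ⟶ pullback G.hom (st T) :=
    pullback.lift (mul (inv ((p2 ≫ w) ≫ pullback.fst _ _)) (p1 ≫ pullback.fst _ _)) (p1 ≫ pullback.snd _ _) hom_ext1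
  have hq1 : q ≫ pullback.fst _ _ = mul (inv ((p2 ≫ w) ≫ pullback.fst _ _)) (p1 ≫ pullback.fst _ _) :=
    pullback.lift_fst _ _ _
  have hq2 : q ≫ pullback.snd _ _ = p1 ≫ pullback.snd _ _ := pullback.lift_snd _ _ _
  have hq : q ≫ orb act x = (p1 ≫ pullback.snd _ _) ≫ sec x := by
    rw [comp_orb_eq]
    refine ⟨?_, ?_⟩
    · rw [hq1, reassoc_of% hq2, op_mul, hc1, ← op_mul, inv_mul', op_one, Category.assoc, sec, pullback.lift_fst,
        Category.assoc]
    · rw [hq2, Category.assoc (p1 ≫ _), sec, pullback.lift_snd, Category.comp_id]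
  let φ : pullback (orb act x) (w ≫ orb act x) ⟶ Stab act x := pullback.lift q (p1 ≫ pullback.snd _ _) hq
  have hφ1 : φ ≫ pullback.fst _ _ = q := pullback.lift_fst _ _ _
  have hφ2 : φ ≫ pullback.snd _ _ = p1 ≫ pullback.snd _ _ := pullback.lift_snd _ _ _
  have hl : ∀ s : PullbackCone (pullback.snd (orb act x) (sec x)) (w ≫ pullback.snd _ _),
      (pullback.lift (mul ((s.snd ≫ w) ≫ pullback.fst _ _)
        (s.fst ≫ pullback.fst _ _ ≫ pullback.fst _ _)) (s.fst ≫ pullback.snd _ _) hom_ext1 :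
          s.pt ⟶ pullback G.hom (st T)) ≫ orb act x = s.snd ≫ w ≫ orb act x := by
    intro s
    have hs : s.fst ≫ pullback.snd _ _ = (s.snd ≫ w) ≫ pullback.snd _ _ := by
      rw [Category.assoc]; exact s.condition
    have h1 := congrArg (s.fst ≫ ·) (stab_cond act x).1
    simp only [comp_op] at h1
    rw [comp_orb_eq, pullback.lift_fst, pullback.lift_snd_assoc, pullback.lift_snd, ← Category.assoc s.snd,
      Category.assoc (s.snd ≫ w), Category.assoc (s.snd ≫ w), orb_fst, orb_snd, comp_op, op_mul,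
      Category.assoc (s.fst), h1, ← Category.assoc s.fst, hs, Category.assoc]
    exact ⟨rfl, rfl⟩
  refine ⟨φ, ⟨⟨by rw [hφ2, hc2]⟩, ⟨PullbackCone.IsLimit.mk _
    (fun s => pullback.lift (pullback.lift (mul ((s.snd ≫ w) ≫ pullback.fst _ _)
      (s.fst ≫ pullback.fst _ _ ≫ pullback.fst _ _)) (s.fst ≫ pullback.snd _ _) hom_ext1) s.snd (hl s))
    (fun s => ?_) (fun s => pullback.lift_snd _ _ _)
    (fun s m h1 h2 => ?_)⟩⟩⟩
  · obtain ⟨N, hN⟩ : ∃ N : s.pt ⟶ pullback G.hom (st T), N = pullback.lift (mul ((s.snd ≫ w) ≫ pullback.fst _ _)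
      (s.fst ≫ pullback.fst _ _ ≫ pullback.fst _ _)) (s.fst ≫ pullback.snd _ _) hom_ext1 := ⟨_, rfl⟩
    have hN1 : N ≫ pullback.fst _ _ = mul ((s.snd ≫ w) ≫ pullback.fst _ _)
      (s.fst ≫ pullback.fst _ _ ≫ pullback.fst _ _) := by rw [hN, pullback.lift_fst]
    have hN2 : N ≫ pullback.snd _ _ = s.fst ≫ pullback.snd _ _ := by rw [hN, pullback.lift_snd]
    have hlN : N ≫ orb act x = s.snd ≫ w ≫ orb act x := by rw [hN]; exact hl s
    obtain ⟨L, hL⟩ : ∃ L : s.pt ⟶ pullback (orb act x) (w ≫ orb act x), L = pullback.lift N s.snd hlN := ⟨_, rfl⟩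
    have e1 : L ≫ p1 = N := by rw [hL]; exact pullback.lift_fst _ _ _
    have e2 : L ≫ p2 = s.snd := by rw [hL]; exact pullback.lift_snd _ _ _
    have hL' : pullback.lift (pullback.lift (mul ((s.snd ≫ w) ≫ pullback.fst _ _)
      (s.fst ≫ pullback.fst _ _ ≫ pullback.fst _ _)) (s.fst ≫ pullback.snd _ _) hom_ext1) s.snd (hl s) = L := by
      rw [hL]; subst hN; rfl
    rw [hL']
    apply pullback.hom_ext
    · rw [Category.assoc, hφ1]
      apply pullback.hom_ext
      · rw [Category.assoc, hq1, comp_mul, comp_inv, reassoc_of% e1, hN1, Category.assoc p2,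
          reassoc_of% e2, ← Category.assoc s.snd, inv_mul_cancel', Category.assoc]
      · rw [Category.assoc, hq2, reassoc_of% e1, hN2, Category.assoc, (stab_cond act x).2]
    · rw [Category.assoc, hφ2, reassoc_of% e1, hN2]
  · have h3 : (m ≫ φ) ≫ pullback.fst _ _ ≫ pullback.fst _ _ = s.fst ≫ pullback.fst _ _ ≫ pullback.fst _ _ := by
      rw [h1]
    have h4 : (m ≫ φ) ≫ pullback.snd _ _ = s.fst ≫ pullback.snd _ _ := by rw [h1]
    rw [Category.assoc, reassoc_of% hφ1, hq1, comp_mul, comp_inv, Category.assoc p2, reassoc_of% h2] at h3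
    rw [Category.assoc, hφ2] at h4
    apply pullback.hom_ext
    · rw [pullback.lift_fst]
      apply pullback.hom_ext
      · rw [pullback.lift_fst, ← h3, Category.assoc s.snd, mul_inv_cancel', Category.assoc]
      · rw [pullback.lift_snd, ← h4, Category.assoc]
    · rw [pullback.lift_snd]
      exact h2

variable (hG : IsAlgSpace G.left) (hM : IsAlgSpace M.left)

include hG hM in
theorem flat_snd {k : Type u} [Field k] {t : Spec (CommRingCat.of k) ⟶ S}
    (x : (yon S).obj (Over.mk t) ⟶ M.left) {W : Over S}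
    (w : (yon S).obj W ⟶ pullback G.hom (st (Over.mk t))) :
    LocP @Flat (pullback.snd (orb act x) (w ≫ orb act x)) := by
  obtain ⟨φ, hφ⟩ := exists_isPullback act x w
  have h1 : IsAlgSpace ((yon S).obj (Over.mk (𝟙 S))) := IsAlgSpace.yon_obj _
  have h2 : IsAlgSpace (pullback G.hom (st (Over.mk t))) :=
    K613.Chart.isAlgSpace_pullback hG (IsAlgSpace.yon_obj _) h1 _ _
  have h3 : IsAlgSpace (pullback M.hom (st (Over.mk t))) :=
    K613.Chart.isAlgSpace_pullback hM (IsAlgSpace.yon_obj _) h1 _ _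
  have h4 : IsAlgSpace (Stab act x) := K613.Chart.isAlgSpace_pullback h2 (IsAlgSpace.yon_obj _) h3 _ _
  exact K597.locP_bc K597.etLoc_flat hφ h4.hasAtlas (IsAlgSpace.yon_obj _).hasAtlas (IsAlgSpace.yon_obj _).hasAtlas
    (K608.Field.locP_flat_to_field _)

/-- Local lifting through the orbit map. -/
theorem exists_lift (he : Epi (lift act.act (snd G M)).left) {T : Over S} (x : (yon S).obj T ⟶ M.left)
    {U : Over S} (b : (yon S).obj U ⟶ pullback M.hom (st T)) :
    ∃ (I : Type u) (W : I → Over S) (c : ∀ i, W i ⟶ U) (l : ∀ i, (yon S).obj (W i) ⟶ pullback G.hom (st T)),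
      (∀ i, l i ≫ orb act x = (yon S).map (c i) ≫ b) ∧
      (∀ i, (@Flat ⊓ @LocallyOfFinitePresentation : MorphismProperty Scheme.{u}) (c i).left) ∧
      ∀ v : ↥U.left, ∃ i, v ∈ Set.range (c i).left := by
  obtain ⟨I, W, c, l, hl, hc, hs⟩ := K629.Fppf.exists_lift ((Sheaf.isLocallySurjective_iff_epi _).2 he)
    (pr (b ≫ pullback.fst _ _) (b ≫ pullback.snd _ _ ≫ x) : (yon S).obj U ⟶ (M ⊗ M).left)
  refine ⟨I, W, c, fun i => pullback.lift (l i ≫ pullback.fst G.hom M.hom) ((yon S).map (c i) ≫ b ≫ pullback.snd _ _)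
    hom_ext1, fun i => ?_, hc, hs⟩
  have h1 : (l i ≫ pullback.snd G.hom M.hom) = (yon S).map (c i) ≫ b ≫ pullback.snd _ _ ≫ x := by
    have h := congrArg (fun f => f ≫ pullback.snd M.hom M.hom) (hl i)
    have h2 : (lift act.act (snd G M)).left ≫ pullback.snd M.hom M.hom = pullback.snd G.hom M.hom :=
      congrArg (fun f => f.left) (lift_snd act.act (snd G M))
    have h3 : (pr (b ≫ pullback.fst _ _) (b ≫ pullback.snd _ _ ≫ x) : (yon S).obj U ⟶ (M ⊗ M).left) ≫
      pullback.snd M.hom M.hom = b ≫ pullback.snd _ _ ≫ x := pullback.lift_snd _ _ _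
    rw [← h2, ← h3]
    exact (Category.assoc _ _ _).symm.trans (h.trans (Category.assoc _ _ _))
  have h2 : op act (l i ≫ pullback.fst G.hom M.hom) (l i ≫ pullback.snd G.hom M.hom) =
      (yon S).map (c i) ≫ b ≫ pullback.fst _ _ := by
    have h := congrArg (fun f => f ≫ pullback.fst M.hom M.hom) (hl i)
    have h2 : (lift act.act (snd G M)).left ≫ pullback.fst M.hom M.hom = act.act.left :=
      congrArg (fun f => f.left) (lift_fst act.act (snd G M))
    have h3 : (pr (b ≫ pullback.fst _ _) (b ≫ pullback.snd _ _ ≫ x) : (yon S).obj U ⟶ (M ⊗ M).left) ≫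
      pullback.fst M.hom M.hom = b ≫ pullback.fst _ _ := pullback.lift_fst _ _ _
    have h4 : pr (l i ≫ pullback.fst G.hom M.hom) (l i ≫ pullback.snd G.hom M.hom) = l i := by
      refine pullback.hom_ext (f := G.hom) (g := M.hom) ?_ ?_
      · exact pullback.lift_fst _ _ _
      · exact pullback.lift_snd _ _ _
    rw [op, h4, ← h2, ← h3]
    exact (Category.assoc _ _ _).symm.trans (h.trans (Category.assoc _ _ _))
  rw [comp_orb_eq]
  refine ⟨?_, ?_⟩
  · rw [pullback.lift_fst, pullback.lift_snd_assoc, Category.assoc, Category.assoc, Category.assoc, ← h1, h2]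
  · rw [pullback.lift_snd, Category.assoc]

omit [GrpObj G] in
/-- Flatness is local on the target for jointly surjective flat families. -/
theorem flat_of_family {U V : Scheme.{u}} (h : U ⟶ V) {I : Type u} (T : I → Scheme.{u}) (c : ∀ i, T i ⟶ V)
    (hc : ∀ i, Flat (c i)) (hs : ∀ v : V, ∃ i, v ∈ Set.range (c i)) (A : I → Scheme.{u}) (p : ∀ i, A i ⟶ U)
    (q : ∀ i, A i ⟶ T i) (sq : ∀ i, IsPullback (p i) (q i) h (c i)) (hq : ∀ i, Flat (q i)) : Flat h := by
  have hp : ∀ i, Flat (p i) := fun i => MorphismProperty.of_isPullback (P := @Flat) (sq i).flip (hc i)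
  let g : (∐ A) ⟶ U := Sigma.desc p
  have hι : ∀ i, Sigma.ι A i ≫ g = p i := fun i => Sigma.ι_desc _ _
  have hg : Flat g := by
    rw [IsZariskiLocalAtSource.iff_of_openCover (P := @Flat) (sigmaOpenCover _)]
    intro i
    change Flat (Sigma.ι A i ≫ g)
    rw [hι i]
    exact hp i
  have hgs : Surjective g := by
    constructor
    intro y
    obtain ⟨i, t, ht⟩ := hs (h y)
    obtain ⟨z, hz, -⟩ := Scheme.exists_preimage_of_isPullback (sq i) y t ht.symm
    refine ⟨Sigma.ι A i z, ?_⟩
    rw [← Scheme.Hom.comp_apply, hι, hz]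
  refine K629.SchDesc.flat g h hg hgs ?_
  rw [IsZariskiLocalAtSource.iff_of_openCover (P := @Flat) (sigmaOpenCover _)]
  intro i
  change Flat (Sigma.ι A i ≫ g ≫ h)
  rw [← Category.assoc, hι i, (sq i).w]
  have := hq i
  have := hc i
  infer_instance

include hG hM in
/-- **The orbit maps of a homogeneous space are flat.** -/
theorem orbFlat (he : Epi (lift act.act (snd G M)).left) : OrbFlat act := by
  intro k _ t x U V a b h ha hb hab
  obtain ⟨I, T, c, l, hl, hc, hs⟩ := exists_lift act he x b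
  -- `R = V ×_M V`
  obtain ⟨R, r₁, r₂, hR, hr₂⟩ := K629.Basic.exists_pb_yon hb b
  have hr₁ : Etale r₁.left := K629.Basic.repWith_prop hb hR.flip
  obtain ⟨δ, hδ⟩ := (yon S).map_surjective (hR.lift (𝟙 _) (𝟙 _) rfl)
  have hδ₁ : δ ≫ r₁ = 𝟙 _ := (yon S).map_injective (by rw [Functor.map_comp, hδ, hR.lift_fst, CategoryTheory.Functor.map_id])
  have hδ₂ : δ ≫ r₂ = 𝟙 _ := (yon S).map_injective (by rw [Functor.map_comp, hδ, hR.lift_snd, CategoryTheory.Functor.map_id])
  let T' : I → Over S := fun i => pullback r₂ (c i)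
  let c' : ∀ i, T' i ⟶ V := fun i => pullback.fst r₂ (c i) ≫ r₁
  have hsq : ∀ i, IsPullback (pullback.fst r₂ (c i)).left (pullback.snd r₂ (c i)).left r₂.left (c i).left :=
    fun i => (IsPullback.of_hasPullback r₂ (c i)).map (Over.forget S)
  have hsnd : ∀ i, Etale (pullback.snd r₂ (c i)).left := fun i =>
    MorphismProperty.of_isPullback (P := @Etale) (hsq i) hr₂
  have hfst : ∀ i, Flat (pullback.fst r₂ (c i)).left := fun i =>
    MorphismProperty.of_isPullback (P := @Flat) (hsq i).flip (hc i).1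
  have hc' : ∀ i, Flat (c' i).left := fun i => by
    have := hfst i
    change Flat ((pullback.fst r₂ (c i)).left ≫ r₁.left)
    infer_instance
  have sqT : ∀ i, IsPullback ((yon S).map (c' i)) ((yon S).map (pullback.snd r₂ (c i))) b
      ((yon S).map (c i) ≫ b) := fun i => by
    have h1 := ((IsPullback.of_hasPullback r₂ (c i)).map (yon S)).paste_horiz hR
    rw [← Functor.map_comp] at h1
    exact h1
  refine flat_of_family h.left (fun i => (T' i).left) (fun i => (c' i).left) hc' (fun v => ?_)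
    (fun i => (pullback h (c' i)).left) (fun i => (pullback.fst h (c' i)).left)
    (fun i => (pullback.snd h (c' i)).left)
    (fun i => (IsPullback.of_hasPullback h (c' i)).map (Over.forget S)) (fun i => ?_)
  · obtain ⟨i, z, hz⟩ := hs v
    refine ⟨i, (pullback.lift (c i ≫ δ) (𝟙 _) (by rw [Category.assoc, hδ₂, Category.comp_id, Category.id_comp]) :
      T i ⟶ T' i).left z, ?_⟩
    rw [← Scheme.Hom.comp_apply, ← Over.comp_left, pullback.lift_fst_assoc, Category.assoc, hδ₁, Category.comp_id, hz]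
  · have sqU : IsPullback (pullback.fst h (c' i)) (pullback.snd h (c' i)) h (c' i) := IsPullback.of_hasPullback _ _
    have sq' := (sqU.map (yon S)).paste_vert (sqT i)
    rw [← hab, ← hl i, ← Functor.map_comp] at sq'
    have := K597.etale_comp_stable.{u}
    have sqP : IsPullback (pullback.fst (orb act x) (l i ≫ orb act x)) (pullback.snd (orb act x) (l i ≫ orb act x))
      (orb act x) (l i ≫ orb act x) := IsPullback.of_hasPullback _ _
    have hid : RepWith @Etale (𝟙 ((yon S).obj (T i))) := repWith_id _ _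
    rw [← Category.id_comp (l i ≫ orb act x)] at sq'
    obtain ⟨α, hα, h1, h2⟩ := K597.exists_chart_bc @Etale sqP sq' ha hid
    have h3 := flat_snd act hG hM x (l i) α (𝟙 _) (pullback.snd h (c' i) ≫ pullback.snd r₂ (c i)) hα hid h2
    rw [Over.comp_left] at h3
    exact K597.etLoc_flat.cancel _ _ (hsnd i) h3

theorem main {X : Sp S} (i : X ⟶ M.left) (h : Sit act i) : OrbFlat act :=
  orbFlat act h.algG h.algM h.hom

end K612.OrbFlat
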