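import Groth.Agent.AlgSp.K622.AnDefs
import Groth.Agent.AlgSp.K610.ZarGlue
import Groth.Agent.AlgSp.K626.W5Core
import Groth.Agent.AlgSp.K596.QC2

/-!
# The unit section of a group scheme near a closed point of the base

`unitSch_of_rep`: `UnitSch R G` if `G` is a scheme, locally of finite type over `Spec R` (`R` any ring).
-/

set_option autoImplicit false
set_option backward.isDefEq.respectTransparency false
universe u

open CategoryTheory CategoryTheory.Limits AlgebraicGeometry MonoidalCategory MonObj AlgSp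

namespace K612.UnitRep

open K622.AnDefs

/-- `Spec R_q ⟶ Spec R ⟶ X` factors through every open which contains the image of `q`. -/
theorem range_subset {R : Type u} [CommRing R] {X : Scheme.{u}} (f : Spec (CommRingCat.of R) ⟶ X)
    (q : Ideal R) [q.IsPrime] (U : X.Opens) (hU : f (⟨q, inferInstance⟩ : PrimeSpectrum R) ∈ U) :
    Set.range (Spec.map (CommRingCat.ofHom (algebraMap R (Localization.AtPrime q))) ≫ f) ⊆ (U : Set X) := by
  rintro _ ⟨z, rfl⟩
  rw [Scheme.Hom.comp_apply]
  have h1 : (Spec.map (CommRingCat.ofHom (algebraMap R (Localization.AtPrime q))) z) ⤳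
      (⟨q, inferInstance⟩ : PrimeSpectrum R) := by
    rw [← PrimeSpectrum.le_iff_specializes]
    change ((PrimeSpectrum.comap (algebraMap R (Localization.AtPrime q)) z).asIdeal : Ideal R) ≤ q
    intro a ha
    by_contra h
    have h2 : algebraMap R (Localization.AtPrime q) a ∈ z.asIdeal := ha
    exact z.isPrime.ne_top (Ideal.eq_top_of_isUnit_mem _ h2
      (IsLocalization.map_units (Localization.AtPrime q) (⟨a, h⟩ : q.primeCompl)))
  exact (h1.map f.continuous).mem_open U.2 hU

theorem unitSch_of_rep {R : Type u} [CommRing R]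
    (G : Over ((yon (Spec (CommRingCat.of R))).obj (Over.mk (𝟙 (Spec (CommRingCat.of R)))))) [GrpObj G]
    (hG : G.left.obj.IsRepresentable) (hft : LocP @LocallyOfFiniteType G.hom) : UnitSch R G := by
  obtain ⟨H, ⟨e⟩⟩ := K610.ZarGlue.isRepresentable_iff.1 hG
  have hH : LocallyOfFiniteType H.hom := K626.W5.prop_chart hft
    (a := e.hom) (MorphismProperty.RespectsIso.postcomp _ _ _ (repWith_id @Etale H) |> fun h => by
      simpa using h)
  obtain ⟨s, hs⟩ := (yon (Spec (CommRingCat.of R))).map_surjective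
    (X := Over.mk (𝟙 (Spec (CommRingCat.of R)))) (Y := H) (η[G].left ≫ e.inv)
  intro q
  have hq : q.asIdeal.IsPrime := q.isMaximal.isPrime
  obtain ⟨U, hU, hqU, -⟩ := exists_isAffineOpen_mem_and_subset (X := H.left)
    (x := s.left (⟨q.asIdeal, hq⟩ : PrimeSpectrum R)) (U := ⊤) trivial
  let Γ : Over (Spec (CommRingCat.of R)) := Over.mk (U.ι ≫ H.hom)
  let inc : Γ ⟶ H := Over.homMk U.ι
  let T : Over (Spec (CommRingCat.of R)) :=
    Over.mk (Spec.map (CommRingCat.ofHom (algebraMap R (Localization.AtPrime q.asIdeal))))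
  have hr : Set.range (T.hom ≫ s.left) ⊆ Set.range U.ι := by
    rw [Scheme.Opens.range_ι]
    exact range_subset s.left q.asIdeal U hqU
  have hl : IsOpenImmersion.lift U.ι (T.hom ≫ s.left) hr ≫ U.ι = T.hom ≫ s.left :=
    IsOpenImmersion.lift_fac _ _ _
  have hsw : s.left ≫ H.hom = 𝟙 (Spec (CommRingCat.of R)) := Over.w s
  let l : T ⟶ Γ := Over.homMk (IsOpenImmersion.lift U.ι (T.hom ≫ s.left) hr) (by
    change IsOpenImmersion.lift U.ι (T.hom ≫ s.left) hr ≫ U.ι ≫ H.hom = T.hom
    rw [reassoc_of% hl, hsw]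
    exact Category.comp_id T.hom)
  have hUa : IsAffine U.toScheme := hU
  have haff : IsAffineHom (U.ι ≫ H.hom) := inferInstance
  refine ⟨Γ, (yon _).map inc ≫ e.hom, T, l, ?_, ?_, ?_, ?_, rfl, ?_⟩
  · refine MorphismProperty.comp_mem (RepWith @IsOpenImmersion) _ _ ?_ (K610.SchLocus.repWith_iso e)
    rw [repWith_yon_map_iff]
    change IsOpenImmersion U.ι
    infer_instance
  · change IsSeparated (U.ι ≫ H.hom)
    infer_instance
  · change LocallyOfFiniteType (U.ι ≫ H.hom)
    infer_instance
  · change QuasiCompact (U.ι ≫ H.hom)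
    infer_instance
  · have h1 : l ≫ inc = Over.homMk T.hom (Category.comp_id T.hom) ≫ s := by
      ext1
      exact hl
    rw [← Category.assoc, ← Functor.map_comp, h1, Functor.map_comp, Category.assoc, hs, Category.assoc,
      e.inv_hom_id]
    erw [Category.comp_id]

end K612.UnitRep
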