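import Groth.Agent.AlgSp.K612.ConclOpn
import Groth.Agent.AlgSp.K612.ChRep
import Groth.Agent.AlgSp.K612.UnitRep
import Groth.Agent.AlgSp.K612.OrbFlat
import Groth.Agent.AlgSp.K626.W5Final
import Groth.Agent.AlgSp.K608.GrpSch

/-!
# Theorem B from its core

`thmB`: `ThmB` from the core `OverDedekind` and the nodes `NodeF` (enlargement to a fibrewise closed open
subspace), `NodeBC` (base change to the integral closure in a finite extension), `W5h` (quasi-compact opens of
homogeneous spaces become schemes after a finite extension of the fraction field) and `K626.W5.CodimOne`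
(separated spaces are schemes in codimension one).
-/

set_option autoImplicit false
set_option backward.isDefEq.respectTransparency false
universe u

open CategoryTheory CategoryTheory.Limits AlgebraicGeometry MonoidalCategory MonObj AlgSp

namespace K612.NodeU

open K622.AnDefs K595.ChBase

/-- Quasi-compact open subspaces of homogeneous spaces become schemes after a finite extension. -/
def W5h : Prop :=
  ∀ (R : Type u) [CommRing R] [IsDedekindDomain R] (K : Type u) [Field K] [Algebra R K] [IsFractionRing R K]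
    (G M : Over ((yon (Spec (CommRingCat.of R))).obj (Over.mk (𝟙 (Spec (CommRingCat.of R))))))
    [GrpObj G] (act : GAction G M) (X : Sp (Spec (CommRingCat.of R))) (i : X ⟶ M.left),
    Sit act i → (IsSeparatedSp G.left ∨ G.left.obj.IsRepresentable) →
    K632.FlatClos.FlatSp G.left → K632.FlatClos.FlatSp M.left →
    ∃ (K₁ : Type u) (_ : Field K₁) (_ : Algebra K K₁), FiniteDimensional K K₁ ∧
      ∀ (K₂ : Type u) [Field K₂] [Algebra K K₂] [Algebra R K₂] [IsScalarTower R K K₂] (_ : K₁ →ₐ[K] K₂),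
        (X ⨯ (yon _).obj (K626.W5.alg R (integralClosure R K₂))).obj.IsRepresentable

/-- Enlargement to an open subspace closed fibre by fibre. -/
def NodeF : Prop :=
  ∀ (R : Type u) [CommRing R] [IsNoetherianRing R]
    (G M : Over ((yon (Spec (CommRingCat.of R))).obj (Over.mk (𝟙 (Spec (CommRingCat.of R))))))
    [GrpObj G] (act : GAction G M) (X₀ : Sp (Spec (CommRingCat.of R))) (i₀ : X₀ ⟶ M.left),
    Sit act i₀ → K632.FlatClos.FlatSp G.left → OrbFlat act →
    (IsSeparatedSp G.left ∨ G.left.obj.IsRepresentable) →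
    ∃ (X : Sp (Spec (CommRingCat.of R))) (i : X ⟶ M.left), Sit act i ∧ FibClosed i ∧ ∃ a : X₀ ⟶ X, a ≫ i = i₀

/-- `Spec R₁ ⟶ Spec R`, `R₁` the integral closure of `R` in `L`. -/
noncomputable abbrev gg (R L : Type u) [CommRing R] [Field L] [Algebra R L] :
    Spec (CommRingCat.of (integralClosure R L)) ⟶ Spec (CommRingCat.of R) :=
  Spec.map (CommRingCat.ofHom (algebraMap R (integralClosure R L)))

/-- `h_1 ⟶ R g h_1`. -/
noncomputable def ptHom {S S' : Scheme.{u}} (g : S ⟶ S') :
    (yon S).obj (Over.mk (𝟙 S)) ⟶ (R g).obj ((yon S').obj (Over.mk (𝟙 S'))) :=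
  homOf (F := (R g).obj ((yon S').obj (Over.mk (𝟙 S'))))
    (⟨Over.homMk g⟩ : ULift ((Over.map g).obj (Over.mk (𝟙 S)) ⟶ Over.mk (𝟙 S')))

/-- Base change to the integral closure in a finite extension of the fraction field. -/
def NodeBC : Prop :=
  ∀ (R : Type u) [CommRing R] [IsDedekindDomain R] [Finite (MaximalSpectrum R)] (_ : ¬ IsField R)
    (K : Type u) [Field K] [Algebra R K] [IsFractionRing R K]
    (L : Type u) [Field L] [Algebra K L] [FiniteDimensional K L] [Algebra R L] [IsScalarTower R K L]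
    (G M : Over ((yon (Spec (CommRingCat.of R))).obj (Over.mk (𝟙 (Spec (CommRingCat.of R))))))
    [GrpObj G] (act : GAction G M) (X : Sp (Spec (CommRingCat.of R))) (i : X ⟶ M.left),
    Sit act i → FibClosed i → K632.FlatClos.FlatSp G.left → K632.FlatClos.FlatSp M.left →
    ∃ (G' M' : Over ((yon (Spec (CommRingCat.of (integralClosure R L)))).obj
        (Over.mk (𝟙 (Spec (CommRingCat.of (integralClosure R L)))))))
      (_ : GrpObj G') (act' : GAction G' M') (ε : (K595.ChBase.R (gg R L)).obj G.left ≅ G'.left)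
      (i' : (K595.ChBase.R (gg R L)).obj X ⟶ M'.left),
      ptHom (gg R L) ≫ (K595.ChBase.R (gg R L)).map η[G].left ≫ ε.hom = η[G'].left ∧
      (IsSeparatedSp G.left → IsSeparatedSp G'.left) ∧
      Sit act' i' ∧ FibClosed i' ∧ K632.FlatClos.FlatSp G'.left ∧ K632.FlatClos.FlatSp M'.left ∧
      (Concl ((K595.ChBase.R (gg R L)).obj X) → Concl X)

/-- A morphism from a quasi-compact scheme factors through a quasi-compact open subspace. -/
theorem exists_qc_open {S : Scheme.{u}} {F : Sp S} (hF : IsAlgSpace F) {T : Over S} [CompactSpace T.left]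
    (σ : (yon S).obj T ⟶ F) :
    ∃ (Γ : Sp S) (j : Γ ⟶ F) (τ : (yon S).obj T ⟶ Γ), IsAlgSpace Γ ∧ RepWith @IsOpenImmersion j ∧
      IsQuasiCompactSp Γ ∧ τ ≫ j = σ := by
  have hc : IsCompact (Set.range (Points.ofPt σ)) := isCompact_range (Points.continuous_ofPt σ)
  choose N hN1 hN2 hN3 _ using fun x : Points F =>
    K609.QC.exists_isOpen_isCompact_nhd hF x Set.univ isOpen_univ trivial
  obtain ⟨t, ht⟩ := hc.elim_finite_subcover (fun x => N x) hN1
    (fun x _ => Set.mem_iUnion.2 ⟨x, hN3 x⟩)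
  let G0 : Set (Points F) := ⋃ x ∈ t, N x
  have hG0 : IsOpen G0 := isOpen_biUnion fun x _ => hN1 x
  have hG0c : IsCompact G0 := t.isCompact_biUnion fun x _ => hN2 x
  have hι := K610.Sub.repWith_openPred hG0
  have hrange := K610.Sub.range_openPred (X := F) G0
  have hG : IsAlgSpace (K610.Sub.openPred (X := F) G0).sub := K610.Sub.isAlgSpace_of_mono hι.1 hF
  have hemb := K610.OpenImm.isOpenEmbedding_points hF hι
  have hqcG : IsQuasiCompactSp (K610.Sub.openPred (X := F) G0).sub := by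
    rw [K609.QC.isQuasiCompactSp_iff hG]
    refine ⟨?_⟩
    rw [hemb.isInducing.isCompact_iff, Set.image_univ, hrange]
    exact hG0c
  obtain ⟨τ, hτ⟩ := (K610.Factor.factors_open_iff hι σ).2 (by
    rw [hrange, ← K610.SchLocus.range_ofPt]
    exact ht)
  exact ⟨_, _, τ, hG, hι, hqcG, hτ⟩

theorem isLocNoethSp_of_lft {R : Type u} [CommRing R] [IsNoetherianRing R]
    {M : Over ((yon (Spec (CommRingCat.of R))).obj (Over.mk (𝟙 (Spec (CommRingCat.of R)))))}
    (hM : IsAlgSpace M.left) (hft : LocP @LocallyOfFiniteType M.hom) : IsLocNoethSp M.left := by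
  obtain ⟨U, p, hp, hps⟩ := hM.atlas
  have : LocallyOfFiniteType U.hom := K626.W5.prop_chart hft hp
  exact ⟨U, p, hp, hps, LocallyOfFiniteType.isLocallyNoetherian U.hom⟩

/-- If a quasi-compact separated open scheme contains the unit section then `UnitSch` holds. -/
theorem unitSch_of_chart {R : Type u} [CommRing R]
    (G : Over ((yon (Spec (CommRingCat.of R))).obj (Over.mk (𝟙 (Spec (CommRingCat.of R)))))) [GrpObj G]
    (hft : LocP @LocallyOfFiniteType G.hom) (hsep : IsSeparatedSp G.left)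
    {Γ : Over (Spec (CommRingCat.of R))} (j : (yon _).obj Γ ⟶ G.left) (hj : RepWith @IsOpenImmersion j)
    [CompactSpace Γ.left] (σ : (yon (Spec (CommRingCat.of R))).obj (Over.mk (𝟙 (Spec (CommRingCat.of R)))) ⟶
      (yon _).obj Γ) (hσ : σ ≫ j = η[G].left) : UnitSch R G := by
  obtain ⟨s, hs⟩ := (yon (Spec (CommRingCat.of R))).map_surjective
    (X := Over.mk (𝟙 (Spec (CommRingCat.of R)))) (Y := Γ) σ
  have := K610.Factor.mono_of_isOpenImmersion hj
  have hΓs : IsSeparated Γ.hom := by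
    have h1 : IsSeparatedSp ((yon (Spec (CommRingCat.of R))).obj Γ) :=
      K606.RepWithBasic.of_isPullback (K610.Sub.diag_pullback_of_mono j).flip hsep
    exact ⟨(repWith_diag_yon_iff @IsClosedImmersion Γ).1 h1⟩
  have hΓf : LocallyOfFiniteType Γ.hom := K626.W5.prop_chart hft
    (a := j) (K606.RepWithBasic.mono (fun _ _ f hf => by
      have : IsOpenImmersion f := hf
      infer_instance) hj)
  have hΓq : QuasiCompact Γ.hom := (quasiCompact_iff_compactSpace Γ.hom).2 inferInstance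
  intro q
  let T : Over (Spec (CommRingCat.of R)) :=
    Over.mk (Spec.map (CommRingCat.ofHom (algebraMap R (Localization.AtPrime q.asIdeal))))
  refine ⟨Γ, j, T, Over.homMk T.hom (Category.comp_id T.hom) ≫ s, hj, hΓs, hΓf, hΓq, rfl, ?_⟩
  rw [Functor.map_comp, Category.assoc, hs, hσ]

/-- `UnitSch` over `R₁` from a quasi-compact open `Γ ⊂ G` which contains the unit section and becomes a scheme
over `R₁`. -/
theorem unitSch_bc {S : Scheme.{u}} {R₁ : Type u} [CommRing R₁] (g : Spec (CommRingCat.of R₁) ⟶ S)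
    (G : Over ((yon S).obj (Over.mk (𝟙 S)))) [GrpObj G] {Γ : Sp S} (j : Γ ⟶ G.left)
    (hj : RepWith @IsOpenImmersion j) (τ : (yon S).obj (Over.mk (𝟙 S)) ⟶ Γ) (hτ : τ ≫ j = η[G].left)
    (hΓ : ((R g).obj Γ).obj.IsRepresentable) (hΓc : IsQuasiCompactSp ((R g).obj Γ))
    (G' : Over ((yon (Spec (CommRingCat.of R₁))).obj (Over.mk (𝟙 (Spec (CommRingCat.of R₁)))))) [GrpObj G']
    (ε : (R g).obj G.left ≅ G'.left) (hε : ptHom g ≫ (R g).map η[G].left ≫ ε.hom = η[G'].left)
    (hft : LocP @LocallyOfFiniteType G'.hom) (hsep : IsSeparatedSp G'.left) : UnitSch R₁ G' := by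
  obtain ⟨Q, ⟨e⟩⟩ := K610.ZarGlue.isRepresentable_iff.1 hΓ
  have hQ : CompactSpace Q.left := K600.LimRep.compactSpace_of_chart e hΓc
  refine unitSch_of_chart G' hft hsep (e.hom ≫ (R g).map j ≫ ε.hom) ?_ (ptHom g ≫ (R g).map τ ≫ e.inv) ?_
  · exact MorphismProperty.comp_mem (RepWith @IsOpenImmersion) _ _ (K610.SchLocus.repWith_iso e)
      (MorphismProperty.comp_mem (RepWith @IsOpenImmersion) _ _ (repWith_R hj) (K610.SchLocus.repWith_iso ε))
  · rw [← hε, ← hτ, Functor.map_comp]
    simp only [Category.assoc, e.inv_hom_id_assoc]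

/-- Base change of quasi-compact algebraic spaces along an affine morphism. -/
theorem isQuasiCompactSp_R {S S' : Scheme.{u}} (g : S ⟶ S') [QuasiCompact g] {F : Sp S'}
    (hF : IsQuasiCompactSp F) : IsQuasiCompactSp ((R g).obj F) := by
  obtain ⟨U, p, h1, h2, hU⟩ := hF
  refine ⟨_, (yonIsoR U).hom ≫ (R g).map p,
      MorphismProperty.RespectsIso.precomp _ _ _ (repWith_R h1),
      MorphismProperty.RespectsIso.precomp _ _ _ (repWith_R h2), ?_⟩
  exact QuasiCompact.compactSpace_of_compactSpace (pullback.fst U.hom g)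

/-- **Theorem B** from its core. -/
theorem thmB (hB : OverDedekind.{u}) (hBC : NodeBC.{u}) (hF : NodeF.{u}) (hW : W5h.{u})
    (hC : ∀ (R : Type u) [CommRing R], K626.W5.CodimOne (Spec (CommRingCat.of R))) : ThmB.{u} := by
  intro R _ _ _ hR G M _ act X₀ i₀ hS hsep hGf hMf
  have hO : OrbFlat act := K612.OrbFlat.main act i₀ hS
  obtain ⟨X, i, hS', hFC, a, ha⟩ := hF R G M act X₀ i₀ hS hGf hO hsep
  have hmono := K610.Factor.mono_of_isOpenImmersion hS'.op
  have hXalg : IsAlgSpace X := K610.Sub.isAlgSpace_of_mono hS'.op.1 hS'.algM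
  have hXN : IsLocNoethSp X := K650.Sat.isLocNoethSp_of_repWith (isLocNoethSp_of_lft hS'.algM hS'.lftM)
    (K606.RepWithBasic.mono (fun _ _ f hf => by
      have : IsOpenImmersion f := hf
      infer_instance) hS'.op)
  have hXs : IsQuasiSeparatedSp X := K608.GrpSch.isQuasiSeparatedSp_of_isSeparatedSp
    (K606.RepWithBasic.of_isPullback (K610.Sub.diag_pullback_of_mono i).flip hS'.sepM)
  refine K612.ConclOpn.concl_of_open hXalg hXN hXs a
    (K610.OpenImm.repWith_of_comp_mono (j := i) (by rw [ha]; exact hS.op)) ?_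
  let K := FractionRing R
  obtain ⟨K₁, _, _, hK₁, hX₁⟩ := hW R K G M act X i hS' hsep hGf hMf
  have alg : ∀ (L : Type u) [Field L] [Algebra K L], ∃ (_ : Algebra R L), IsScalarTower R K L := fun L _ _ =>
    letI : Algebra R L := ((algebraMap K L).comp (algebraMap R K)).toAlgebra
    ⟨this, IsScalarTower.of_algebraMap_eq fun _ => rfl⟩
  -- the final step, over the integral closure in `L`
  have fin : ∀ (L : Type u) [Field L] [Algebra K L] [FiniteDimensional K L] [Algebra R L] [IsScalarTower R K L]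
      (_ : K₁ →ₐ[K] L) (_ : (G.left.obj.IsRepresentable) ∨ (IsSeparatedSp G.left ∧
        ∃ (Γ : Sp (Spec (CommRingCat.of R))) (j : Γ ⟶ G.left)
          (τ : (yon (Spec (CommRingCat.of R))).obj (Over.mk (𝟙 (Spec (CommRingCat.of R)))) ⟶ Γ),
          RepWith @IsOpenImmersion j ∧ IsQuasiCompactSp Γ ∧ τ ≫ j = η[G].left ∧
          (Γ ⨯ (yon _).obj (K626.W5.alg R (integralClosure R L))).obj.IsRepresentable)), Concl X := by
    intro L _ _ _ _ _ φ hΓ
    have i1 : IsDedekindDomain (integralClosure R L) := K612.ChRep.isDedekindDomain R K L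
    have i2 : Finite (MaximalSpectrum (integralClosure R L)) := K612.ChRep.finite_maximalSpectrum R K L
    have i3 : ¬ IsField (integralClosure R L) := K612.ChRep.not_isField R K L hR
    obtain ⟨G', M', hG', act', ε, i', hε, hsep', hSit, hFC', hGf', hMf', hcon⟩ :=
      hBC R hR K L G M act X i hS' hFC hGf hMf
    refine hcon (hB (integralClosure R L) i3 G' M' act' _ i' hSit hFC' hGf' hMf' (K612.OrbFlat.main act' i' hSit) ?_
      (K612.ChRep.isRepresentable_R (gg R L) X (hX₁ L φ)))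
    rcases hΓ with h | ⟨hs, Γ, j, τ, hj, hΓc, hτ, hΓr⟩
    · refine K612.UnitRep.unitSch_of_rep G' ?_ hSit.lftG
      obtain ⟨H, ⟨e⟩⟩ := K610.ZarGlue.isRepresentable_iff.1 (K612.ChRep.isRepresentable_R_of_rep (gg R L) h)
      exact K610.ZarGlue.isRepresentable_iff.2 ⟨H, ⟨e ≪≫ ε⟩⟩
    · exact unitSch_bc (gg R L) G j hj τ hτ (K612.ChRep.isRepresentable_R (gg R L) Γ hΓr)
        (isQuasiCompactSp_R (gg R L) hΓc) G' ε hε hSit.lftG (hsep' hs)
  rcases hsep with h | h
  · have hcs : CompactSpace (Over.mk (𝟙 (Spec (CommRingCat.of R)))).left :=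
      inferInstanceAs (CompactSpace ↥(Spec (CommRingCat.of R)))
    obtain ⟨Γ, j, τ, hΓ, hj, hΓc, hτ⟩ := exists_qc_open hS.algG (T := Over.mk (𝟙 (Spec (CommRingCat.of R)))) η[G].left
    obtain ⟨K₂, _, _, hK₂, hΓ₂⟩ := K626.W5.main K G hS.algG hS.lftG
      ((K632.FlatClos.flatSp_iff G.hom).1 hGf) h (hC R) ⟨Γ, hΓ⟩ j hj hΓc
    obtain ⟨L, _, _, hL, ⟨φ₁⟩, ⟨φ₂⟩⟩ := K612.ChRep.exists_common K K₁ K₂
    obtain ⟨_, _⟩ := alg L
    exact fin L φ₁ (Or.inr ⟨h, Γ, j, τ, hj, hΓc, hτ, hΓ₂ L φ₂⟩)
  · obtain ⟨_, _⟩ := alg K₁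
    exact fin K₁ (AlgHom.id K K₁) (Or.inl h)

end K612.NodeU
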