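import Groth.Prelude.Def_AlgSpOX2
import Groth.Agent.AlgSp.K612.Et
/-!
Base change of small etale sites preserves binary products and coverings of the final object.
-/

set_option autoImplicit false
universe v' u' u

set_option backward.isDefEq.respectTransparency false

open CategoryTheory CategoryTheory.Limits AlgebraicGeometry Opposite

namespace K612.BcProd

open AlgSp

variable {S : Scheme.{u}} {X Y : Sp S} {f : X ⟶ Y} (hf : Representable f)

/-- a morphism to the base change from a morphism of schemes compatible over `Y`. -/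
noncomputable def bcLift {T : EtOver X} {E : EtOver Y} (g : T.obj.left ⟶ E.obj.left)
    (hg : T.obj.hom ≫ f = (yon S).map g ≫ E.obj.hom) : T ⟶ (EtOver.bc hf).obj E :=
  EtOver.homMk (hf.lift T.obj.hom g hg) (hf.lift_fst _ _ _)

theorem bcLift_snd {T : EtOver X} {E : EtOver Y} (g : T.obj.left ⟶ E.obj.left)
    (hg : T.obj.hom ≫ f = (yon S).map g ≫ E.obj.hom) :
    (bcLift hf g hg).hom.left ≫ hf.snd E.obj.hom = g :=
  hf.lift_snd _ _ _

theorem bc_w {T : EtOver X} {E : EtOver Y} (t : T ⟶ (EtOver.bc hf).obj E) :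
    T.obj.hom ≫ f = (yon S).map (t.hom.left ≫ hf.snd E.obj.hom) ≫ E.obj.hom := by
  rw [← EtOver.w t, Functor.map_comp, Category.assoc, Category.assoc]
  exact congrArg ((yon S).map t.hom.left ≫ ·) (hf.w _)

theorem bc_hom_ext {T : EtOver X} {E : EtOver Y} (g g' : T ⟶ (EtOver.bc hf).obj E)
    (h : g.hom.left ≫ hf.snd E.obj.hom = g'.hom.left ≫ hf.snd E.obj.hom) : g = g' :=
  EtOver.hom_ext _ _ (hf.hom_ext ((EtOver.w g).trans (EtOver.w g').symm) h)

theorem comp_bcMap_snd {T : EtOver X} {E E' : EtOver Y} (t : T ⟶ (EtOver.bc hf).obj E) (g : E ⟶ E') :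
    (t ≫ (EtOver.bc hf).map g).hom.left ≫ hf.snd E'.obj.hom =
      (t.hom.left ≫ hf.snd E.obj.hom) ≫ g.hom.left := by
  change (t.hom.left ≫ (EtOver.bcMap hf g).hom.left) ≫ hf.snd E'.obj.hom = _
  rw [Category.assoc, Category.assoc, EtOver.bcMap_snd]

variable (E₁ E₂ : EtOver Y)

/-- base change preserves products. -/
noncomputable def bcProdIsLimit :
    IsLimit (BinaryFan.mk ((EtOver.bc hf).map (EtOver.prodFst E₁ E₂))
      ((EtOver.bc hf).map (EtOver.prodSnd E₁ E₂))) :=
  BinaryFan.IsLimit.mk _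
    (fun {T} t₁ t₂ => bcLift hf (E₂.property.1.lift' (t₂.hom.left ≫ hf.snd _)
        (t₁.hom.left ≫ hf.snd _) (by rw [← bc_w, ← bc_w]))
      (by
        change _ = (yon S).map _ ≫ (yon S).map _ ≫ E₁.obj.hom
        rw [← Category.assoc, ← Functor.map_comp, Functor.relativelyRepresentable.lift'_snd, ← bc_w]))
    (fun t₁ t₂ => bc_hom_ext hf _ _ ((comp_bcMap_snd hf _ (EtOver.prodFst E₁ E₂)).trans
      ((congrArg (· ≫ (EtOver.prodFst E₁ E₂).hom.left) (bcLift_snd hf _ _)).trans
        (Functor.relativelyRepresentable.lift'_snd _ _ _ _))))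
    (fun t₁ t₂ => bc_hom_ext hf _ _ ((comp_bcMap_snd hf _ (EtOver.prodSnd E₁ E₂)).trans
      ((congrArg (· ≫ (EtOver.prodSnd E₁ E₂).hom.left) (bcLift_snd hf _ _)).trans
        (Functor.relativelyRepresentable.lift'_fst _ _ _ _))))
    (fun t₁ t₂ m h₁ h₂ => bc_hom_ext hf _ _ (by
      rw [bcLift_snd]
      refine Functor.relativelyRepresentable.hom_ext' _ ?_ ?_
      · rw [Functor.relativelyRepresentable.lift'_fst, ← h₂]
        exact (comp_bcMap_snd hf m (EtOver.prodSnd E₁ E₂)).symm
      · rw [Functor.relativelyRepresentable.lift'_snd, ← h₁]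
        exact (comp_bcMap_snd hf m (EtOver.prodFst E₁ E₂)).symm))

instance preservesLimit_pair_bc : PreservesLimit (pair E₁ E₂) (EtOver.bc hf) :=
  preservesLimit_of_preserves_limit_cone (EtOver.prodIsLimit E₁ E₂)
    ((isLimitMapConeBinaryFanEquiv _ _ _).symm (bcProdIsLimit hf E₁ E₂))

instance preservesBinaryProducts_bc : PreservesLimitsOfShape (Discrete WalkingPair) (EtOver.bc hf) where
  preservesLimit {K} := preservesLimit_of_iso_diagram _ (diagramIsoPair K).symm

/-- a surjective object covers the final object. -/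
theorem coversTop_of_surjective (E : EtOver X) (hE : RepWith @Surjective E.obj.hom) :
    (etTop X).CoversTop fun _ : PUnit.{1} => E := by
  intro V
  rw [Et.mem_etTop_iff]
  intro x
  have h1 : Surjective (EtOver.prodFst V E).hom.left.left :=
    hE.property V.obj.hom _ _ (E.property.1.isPullback V.obj.hom)
  obtain ⟨y, hy⟩ := h1.surj x
  exact ⟨EtOver.prodObj V E, EtOver.prodFst V E, ⟨PUnit.unit, ⟨EtOver.prodSnd V E⟩⟩, y, hy⟩

end K612.BcProd
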