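import Groth.Agent.AlgSp.K612.ArcPb

/-!
# Base change of the data `Pre`, II
-/

set_option autoImplicit false
universe u

open CategoryTheory CategoryTheory.Limits AlgebraicGeometry MonoidalCategory MonObj AlgSp

namespace K612.ArcBc

open K622.AnDefs K622.AnDefs2 K612.OrbFlat K624.GrpBC K612.ArcDefs K612.ArcHom K612.ArcPb

variable {S : Scheme.{u}} {R K R₂ K₂ : Type u} [CommRing R] [Field K] [Algebra R K] [CommRing R₂] [Field K₂]
  [Algebra R₂ K₂] [Algebra R R₂] {k : Spec (CommRingCat.of K₂) ⟶ Spec (CommRingCat.of K)}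
  {g : Spec (CommRingCat.of R) ⟶ S} {g₂ : Spec (CommRingCat.of R₂) ⟶ S} (hg : sp R R₂ ≫ g = g₂)
  (hbk : gn R₂ K₂ ≫ sp R R₂ = k ≫ gn R K)
  {G : Over (pt S)} [GrpObj G] {H : Over (Spec (CommRingCat.of K))}
  {h : (yon S).obj ((Over.map (gn R K ≫ g)).obj H) ⟶ G.left} {q : MaximalSpectrum R} (E : Pre g G H h q)
  (q₂ : MaximalSpectrum R₂) (hq : q.asIdeal = q₂.asIdeal.comap (algebraMap R R₂))

/-- `Spec (R₂)_q₂ ⟶ Spec R_q` over `S`. -/
noncomputable def lc : (Over.map g₂).obj (loc q₂) ⟶ (Over.map g).obj (loc q) :=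
  Over.homMk (spLoc q q₂ hq) (by
    change spLoc q q₂ hq ≫ (loc q).hom ≫ g = (loc q₂).hom ≫ g₂
    rw [← Category.assoc, spLoc_hom, Category.assoc, hg])

/-- The unit section of `Z₂`. -/
noncomputable def eZ₂ : (loc q₂).left ⟶ Z₂ (R₂ := R₂) E :=
  pullback.lift (spLoc q q₂ hq ≫ E.eZ) (loc q₂).hom (by
    rw [Category.assoc, E.eZ_snd, spLoc_hom])

/-- `U₂ ⟶ U` over `S`. -/
noncomputable def xU : (Over.map (gn R₂ K₂ ≫ g₂)).obj (Over.mk (pullback.snd E.u' k)) ⟶
    (Over.map (gn R K ≫ g)).obj (Over.mk E.u') :=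
  Over.homMk (pullback.fst E.u' k) (by
    change pullback.fst E.u' k ≫ E.u' ≫ gn R K ≫ g = pullback.snd E.u' k ≫ gn R₂ K₂ ≫ g₂
    rw [pullback.condition_assoc, hkt hg hbk])

/-- **Base change.** -/
noncomputable def bc : Pre g₂ G ((Over.pullback k).obj H) ((yon S).map (prj' k (hkt hg hbk) H) ≫ h) q₂ where
  Γ := E.Γ
  j := E.j
  openImm := E.openImm
  lft := E.lft
  flat := E.flat
  e := lc hg q₂ hq ≫ E.e
  unit := by
    rw [Functor.map_comp, Category.assoc, E.unit, ← Category.assoc, ← Functor.map_comp]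
    congr 2
    exact Over.OverMorphism.ext (Over.w (lc hg q₂ hq))
  Z := Z₂ (R₂ := R₂) E
  i := i₂ hg E
  clZ := by
    have := E.clZ
    exact MorphismProperty.of_isPullback (isPullback_i₂ hg E) E.clZ
  flatZ := by
    have := E.flatZ
    rw [i₂_snd]
    infer_instance
  qcZ := by
    have := E.qcZ
    rw [i₂_snd]
    infer_instance
  eZ := eZ₂ E q₂ hq
  eZ_fst := by
    rw [i₂_fst, eZ₂, pullback.lift_fst_assoc, Category.assoc, E.eZ_fst]
    rfl
  eZ_snd := by
    rw [i₂_snd]
    exact pullback.lift_snd _ _ _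
  U := pullback E.u' k
  u := u₂ hbk E
  u' := pullback.snd E.u' k
  sq := isPullback_u₂ hg hbk E
  smooth := by
    have := E.smooth
    infer_instance
  geom := by
    have := E.geom
    infer_instance
  w := (Over.pullback k).map E.w
  compat := by
    have h1 : (Over.map (gn R₂ K₂ ≫ g₂)).map ((Over.pullback k).map E.w) ≫ prj' k (hkt hg hbk) H =
        xU hg hbk E ≫ (Over.map (gn R K ≫ g)).map E.w := by
      apply Over.OverMorphism.ext
      change pullback.lift _ _ _ ≫ pullback.fst _ _ = _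
      rw [pullback.lift_fst]
      rfl
    rw [← Category.assoc, ← Functor.map_comp, h1, Functor.map_comp, Category.assoc, E.compat, ← Category.assoc,
      ← Functor.map_comp]
    refine congrArg (fun z => (yon S).map z ≫ E.j) (Over.OverMorphism.ext ?_)
    change pullback.fst E.u' k ≫ E.u ≫ E.i ≫ pullback.fst E.Γ.hom g = u₂ hbk E ≫ i₂ hg E ≫ pullback.fst E.Γ.hom g₂
    rw [i₂_fst, u₂, pullback.lift_fst_assoc, Category.assoc]
  A := (Over.pullback k).obj E.A
  grpA := grpPb k E.A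
  lftA := by
    have := E.lftA
    change LocallyOfFiniteType (pullback.snd E.A.hom k)
    infer_instance
  V := pullback E.b k
  a := a₂ hg hbk E
  b := pullback.snd E.b k
  sqV := isPullback_a₂ hg hbk E
  jA := jA₂ E k
  openA := by
    have := E.openA
    exact MorphismProperty.of_isPullback (isPullback_jA₂ E) E.openA
  jA_hom := pullback.lift_snd _ _ _
  v := v₂ E k
  va := by
    apply (isPullback_snd (f := E.Γ.hom) hg).hom_ext
    · change (v₂ E k ≫ a₂ hg hbk E) ≫ gam hg E = (u₂ hbk E ≫ i₂ hg E) ≫ gam hg E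
      rw [Category.assoc, Category.assoc, a₂_gam, i₂_gam, v₂, u₂, pullback.lift_fst_assoc, pullback.lift_fst_assoc,
        Category.assoc, Category.assoc, E.va]
    · rw [Category.assoc, Category.assoc, a₂_snd, i₂_snd, v₂, u₂, pullback.lift_snd, pullback.lift_snd_assoc]
  vb := pullback.lift_snd _ _ _
  openV := isOpen_range (isPullback_v₂ E) E.openV

end K612.ArcBc
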