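import Groth.Agent.AlgSp.K622.AnDefs2
import Groth.Agent.AlgSp.K624.GrpBC
import Groth.Agent.AlgSp.K93.RFEx

/-!
# Arcs of a group: vocabulary

* `IsHom t G H h`: `h` is a homomorphism from the group scheme `H` over `K` to `G` (over `t : Spec K ⟶ S`).
* `Pre g G H h q`: over `g : Spec R ⟶ S`, the closure `Z` of (an open part `U` of) `H` in a flat open
  subscheme `Γ` of `G` near the unit section at the maximal ideal `q` of `R`.
* `Lvl1`: after a finite extension of the fraction field such data exist at all maximal ideals.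
* `ArcG`: the statement on generic arcs of `G`.
-/

set_option autoImplicit false
universe u

open CategoryTheory CategoryTheory.Limits AlgebraicGeometry MonoidalCategory MonObj AlgSp

namespace K612.ArcDefs

open K622.AnDefs K622.AnDefs2 K612.OrbFlat K624.GrpBC

variable {S : Scheme.{u}}

/-- A homomorphism from the group scheme `H` over `K` to `G`, over `t : Spec K ⟶ S`. -/
def IsHom {K : Type u} [Field K] (t : Spec (CommRingCat.of K) ⟶ S) (G : Over (pt S)) [GrpObj G]
    (H : Over (Spec (CommRingCat.of K))) [GrpObj H] (h : (yon S).obj ((Over.map t).obj H) ⟶ G.left) : Prop :=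
  ∀ {T : Over (Spec (CommRingCat.of K))} (a b : T ⟶ H),
    (yon S).map ((Over.map t).map (a * b)) ≫ h =
      mul ((yon S).map ((Over.map t).map a) ≫ h) ((yon S).map ((Over.map t).map b) ≫ h)

/-- See the header. -/
structure Pre {R K : Type u} [CommRing R] [Field K] [Algebra R K] (g : Spec (CommRingCat.of R) ⟶ S)
    (G : Over (pt S)) [GrpObj G] (H : Over (Spec (CommRingCat.of K)))
    (h : (yon S).obj ((Over.map (gn R K ≫ g)).obj H) ⟶ G.left) (q : MaximalSpectrum R) where
  /-- an open subscheme of `G` -/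
  Γ : Over S
  /-- its inclusion -/
  j : (yon S).obj Γ ⟶ G.left
  openImm : RepWith @IsOpenImmersion j
  lft : LocallyOfFiniteType Γ.hom
  flat : Flat Γ.hom
  /-- the unit section over `R_q` -/
  e : (Over.map g).obj (loc q) ⟶ Γ
  unit : (yon S).map e ≫ j =
    (yon S).map (Over.homMk ((Over.map g).obj (loc q)).hom (Category.comp_id _) :
      (Over.map g).obj (loc q) ⟶ Over.mk (𝟙 S)) ≫ η[G].left
  /-- a closed subscheme of `Γ ×_S Spec R` -/
  Z : Scheme.{u}
  /-- its inclusion -/
  i : Z ⟶ pullback Γ.hom g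
  clZ : IsClosedImmersion i
  flatZ : Flat (i ≫ pullback.snd Γ.hom g)
  qcZ : QuasiCompact (i ≫ pullback.snd Γ.hom g)
  /-- the unit section of `Z` -/
  eZ : (loc q).left ⟶ Z
  eZ_fst : eZ ≫ i ≫ pullback.fst Γ.hom g = e.left
  eZ_snd : eZ ≫ i ≫ pullback.snd Γ.hom g = (loc q).hom
  /-- the generic fibre of `Z` -/
  U : Scheme.{u}
  /-- its inclusion -/
  u : U ⟶ Z
  /-- its structure map -/
  u' : U ⟶ Spec (CommRingCat.of K)
  sq : IsPullback u u' (i ≫ pullback.snd Γ.hom g) (gn R K)
  smooth : Smooth u'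
  geom : GeometricallyIntegral u'
  /-- the generic fibre of `Z` is contained in `H` -/
  w : Over.mk u' ⟶ H
  compat : (yon S).map ((Over.map (gn R K ≫ g)).map w) ≫ h =
    (yon S).map (Over.homMk (u ≫ i ≫ pullback.fst Γ.hom g) (by
      change (u ≫ i ≫ pullback.fst Γ.hom g) ≫ Γ.hom = u' ≫ gn R K ≫ g
      rw [Category.assoc, Category.assoc, pullback.condition, ← Category.assoc i, ← Category.assoc u, sq.w,
        Category.assoc]) : (Over.map (gn R K ≫ g)).obj (Over.mk u') ⟶ Γ) ≫ j
  /-- a group scheme containing the generic fibre of `Γ` as an open subscheme -/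
  A : Over (Spec (CommRingCat.of K))
  [grpA : GrpObj A]
  lftA : LocallyOfFiniteType A.hom
  /-- the generic fibre of `Γ` -/
  V : Scheme.{u}
  /-- its inclusion -/
  a : V ⟶ pullback Γ.hom g
  /-- its structure map -/
  b : V ⟶ Spec (CommRingCat.of K)
  sqV : IsPullback a b (pullback.snd Γ.hom g) (gn R K)
  /-- the open immersion -/
  jA : V ⟶ A.left
  openA : IsOpenImmersion jA
  jA_hom : jA ≫ A.hom = b
  /-- the generic fibre of `Z` in that of `Γ` -/
  v : U ⟶ V
  va : v ≫ a = u ≫ i
  vb : v ≫ b = u'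
  openV : IsOpen (Set.range v)

attribute [instance] Pre.grpA

/-- Node G1: after a finite extension of the fraction field the data exist. -/
def Lvl1 : Prop :=
  ∀ (R K : Type u) [CommRing R] [IsDedekindDomain R] [Finite (MaximalSpectrum R)] (_ : ¬ IsField R)
    [Field K] [Algebra R K] [IsFractionRing R K] (G : Over (pt (Spec (CommRingCat.of R)))) [GrpObj G],
    IsAlgSpace G.left → LocP @LocallyOfFiniteType G.hom → K632.FlatClos.FlatSp G.left →
    (IsSeparatedSp G.left ∨ G.left.obj.IsRepresentable) → UnitSch R G →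
    ∃ (K₁ : Type u) (_ : Field K₁) (_ : Algebra K K₁) (_ : FiniteDimensional K K₁) (_ : Algebra R K₁)
      (_ : IsScalarTower R K K₁) (H : Over (Spec (CommRingCat.of K₁))) (_ : GrpObj H)
      (h : (yon _).obj ((Over.map (gn (integralClosure R K₁) K₁ ≫
        Spec.map (CommRingCat.ofHom (algebraMap R (integralClosure R K₁))))).obj H) ⟶ G.left),
      Smooth H.hom ∧ GeometricallyIntegral H.hom ∧ QuasiCompact H.hom ∧ IsHom _ G H h ∧
      ∀ q : MaximalSpectrum (integralClosure R K₁), Nonempty (Pre _ G H h q)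

/-- **Generic arcs of `G`** after all sufficiently large finite extensions of the fraction field. -/
def ArcG : Prop :=
  ∀ (R K : Type u) [CommRing R] [IsDedekindDomain R] [Finite (MaximalSpectrum R)] (_ : ¬ IsField R)
    [Field K] [Algebra R K] [IsFractionRing R K] (G : Over (pt (Spec (CommRingCat.of R)))) [GrpObj G],
    IsAlgSpace G.left → LocP @LocallyOfFiniteType G.hom → K632.FlatClos.FlatSp G.left →
    (IsSeparatedSp G.left ∨ G.left.obj.IsRepresentable) → UnitSch R G →
    K93.RedFib.Large K (fun K₂ => ∀ (R₂ : Type u) [CommRing R₂] [IsDedekindDomain R₂] [Finite (MaximalSpectrum R₂)]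
      [Algebra R R₂] [Algebra.IsIntegral R R₂] [Algebra R₂ K₂] [IsFractionRing R₂ K₂] [Algebra R K₂]
      [IsScalarTower R K K₂] [IsScalarTower R R₂ K₂],
      ∃ D : HData R₂ K₂ ((F (Spec.map (CommRingCat.ofHom (algebraMap R R₂)))).obj G),
        ∀ q : MaximalSpectrum R₂, Nonempty (Arc R₂ K₂ D q))

end K612.ArcDefs
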