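import Groth.Agent.AlgSp.K612.ArcMk
import Groth.Agent.AlgSp.K612.ArcBc
import Groth.Agent.AlgSp.K612.ChRep

/-!
# Generic arcs of a group after all large finite extensions

`arcG : Lvl1 → ArcG`.
-/

set_option autoImplicit false
universe u

open CategoryTheory CategoryTheory.Limits AlgebraicGeometry MonoidalCategory MonObj AlgSp

namespace K612.ArcG

open K622.AnDefs K622.AnDefs2 K612.OrbFlat K624.GrpBC K612.ArcDefs K612.ArcHom K612.ArcPb K612.ArcBc K612.ArcUp
  K612.ArcMk K93.RedFib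

variable {S : Scheme.{u}} {R K : Type u} [CommRing R] [IsDedekindDomain R] [Finite (MaximalSpectrum R)] [Field K]
  [Algebra R K] [IsFractionRing R K] {g : Spec (CommRingCat.of R) ⟶ S}
  {G : Over (pt S)} [GrpObj G] {H : Over (Spec (CommRingCat.of K))}
  {h : (yon S).obj ((Over.map (gn R K ≫ g)).obj H) ⟶ G.left}

/-- The arcs of `Z` after a large extension. -/
theorem large_pre {q : MaximalSpectrum R} (E : Pre g G H h q) :
    Large K (fun K₂ => ∀ (R₂ : Type u) [CommRing R₂] [IsDedekindDomain R₂] [Finite (MaximalSpectrum R₂)]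
      [Algebra R R₂] [Algebra.IsIntegral R R₂] [Algebra R₂ K₂] [IsFractionRing R₂ K₂] [Algebra R K₂]
      [IsScalarTower R K K₂] [IsScalarTower R R₂ K₂] (Z₂ : Scheme.{u}) (z₂ : Z₂ ⟶ Spec (.of R₂)) (ι₂ : Z₂ ⟶ E.Z)
      (_ : IsPullback ι₂ z₂ (E.i ≫ pullback.snd E.Γ.hom g) (Spec.map (CommRingCat.ofHom (algebraMap R R₂)))),
      ∃ _ : IsIntegral Z₂, ∀ (q : MaximalSpectrum R₂) (_ : q.asIdeal ≠ ⊥)
        (e : Spec (CommRingCat.of (Localization.AtPrime q.asIdeal)) ⟶ Z₂)
        (_ : e ≫ z₂ = Spec.map (CommRingCat.ofHom (algebraMap R₂ (Localization.AtPrime q.asIdeal)))),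
        Nonempty (ArcAt z₂ q.asIdeal (genericPoint Z₂)
          (e (IsLocalRing.closedPoint (Localization.AtPrime q.asIdeal))))) := by
  have i1 := E.clZ
  have i2 := E.flatZ
  have i3 := E.qcZ
  have i4 := E.lft
  have i5 := E.smooth
  have i6 := E.geom
  have h0 : pullback.snd (E.i ≫ pullback.snd E.Γ.hom g) (gn R K) = E.sq.isoPullback.inv ≫ E.u' :=
    (E.sq.isoPullback_inv_snd).symm
  have h1 : GeometricallyIntegral (pullback.snd (E.i ≫ pullback.snd E.Γ.hom g) (gn R K)) := by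
    rw [h0]
    exact (MorphismProperty.cancel_left_of_respectsIso @GeometricallyIntegral _ _).2 i6
  have h2 : Smooth (pullback.snd (E.i ≫ pullback.snd E.Γ.hom g) (gn R K)) := by
    rw [h0]
    infer_instance
  exact large_arcAt (GN.of_smooth K _) h1

/-- `Spec R₂ ⟶ Spec R₁ ⟶ Spec R`. -/
theorem sp_comp (R R₁ R₂ : Type u) [CommRing R] [CommRing R₁] [CommRing R₂] [Algebra R R₁] [Algebra R₁ R₂]
    [Algebra R R₂] [IsScalarTower R R₁ R₂] : sp R₁ R₂ ≫ sp R R₁ = sp R R₂ := by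
  rw [← Spec.map_comp, ← CommRingCat.ofHom_comp, ← IsScalarTower.algebraMap_eq]

/-- Generic arcs of `G` from the data over `R₁`. -/
theorem large_of_pre (R K : Type u) [CommRing R] [IsDedekindDomain R] [Finite (MaximalSpectrum R)]
    (hR : ¬ IsField R) [Field K] [Algebra R K] [IsFractionRing R K] (G : Over (pt (Spec (CommRingCat.of R))))
    [GrpObj G] (K₁ R₁ : Type u) [Field K₁] [Algebra K K₁] [FiniteDimensional K K₁] [Algebra R K₁] [IsScalarTower R K K₁]
    [CommRing R₁] [IsDedekindDomain R₁] [Finite (MaximalSpectrum R₁)] [Algebra R R₁] [Algebra.IsIntegral R R₁]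
    [Algebra R₁ K₁] [IsFractionRing R₁ K₁] [IsScalarTower R R₁ K₁] (H : Over (Spec (CommRingCat.of K₁))) [GrpObj H]
    (h : (yon _).obj ((Over.map (gn R₁ K₁ ≫ sp R R₁)).obj H) ⟶ G.left) (hs : Smooth H.hom)
    (hgi : GeometricallyIntegral H.hom) (hqc : QuasiCompact H.hom) (hh : IsHom _ G H h)
    (hP : ∀ q : MaximalSpectrum R₁, Nonempty (Pre _ G H h q)) :
    K93.RedFib.Large K (fun K₂ => ∀ (R₂ : Type u) [CommRing R₂] [IsDedekindDomain R₂] [Finite (MaximalSpectrum R₂)]
      [Algebra R R₂] [Algebra.IsIntegral R R₂] [Algebra R₂ K₂] [IsFractionRing R₂ K₂] [Algebra R K₂]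
      [IsScalarTower R K K₂] [IsScalarTower R R₂ K₂],
      ∃ D : HData R₂ K₂ ((F (Spec.map (CommRingCat.ofHom (algebraMap R R₂)))).obj G),
        ∀ q : MaximalSpectrum R₂, Nonempty (Arc R₂ K₂ D q)) := by
  let E := fun q => (hP q).some
  obtain ⟨K₃, _, _, _, h3⟩ := Large.forall_finite _ (fun q : MaximalSpectrum R₁ => large_pre (E q))
  let _ : Algebra K K₃ := ((algebraMap K₁ K₃).comp (algebraMap K K₁)).toAlgebra
  have t3 : IsScalarTower K K₁ K₃ := IsScalarTower.of_algebraMap_eq' rfl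
  have hfd : FiniteDimensional K K₃ := FiniteDimensional.trans K K₁ K₃
  refine ⟨K₃, inferInstance, inferInstance, hfd, fun K₂ _ _ _ _ _ => ?_⟩
  intro R₂ _ _ _ _ _ _ _ _ _ _
  let _ : Algebra K₁ K₂ := ((algebraMap K₃ K₂).comp (algebraMap K₁ K₃)).toAlgebra
  have t4 : IsScalarTower K₁ K₃ K₂ := IsScalarTower.of_algebraMap_eq' rfl
  have t5 : IsScalarTower K K₁ K₂ := IsScalarTower.of_algebraMap_eq fun x => by
    rw [IsScalarTower.algebraMap_apply K K₃ K₂, IsScalarTower.algebraMap_apply K K₁ K₃,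
      ← IsScalarTower.algebraMap_apply K₁ K₃ K₂]
  have t6 : IsScalarTower R K₁ K₂ := IsScalarTower.of_algebraMap_eq fun x => by
    rw [IsScalarTower.algebraMap_apply R K K₂, IsScalarTower.algebraMap_apply K K₁ K₂,
      ← IsScalarTower.algebraMap_apply R K K₁]
  let _ : Algebra R₁ K₂ := ((algebraMap K₁ K₂).comp (algebraMap R₁ K₁)).toAlgebra
  have t7 : IsScalarTower R₁ K₁ K₂ := IsScalarTower.of_algebraMap_eq' rfl
  have t8 : IsScalarTower R R₁ K₂ := IsScalarTower.of_algebraMap_eq fun x => by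
    rw [IsScalarTower.algebraMap_apply R₁ K₁ K₂, ← IsScalarTower.algebraMap_apply R R₁ K₁,
      ← IsScalarTower.algebraMap_apply R K₁ K₂]
  have hic : IsIntegralClosure R₂ R K₂ := IsIntegralClosure.of_isIntegrallyClosed R₂ R K₂
  let j : R₁ →ₐ[R] R₂ := IsIntegralClosure.lift R R₂ K₂
  let _ : Algebra R₁ R₂ := j.toRingHom.toAlgebra
  have t9 : IsScalarTower R R₁ R₂ := IsScalarTower.of_algebraMap_eq' j.comp_algebraMap.symm
  have t10 : IsScalarTower R₁ R₂ K₂ := IsScalarTower.of_algebraMap_eq fun x =>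
    (IsIntegralClosure.algebraMap_lift R R₂ K₂ x).symm
  have hint : Algebra.IsIntegral R₁ R₂ := Algebra.IsIntegral.tower_top R
  have hfd2 : FiniteDimensional K₁ K₂ := FiniteDimensional.right K K₁ K₂
  -- `R₂` is not a field
  have hR₂ : ¬ IsField R₂ := fun h' => by
    have h5 : Function.Injective (algebraMap R K₂) := by
      rw [IsScalarTower.algebraMap_eq R K K₂, RingHom.coe_comp]
      exact (algebraMap K K₂).injective.comp (IsFractionRing.injective R K)
    rw [IsScalarTower.algebraMap_eq R R₂ K₂, RingHom.coe_comp] at h5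
    exact hR (isField_of_isIntegral_of_isField (Function.Injective.of_comp h5) h')
  let k : Spec (CommRingCat.of K₂) ⟶ Spec (CommRingCat.of K₁) := Spec.map (CommRingCat.ofHom (algebraMap K₁ K₂))
  have hbk : gn R₂ K₂ ≫ sp R₁ R₂ = k ≫ gn R₁ K₁ := by
    change Spec.map _ ≫ Spec.map _ = Spec.map _ ≫ Spec.map _
    rw [← Spec.map_comp, ← Spec.map_comp, ← CommRingCat.ofHom_comp, ← CommRingCat.ofHom_comp,
      ← IsScalarTower.algebraMap_eq, ← IsScalarTower.algebraMap_eq]
  have hg : sp R₁ R₂ ≫ sp R R₁ = sp R R₂ := sp_comp R R₁ R₂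
  let _ : GrpObj ((Over.pullback k).obj H) := grpPb k H
  have s1 : Smooth ((Over.pullback k).obj H).hom := by
    change Smooth (pullback.snd H.hom k)
    infer_instance
  have s2 : GeometricallyIntegral ((Over.pullback k).obj H).hom := by
    change GeometricallyIntegral (pullback.snd H.hom k)
    infer_instance
  have s3 : QuasiCompact ((Over.pullback k).obj H).hom := by
    change QuasiCompact (pullback.snd H.hom k)
    infer_instance
  refine ⟨mkH (sp R R₂) G ((Over.pullback k).obj H) s1 s2 s3 ((yon _).map (prj' k (hkt hg hbk) H) ≫ h)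
    (isHom_pullback' k (hkt hg hbk) hh), fun q₂ => ?_⟩
  have hq₂ := q₂.isMaximal
  let q : MaximalSpectrum R₁ := ⟨q₂.asIdeal.comap (algebraMap R₁ R₂),
    Ideal.isMaximal_comap_of_isIntegral_of_isMaximal q₂.asIdeal⟩
  obtain ⟨hZ₂, harc⟩ := h3 K₂ q R₂ (Z₂ (R₂ := R₂) (E q)) (i₂ hg (E q) ≫ pullback.snd (E q).Γ.hom (sp R R₂))
    (pullback.fst _ _) (by
      rw [i₂_snd]
      exact IsPullback.of_hasPullback _ _)
  obtain ⟨A⟩ := harc q₂ (Ring.ne_bot_of_isMaximal_of_not_isField hq₂ hR₂) (eZ₂ (E q) q₂ rfl) (by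
    rw [i₂_snd]
    exact pullback.lift_snd _ _ _)
  exact @arc_of_pre _ _ _ _ _ _ _ _ _ _ _ _ _ _ _ s1 s2 s3 (isHom_pullback' k (hkt hg hbk) hh)
    (bc hg hbk (E q) q₂ rfl) hZ₂ A

/-- **Generic arcs of `G`** from the data over a first extension. -/
theorem arcG (hL : Lvl1.{u}) : K612.ArcDefs.ArcG.{u} := by
  intro R K _ _ _ hR _ _ _ G _ hG hft hfl hsep hU
  obtain ⟨K₁, _, _, hfd, _, _, H, _, h, hs, hgi, hqc, hh, hP⟩ := hL R K hR G hG hft hfl hsep hU
  have i1 : IsDedekindDomain (integralClosure R K₁) := K612.ChRep.isDedekindDomain R K K₁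
  have i2 : Finite (MaximalSpectrum (integralClosure R K₁)) := K612.ChRep.finite_maximalSpectrum R K K₁
  have i4 : IsFractionRing (integralClosure R K₁) K₁ := K553.DedExt.isFractionRing R K K₁
  exact large_of_pre R K hR G K₁ (integralClosure R K₁) H h hs hgi hqc hh hP

end K612.ArcG
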