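import Groth.Agent.AlgSp.K612.ArcDefs

/-!
# Homomorphisms from group schemes over fields to group algebraic spaces: composition and base change
-/

set_option autoImplicit false
universe v v' w w' u

open CategoryTheory CategoryTheory.Limits AlgebraicGeometry MonoidalCategory CartesianMonoidalCategory MonObj AlgSp

namespace K612.ArcHom

open K622.AnDefs K622.AnDefs2 K612.OrbFlat K624.GrpBC K612.ArcDefs

section gen

variable {C : Type w} [Category.{v} C] [CartesianMonoidalCategory C] {D : Type w'} [Category.{v'} D]
  [CartesianMonoidalCategory D] {A : C ⥤ D} {Φ : D ⥤ C} [Φ.Monoidal] (adj : A ⊣ Φ)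

/-- The adjunction is compatible with the group structures. -/
theorem homEquiv_mul {X : C} {M : D} [GrpObj M] (x y : A.obj X ⟶ M) :
    letI : GrpObj (Φ.obj M) := Functor.grpObjObj
    adj.homEquiv X M (x * y) = adj.homEquiv X M x * adj.homEquiv X M y := by
  let _ : GrpObj (Φ.obj M) := Functor.grpObjObj
  rw [Adjunction.homEquiv_unit, Adjunction.homEquiv_unit, Adjunction.homEquiv_unit, ← MonObj.comp_mul]
  congr 1
  exact Functor.map_mul Φ x y

theorem homEquiv_symm_mul {X : C} {M : D} [GrpObj M] (x y : letI : GrpObj (Φ.obj M) := Functor.grpObjObj; X ⟶ Φ.obj M) :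
    letI : GrpObj (Φ.obj M) := Functor.grpObjObj
    (adj.homEquiv X M).symm (x * y) = (adj.homEquiv X M).symm x * (adj.homEquiv X M).symm y := by
  let _ : GrpObj (Φ.obj M) := Functor.grpObjObj
  rw [Equiv.symm_apply_eq, homEquiv_mul]
  rw [Equiv.apply_symm_apply, Equiv.apply_symm_apply]

end gen

variable {S : Scheme.{u}}

/-- Precomposition with a homomorphism of group schemes. -/
theorem isHom_comp {K : Type u} [Field K] {t : Spec (CommRingCat.of K) ⟶ S} {G : Over (pt S)} [GrpObj G]
    {H H' : Over (Spec (CommRingCat.of K))} [GrpObj H] [GrpObj H'] (φ : H' ⟶ H) [IsMonHom φ]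
    {h : (yon S).obj ((Over.map t).obj H) ⟶ G.left} (hh : IsHom t G H h) :
    IsHom t G H' ((yon S).map ((Over.map t).map φ) ≫ h) := by
  intro T a b
  rw [← Category.assoc, ← Functor.map_comp, ← Functor.map_comp, MonObj.mul_comp, hh, Functor.map_comp,
    Functor.map_comp, Functor.map_comp, Functor.map_comp, Category.assoc, Category.assoc]

/-- The group structure of the base change of a group scheme. -/
noncomputable abbrev grpPb {K K' : Type u} [Field K] [Field K'] (k : Spec (CommRingCat.of K') ⟶ Spec (CommRingCat.of K))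
    (H : Over (Spec (CommRingCat.of K))) [GrpObj H] : GrpObj ((Over.pullback k).obj H) := Functor.grpObjObj

/-- The projection of the base change. -/
noncomputable abbrev prj {K K' : Type u} [Field K] [Field K'] (k : Spec (CommRingCat.of K') ⟶ Spec (CommRingCat.of K))
    (t : Spec (CommRingCat.of K) ⟶ S) (H : Over (Spec (CommRingCat.of K))) :
    (Over.map (k ≫ t)).obj ((Over.pullback k).obj H) ⟶ (Over.map t).obj H :=
  Over.homMk (pullback.fst H.hom k) (by
    change pullback.fst H.hom k ≫ H.hom ≫ t = pullback.snd H.hom k ≫ k ≫ t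
    rw [← Category.assoc, pullback.condition, Category.assoc])

/-- Base change. -/
theorem isHom_pullback {K K' : Type u} [Field K] [Field K'] (k : Spec (CommRingCat.of K') ⟶ Spec (CommRingCat.of K))
    {t : Spec (CommRingCat.of K) ⟶ S} {G : Over (pt S)} [GrpObj G] {H : Over (Spec (CommRingCat.of K))} [GrpObj H]
    {h : (yon S).obj ((Over.map t).obj H) ⟶ G.left} (hh : IsHom t G H h) :
    letI := grpPb k H
    IsHom (k ≫ t) G ((Over.pullback k).obj H) ((yon S).map (prj k t H) ≫ h) := by
  intro T a b
  let _ := grpPb k H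
  -- the identification of the two restrictions of `T`
  let τ : (Over.map (k ≫ t)).obj T ⟶ (Over.map t).obj ((Over.map k).obj T) := Over.homMk (𝟙 T.left) (by
    change 𝟙 T.left ≫ (T.hom ≫ k) ≫ t = T.hom ≫ k ≫ t
    rw [Category.id_comp, Category.assoc])
  have key : ∀ c : T ⟶ (Over.pullback k).obj H,
      (yon S).map ((Over.map (k ≫ t)).map c) ≫ (yon S).map (prj k t H) ≫ h =
        (yon S).map τ ≫ (yon S).map ((Over.map t).map (((Over.mapPullbackAdj k).homEquiv T H).symm c)) ≫ h := by
    intro c
    rw [← Category.assoc, ← Category.assoc, ← Functor.map_comp, ← Functor.map_comp]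
    congr 2
  rw [key, homEquiv_symm_mul (Over.mapPullbackAdj k), hh, OrbFlat.comp_mul, ← key, ← key]

end K612.ArcHom
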