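import Groth.Agent.AlgSp.K622.FibPts
import Groth.Agent.Cyc.K309.DimIrr
import Groth.Agent.CycB.PtClosure
import Groth.Agent.CycB.ImageInt
import Groth.Agent.Algz.K710.Star
import Groth.Agent.Neron.K485.DedSurf
import Groth.Agent.S19202
import Groth.Agent.Flat2E.GenericFibre
import Groth.Agent.S0354
import Groth.Agent.S0350
import Groth.Agent.CycA.SetupField
import Groth.Agent.Ega4fib.H175.JacobsonDim

/-!
# Maximal points of fibres over Dedekind domains

* `isMaxFib_of_closed`: `Γ` flat over a Dedekind domain, the maximal points of its generic fibre have the same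
  transcendence degree; `Z ⊂ Γ` an integral flat closed subscheme which is a component. Then the maximal
  points of the fibres of `Z` are maximal in the fibres of `Γ`.
* `exists_rtd_eq`: the maximal points of a group scheme over a field have the same transcendence degree.
-/

set_option autoImplicit false
set_option backward.isDefEq.respectTransparency false
universe u

open CategoryTheory CategoryTheory.Limits AlgebraicGeometry TopologicalSpace

namespace K612.MaxFib

open K622.FibPts Groth.Agent.CycB Groth.Agent.CycB.RelDim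

section ded

variable {R : Type u} [CommRing R] [IsDedekindDomain R]

open Classical in
/-- The dimension function of `Spec R`. -/
noncomputable def dR (s : ↥(Spec (CommRingCat.of R))) : ℤ := if (s : PrimeSpectrum R).asIdeal = ⊥ then 0 else -1

theorem dR_isSetup : Cyc.IsSetup (Spec (CommRingCat.of R)) (dR (R := R)) := by
  refine ⟨inferInstance, fun y => K710.Star.isUniversallyCatenary_stalk R
    (K485.DedSurf.isUniversallyCatenary R) y, fun x y hxy hne => ?_⟩
  have hle : (x : PrimeSpectrum R).asIdeal ≤ (y : PrimeSpectrum R).asIdeal :=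
    (PrimeSpectrum.le_iff_specializes (R := R) x y).2 hxy
  have hx : (x : PrimeSpectrum R).asIdeal = ⊥ := by
    by_contra h
    have hmax : (x : PrimeSpectrum R).asIdeal.IsMaximal := (x : PrimeSpectrum R).isPrime.isMaximal h
    have := hmax.eq_of_le (y : PrimeSpectrum R).isPrime.ne_top hle
    exact hne (PrimeSpectrum.ext this)
  have hy : (y : PrimeSpectrum R).asIdeal ≠ ⊥ := fun h => hne (PrimeSpectrum.ext (hx.trans h.symm))
  simp only [dR, hx, hy, if_true, if_false]
  exact ⟨by norm_num, fun _ => by norm_num⟩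

theorem fibGeneric_iff {X Y : Scheme.{u}} (f : X ⟶ Y) (x : X) : FibGeneric f x ↔ IsMaxFib f x :=
  ⟨fun h z hz he => h z he hz, fun h z he hz => h z hz he⟩

theorem genericPoint_asIdeal : (genericPoint (Spec (CommRingCat.of R)) : PrimeSpectrum R).asIdeal = ⊥ := by
  have h1 := genericPoint_specializes (⟨⊥, Ideal.isPrime_bot⟩ : ↥(Spec (CommRingCat.of R)))
  have h2 : (genericPoint (Spec (CommRingCat.of R)) : PrimeSpectrum R).asIdeal ≤ ⊥ :=
    (PrimeSpectrum.le_iff_specializes (R := R) _ _).2 h1
  exact le_bot_iff.1 h2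

/-- The closure of a point over the generic point is flat. -/
theorem flat_ptCl {Γ : Scheme.{u}} (f : Γ ⟶ Spec (CommRingCat.of R)) (y : Γ)
    (hy : (f y : PrimeSpectrum R).asIdeal = ⊥) : Flat (PtClosure.ptClι y ≫ f) := by
  have h : Flat (Γ.fromSpecResidueField y ≫ f) := by
    rw [← Scheme.Hom.SpecMap_residueFieldMap_fromSpecResidueField]
    have h1 : Flat (Spec.map (f.residueFieldMap y)) := inferInstance
    have h3 : f y = genericPoint (Spec (CommRingCat.of R)) :=
      PrimeSpectrum.ext (hy.trans genericPoint_asIdeal.symm)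
    have h2 : Flat ((Spec (CommRingCat.of R)).fromSpecResidueField (f y)) := by
      rw [h3]
      exact Groth.Agent.Flat2E.GenericFibre.flat_fromSpecResidueField_genericPoint _
    infer_instance
  exact Groth.Agent.S19202.result R _ f (Γ.fromSpecResidueField y) rfl

theorem dR_genericPoint : dR (genericPoint (Spec (CommRingCat.of R))) = 0 := by
  simp only [dR, genericPoint_asIdeal, if_true]

theorem delta_of_closed {Γ C : Scheme.{u}} (f : Γ ⟶ Spec (CommRingCat.of R)) [LocallyOfFiniteType f]
    {δ : Γ → ℤ} (hδ : Cyc.DeltaCompat f δ (dR (R := R))) (c : C ⟶ Γ) [IsClosedImmersion c] [IsIntegral C]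
    [Flat (c ≫ f)] {x : C} (hx : IsMaxFib (c ≫ f) x) :
    δ (c x) = dR (f (c x)) + δ (c (genericPoint C)) := by
  have hδC : Cyc.DeltaCompat (c ≫ f) (fun z => δ (c z)) (dR (R := R)) := by
    rw [deltaCompat_iff]
    intro z
    obtain ⟨n, hn, e⟩ := deltaCompat_iff.1 hδ (c z)
    refine ⟨n, ?_, e⟩
    rw [rtd_comp, rtd_eq_zero_of_isPreimmersion c, add_zero]
    exact hn
  have h := K309.DimIrr.delta_of_fibGeneric (SetupLft.isSetup_of_deltaCompat (c ≫ f) dR_isSetup hδC) dR_isSetup
    ((fibGeneric_iff _ _).2 hx)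
  rw [dR_genericPoint, sub_zero] at h
  exact h

/-- Maximal points of the fibres of a component are maximal (equal generic transcendence degrees). -/
theorem isMaxFib_of_closed {Γ Z : Scheme.{u}} (f : Γ ⟶ Spec (CommRingCat.of R)) [Flat f] [LocallyOfFiniteType f]
    (i : Z ⟶ Γ) [IsClosedImmersion i] [IsIntegral Z] [Flat (i ≫ f)]
    (hd : ∀ y y' : Γ, IsMaxFib f y → IsMaxFib f y' → (f y : PrimeSpectrum R).asIdeal = ⊥ →
      (f y' : PrimeSpectrum R).asIdeal = ⊥ → rtd f y = rtd f y')
    (hZ : IsMaxFib f (i (genericPoint Z))) {x : Z} (hx : IsMaxFib (i ≫ f) x) : IsMaxFib f (i x) := by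
  obtain ⟨δ, hδ⟩ := SetupLft.exists_deltaCompat f (dR (R := R))
  have hS := SetupLft.isSetup_of_deltaCompat f dR_isSetup hδ
  intro z hz hfz
  obtain ⟨z', hz', hfz', hg⟩ := exists_fibGeneric_specializes f z
  obtain ⟨w, hw, hfw⟩ := exists_specializes_of_flat f (x := z') (genericPoint_specializes (f z'))
  obtain ⟨y, hy, hfy, hgy⟩ := exists_fibGeneric_specializes f w
  have hfy' : (f y : PrimeSpectrum R).asIdeal = ⊥ := by
    rw [hfy, hfw]; exact genericPoint_asIdeal
  have hflat := flat_ptCl f y hfy'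
  obtain ⟨z'', hz''⟩ : z' ∈ Set.range (PtClosure.ptClι y) := by
    rw [PtClosure.range_ptClι]
    exact (hy.trans hw).mem_closure
  have hmax : IsMaxFib (PtClosure.ptClι y ≫ f) z'' := by
    intro t ht hft
    apply (PtClosure.ptClι y).isClosedEmbedding.injective
    rw [hz'']
    refine hg _ ?_ ?_
    · have h1 : (PtClosure.ptClι y ≫ f) t = (PtClosure.ptClι y ≫ f) z'' := hft
      rw [Scheme.Hom.comp_apply, Scheme.Hom.comp_apply, hz''] at h1
      exact h1
    · rw [← hz'']
      exact ht.map (PtClosure.ptClι y).continuous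
  have h1 := delta_of_closed f hδ (PtClosure.ptClι y) hmax
  rw [PtClosure.genericPoint_ptCl, PtClosure.ptClι_ptGen, hz''] at h1
  have h2 := delta_of_closed f hδ i hx
  obtain ⟨n, hn, e⟩ := deltaCompat_iff.1 hδ y
  obtain ⟨m, hm, e'⟩ := deltaCompat_iff.1 hδ (i (genericPoint Z))
  have hfZ : (f (i (genericPoint Z)) : PrimeSpectrum R).asIdeal = ⊥ := map_genericPoint (i ≫ f)
  have hnm : n = m := by
    have := hd y _ ((fibGeneric_iff _ _).1 hgy) hZ hfy' hfZ
    rw [hn, hm] at this
    exact_mod_cast this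
  have h0 : dR (f y) = 0 := by simp only [dR, hfy', if_true]
  have h0' : dR (f (i (genericPoint Z))) = 0 := by simp only [dR, hfZ, if_true]
  have h3 : δ z' = δ (i x) := by
    rw [h1, h2, e, e', h0, h0', hnm, hfz', hfz]
  have h4 : z' = i x := by
    by_contra hne
    have := (hS.2.2 z' (i x) (hz'.trans hz) hne).1
    omega
  exact (hz.antisymm (h4 ▸ hz')).eq

end ded

section grp

open MonoidalCategory MonObj

/-- If all local rings have one minimal prime, all generizations of `x` are specializations of a maximal point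
above `x`. -/
theorem specializes_of_subsingleton {X : Scheme.{u}} {x y w : X}
    (h : (minimalPrimes (X.presheaf.stalk x)).Subsingleton) (hy : ∀ z, z ⤳ y → z = y) (hyx : y ⤳ x)
    (hw : w ⤳ x) : y ⤳ w := by
  have hymin : (LocQuot.primeOf hyx).asIdeal ∈ minimalPrimes (X.presheaf.stalk x) := by
    refine ⟨⟨(LocQuot.primeOf hyx).isPrime, bot_le⟩, fun Q hQ hle => ?_⟩
    let P : PrimeSpectrum (X.presheaf.stalk x) := ⟨Q, hQ.1⟩
    have h1 : P ≤ LocQuot.primeOf hyx := hle
    rw [← LocQuot.primeOf_ptOf P, LocQuot.primeOf_le_iff] at h1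
    have h2 := hy _ h1
    have h3 : P = LocQuot.primeOf hyx := by
      rw [← LocQuot.primeOf_ptOf P]
      exact (LocQuot.primeOf_inj _ _).2 h2
    rw [← h3]
  obtain ⟨Q, hQ, hle⟩ := Ideal.exists_minimalPrimes_le (I := (⊥ : Ideal (X.presheaf.stalk x)))
    (J := (LocQuot.primeOf hw).asIdeal) bot_le
  have h4 : Q = (LocQuot.primeOf hyx).asIdeal := h hQ hymin
  rw [h4] at hle
  exact (LocQuot.primeOf_le_iff hyx hw).1 hle

/-- The maximal points of a group scheme locally of finite type over a field have the same transcendence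
degree. -/
theorem rtd_eq_of_group {K : Type u} [Field K] (G : Over (Spec (CommRingCat.of K))) [GrpObj G]
    [LocallyOfFiniteType G.hom] {y y' : G.left} (hy : ∀ z, z ⤳ y → z = y) (hy' : ∀ z, z ⤳ y' → z = y') :
    rtd G.hom y = rtd G.hom y' := by
  obtain ⟨δ, hδ⟩ := SetupLft.exists_deltaCompat G.hom (fun _ => (0 : ℤ))
  have hS := Groth.Agent.CycA.SetupField.isSetup_of_field G.hom hδ
  have hJ : JacobsonSpace G.left := LocallyOfFiniteType.jacobsonSpace (Y := Spec _) G.hom
  have key : ∀ y : G.left, (∀ z, z ⤳ y → z = y) → ∃ n : ℕ, rtd G.hom y = n ∧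
      topologicalKrullDim G.left = (n : WithBot ℕ∞) := by
    intro y hy
    obtain ⟨p, hp, hpc⟩ := nonempty_inter_closedPoints (Z := closure {y}) ⟨y, subset_closure rfl⟩
      isClosed_closure.isLocallyClosed
    have hyp : y ⤳ p := specializes_iff_mem_closure.2 hp
    obtain ⟨n, hn, e⟩ := deltaCompat_iff.1 hδ y
    obtain ⟨m, hm, e'⟩ := deltaCompat_iff.1 hδ p
    rw [Groth.Agent.Ega4fib.H175.JacobsonDim.rtd_eq_zero_of_isClosed G.hom hpc] at hm
    have hm0 : m = 0 := by exact_mod_cast hm.symm
    refine ⟨n, hn, ?_⟩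
    rw [← Groth.Agent.S0354.result K G p hpc]
    have h1 := LocQuot.ringKrullDim_locQuot hS.2.2 hyp
    rw [e, e', hm0] at h1
    have h2 : ((0 : ℤ) + (n : ℤ) - (0 + ((0 : ℕ) : ℤ))).toNat = n := by simp
    rw [h2] at h1
    rw [← h1, ringKrullDim_quotient]
    have : PrimeSpectrum.zeroLocus
        (RingHom.ker (Cyc.specMap p y hyp) : Set (G.left.presheaf.stalk p)) = Set.univ := by
      rw [Set.eq_univ_iff_forall]
      intro P
      rw [LocQuot.mem_zeroLocus_iff, ← LocQuot.primeOf_ptOf P, LocQuot.primeOf_le_iff]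
      exact specializes_of_subsingleton ((Groth.Agent.S0350.result K G).1 p) hy hyp (LocQuot.ptOf_specializes P)
    rw [this]
    exact Order.krullDim_eq_of_orderIso OrderIso.Set.univ.symm
  obtain ⟨n, hn, h1⟩ := key y hy
  obtain ⟨m, hm, h2⟩ := key y' hy'
  rw [hn, hm]
  have : n = m := by
    rw [h1] at h2
    exact_mod_cast h2
  rw [this]

/-- The generic fibre of `Γ ⟶ Spec R` is an open subscheme of a group scheme: then the maximal points of
`Γ` over the generic point have the same transcendence degree. -/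
theorem rtd_eq_of_open {R : Type u} [CommRing R] [IsDomain R] {K : Type u} [Field K] [Algebra R K]
    [IsFractionRing R K] {Γ ΓK : Scheme.{u}} (f : Γ ⟶ Spec (CommRingCat.of R)) {a : ΓK ⟶ Γ}
    {b : ΓK ⟶ Spec (CommRingCat.of K)}
    (sq : IsPullback a b f (Spec.map (CommRingCat.ofHom (algebraMap R K))))
    (G : Over (Spec (CommRingCat.of K))) [GrpObj G] [LocallyOfFiniteType G.hom] (j : ΓK ⟶ G.left)
    [IsOpenImmersion j] (hj : j ≫ G.hom = b) {y y' : Γ} (hy : IsMaxFib f y) (hy' : IsMaxFib f y')
    (h0 : (f y : PrimeSpectrum R).asIdeal = ⊥) (h0' : (f y' : PrimeSpectrum R).asIdeal = ⊥) :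
    rtd f y = rtd f y' := by
  have hg : IsPreimmersion (Spec.map (CommRingCat.ofHom (algebraMap R K))) :=
    IsPreimmersion.of_isLocalization (nonZeroDivisors R)
  have ha : IsPreimmersion a := MorphismProperty.of_isPullback sq.flip hg
  have key : ∀ y : Γ, IsMaxFib f y → (f y : PrimeSpectrum R).asIdeal = ⊥ →
      ∃ w : G.left, (∀ z, z ⤳ w → z = w) ∧ rtd f y = rtd G.hom w := by
    intro y hy h0
    have h1 : f y = (Spec.map (CommRingCat.ofHom (algebraMap R K))) (⊥ : PrimeSpectrum K) := by
      apply PrimeSpectrum.ext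
      rw [h0]
      change ⊥ = Ideal.comap (algebraMap R K) (⊥ : Ideal K)
      rw [← RingHom.ker_eq_comap_bot, (RingHom.injective_iff_ker_eq_bot _).1 (IsFractionRing.injective R K)]
    obtain ⟨yK, hyK⟩ : ∃ yK, a yK = y := by
      obtain ⟨z, hz, -⟩ := Scheme.Pullback.exists_preimage_pullback (f := f) y _ h1
      refine ⟨sq.isoPullback.inv z, ?_⟩
      rw [← Scheme.Hom.comp_apply, sq.isoPullback_inv_fst, hz]
    refine ⟨j yK, fun z hz => ?_, ?_⟩
    · obtain ⟨z', rfl⟩ : z ∈ Set.range j := hz.mem_open j.isOpenEmbedding.isOpen_range ⟨yK, rfl⟩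
      have h2 : z' ⤳ yK := (j.isOpenEmbedding.isInducing.specializes_iff).1 hz
      have h3 : a z' = a yK := by
        rw [hyK]
        refine hy _ (by rw [← hyK]; exact h2.map a.continuous) ?_
        have h4 : ∀ z : ΓK, (f (a z) : PrimeSpectrum R).asIdeal = ⊥ := by
          intro z
          rw [← Scheme.Hom.comp_apply, sq.w, Scheme.Hom.comp_apply, Subsingleton.elim (b z) (⊥ : PrimeSpectrum K), ← h1]
          exact h0
        exact PrimeSpectrum.ext ((h4 z').trans h0.symm)
      rw [a.isEmbedding.injective h3]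
    · have e1 := rtd_comp a f yK
      have e2 := rtd_comp b (Spec.map (CommRingCat.ofHom (algebraMap R K))) yK
      rw [rtd_eq_zero_of_isPreimmersion a, add_zero, hyK] at e1
      rw [rtd_eq_zero_of_isPreimmersion (Spec.map (CommRingCat.ofHom (algebraMap R K))), zero_add] at e2
      have e3 := rtd_comp j G.hom yK
      rw [rtd_eq_zero_of_isPreimmersion j, add_zero, hj] at e3
      rw [← e1, ← e3, ← e2, sq.w]
  obtain ⟨w, hw, e⟩ := key y hy h0
  obtain ⟨w', hw', e'⟩ := key y' hy' h0'
  rw [e, e']
  exact rtd_eq_of_group G hw hw'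

end grp

end K612.MaxFib
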