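import Groth.Agent.AlgSp.K612.ArcUp
import Groth.Agent.AlgSp.K612.MaxFib
import Groth.Agent.AlgSp.K93.ArcS

/-!
# Arcs of a group from arcs of the closure of its identity component

`arc_of_pre`: the data `Pre` over `R` and an arc of the integral scheme `Z` give an `Arc`.
-/

set_option autoImplicit false
set_option backward.isDefEq.respectTransparency false
universe u

open CategoryTheory CategoryTheory.Limits AlgebraicGeometry Opposite MonoidalCategory CartesianMonoidalCategory MonObj
open AlgSp K595.ChBase K902.Slice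

namespace K612.ArcMk

open K622.AnDefs K622.AnDefs2 K612.OrbFlat K624.GrpBC K624.AnBC K612.ArcDefs K612.ArcHom K612.ArcUp K622.FibPts
  K93.RedFib

section pts

variable {R K : Type u} [CommRing R] [IsDomain R] [Field K] [Algebra R K] [IsFractionRing R K]

omit [IsDomain R] in
theorem gn_bot : ((gn R K) (⊥ : PrimeSpectrum K) : PrimeSpectrum R).asIdeal = ⊥ := by
  change Ideal.comap (algebraMap R K) (⊥ : Ideal K) = ⊥
  rw [← RingHom.ker_eq_comap_bot, (RingHom.injective_iff_ker_eq_bot _).1 (IsFractionRing.injective R K)]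

omit [IsDomain R] in
theorem exists_lift {X V : Scheme.{u}} {f : X ⟶ Spec (CommRingCat.of R)} {a : V ⟶ X}
    {b : V ⟶ Spec (CommRingCat.of K)} (sqV : IsPullback a b f (gn R K)) (x : X)
    (hx : (f x : PrimeSpectrum R).asIdeal = ⊥) : ∃ z, a z = x := by
  have h1 : f x = (gn R K) (⊥ : PrimeSpectrum K) := PrimeSpectrum.ext (hx.trans gn_bot.symm)
  obtain ⟨z, hz, -⟩ := Scheme.Pullback.exists_preimage_pullback (f := f) x _ h1
  refine ⟨sqV.isoPullback.inv z, ?_⟩
  rw [← Scheme.Hom.comp_apply, sqV.isoPullback_inv_fst, hz]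

/-- The generic point of a closed integral subscheme whose generic fibre is open is maximal in its fibre. -/
theorem isMaxFib_gen {X Z U V : Scheme.{u}} {f : X ⟶ Spec (CommRingCat.of R)} {i : Z ⟶ X} [IsClosedImmersion i]
    [IsIntegral Z] [Flat (i ≫ f)] {u : U ⟶ Z} {u' : U ⟶ Spec (CommRingCat.of K)}
    (sq : IsPullback u u' (i ≫ f) (gn R K)) {a : V ⟶ X} {b : V ⟶ Spec (CommRingCat.of K)}
    (sqV : IsPullback a b f (gn R K)) {v : U ⟶ V} (va : v ≫ a = u ≫ i) (hv : IsOpen (Set.range v)) :
    IsMaxFib f (i (genericPoint Z)) := by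
  have hg : IsPreimmersion (gn R K) := IsPreimmersion.of_isLocalization (nonZeroDivisors R)
  have ha : IsPreimmersion a := MorphismProperty.of_isPullback sqV.flip hg
  have h0 : (f (i (genericPoint Z)) : PrimeSpectrum R).asIdeal = ⊥ := map_genericPoint (i ≫ f)
  obtain ⟨y₀, hy₀⟩ := exists_lift sq (genericPoint Z) h0
  have hvi : ∀ y : U, a (v y) = i (u y) := fun y => by
    rw [← Scheme.Hom.comp_apply, va, Scheme.Hom.comp_apply]
  intro z hz hfz
  obtain ⟨z', hz'⟩ := exists_lift sqV z (by rw [hfz]; exact h0)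
  have h1 : z' ⤳ v y₀ := by
    rw [← a.isEmbedding.isInducing.specializes_iff, hvi, hy₀, hz']
    exact hz
  obtain ⟨y, rfl⟩ : z' ∈ Set.range v := h1.mem_open hv ⟨y₀, rfl⟩
  rw [hvi] at hz'
  have h2 : u y ⤳ genericPoint Z := by
    rw [← i.isClosedEmbedding.isInducing.specializes_iff, hz']
    exact hz
  rw [← hz', (h2.antisymm (genericPoint_specializes (u y))).eq]

end pts

/-- A flat homomorphism from a domain to a nontrivial ring is injective. -/
theorem injective_of_flat {R P : Type u} [CommRing R] [IsDomain R] [CommRing P] [Nontrivial P] (φ : R →+* P)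
    (h : φ.Flat) : Function.Injective φ := by
  let _ : Algebra R P := φ.toAlgebra
  have : Module.Flat R P := h
  refine (injective_iff_map_eq_zero φ).2 fun r hr => ?_
  by_contra hne
  have h1 : IsSMulRegular P r := Module.Flat.isSMulRegular_of_nonZeroDivisors (mem_nonZeroDivisors_of_ne_zero hne)
  have h2 : r • (1 : P) = r • (0 : P) := by
    rw [Algebra.smul_def, smul_zero, _root_.mul_one]
    exact hr
  exact one_ne_zero (h1 h2)

theorem exists_t0 {R K P L : Type u} [CommRing R] [IsDomain R] [Field K] [Algebra R K] [IsFractionRing R K]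
    [CommRing P] [IsDomain P] [Field L] [Algebra P L] [IsFractionRing P L] (φ : R →+* P) (h : φ.Flat) :
    ∃ t : K →+* L, t.comp (algebraMap R K) = (algebraMap P L).comp φ := by
  have hinj : Function.Injective ((algebraMap P L).comp φ) := by
    rw [RingHom.coe_comp]
    exact (IsFractionRing.injective P L).comp (injective_of_flat φ h)
  refine ⟨IsFractionRing.lift hinj, ?_⟩
  ext x
  exact IsFractionRing.lift_algebraMap hinj x

theorem exists_t {R K P : Type u} [CommRing R] [IsDomain R] [Field K] [Algebra R K] [IsFractionRing R K] [CommRing P]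
    [IsDomain P] (φ : R →+* P) (h : φ.Flat) : ∃ t : K →+* FractionRing P,
      t.comp (algebraMap R K) = (algebraMap P (FractionRing P)).comp φ :=
  exists_t0 φ h

variable {S : Scheme.{u}} {R K : Type u} [CommRing R] [IsDedekindDomain R] [Field K] [Algebra R K]
  [IsFractionRing R K] {g : Spec (CommRingCat.of R) ⟶ S} {G : Over (pt S)} [GrpObj G]
  {H : Over (Spec (CommRingCat.of K))} [GrpObj H] {h : (yon S).obj ((Over.map (gn R K ≫ g)).obj H) ⟶ G.left}
  {q : MaximalSpectrum R}

omit [IsDedekindDomain R] [IsFractionRing R K] [GrpObj G] [GrpObj H] in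
theorem flG_h {T U : Over (Spec (CommRingCat.of K))} (x : T ⟶ U) (w : U ⟶ H)
    (h : (yon S).obj ((Over.map (gn R K ≫ g)).obj H) ⟶ G.left) :
    flG ((yon _).map ((Over.map (gn R K)).map (x ≫ w)) ≫ shG (g := g) (G := G) ((yon S).map (two g H) ≫ h)) =
      ((yon S).map (two g T) ≫ (yon S).map ((Over.map (gn R K ≫ g)).map x)) ≫
        (yon S).map ((Over.map (gn R K ≫ g)).map w) ≫ h := by
  rw [flG_pre, flG_shG, ← Category.assoc, ← Functor.map_comp, two_naturality, Functor.map_comp, Functor.map_comp,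
    Functor.map_comp, Category.assoc, Category.assoc, Category.assoc]

omit [IsDedekindDomain R] [GrpObj G] in
theorem flG_j {T : Over (Spec (CommRingCat.of R))} {Γ : Over S} (x : T ⟶ Over.mk (pullback.snd Γ.hom g))
    (j : (yon S).obj Γ ⟶ G.left) :
    flG (G := G) ((yon _).map x ≫ (yonIsoR (g := g) Γ).hom ≫ (K595.ChBase.R g).map j) =
      (yon S).map ((Over.map g).map x ≫ (Over.mapPullbackAdj g).counit.app Γ) ≫ j := by
  change fl (X := G.left) _ = _
  rw [fl_pre, fl_comp, fl_yonIsoR, Functor.map_comp, Category.assoc]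

omit [GrpObj G] in
theorem comb {T₁ T₂ T₃ T₄ : Over S} (a : T₁ ⟶ T₂) (b : T₂ ⟶ T₃) (c : T₃ ⟶ T₄) (j : (yon S).obj T₄ ⟶ G.left) :
    ((yon S).map a ≫ (yon S).map b) ≫ (yon S).map c ≫ j = (yon S).map (a ≫ b ≫ c) ≫ j := by
  rw [Functor.map_comp, Functor.map_comp, Category.assoc, Category.assoc, Category.assoc]

/-- **The arc** of `G` attached to an arc of `Z`. -/
theorem arc_of_pre (h1 : Smooth H.hom) (h2 : GeometricallyIntegral H.hom) (h3 : QuasiCompact H.hom)
    (hh : IsHom (gn R K ≫ g) G H h) (E : Pre g G H h q) [IsIntegral E.Z]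
    (A : ArcAt (E.i ≫ pullback.snd E.Γ.hom g) q.asIdeal (genericPoint E.Z)
      (E.eZ (IsLocalRing.closedPoint (Localization.AtPrime q.asIdeal)))) :
    Nonempty (Arc R K (mkH g G H h1 h2 h3 h hh) q) := by
  have i1 := E.clZ
  have i2 := E.flatZ
  have i3 := E.lft
  have i4 := E.flat
  have i5 := E.lftA
  have i6 := E.openA
  have hgen : IsMaxFib (pullback.snd E.Γ.hom g) (E.i (genericPoint E.Z)) :=
    isMaxFib_gen E.sq E.sqV E.va E.openV
  -- the group point
  obtain ⟨t, ht⟩ := exists_t (K := K) A.φ A.flat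
  let x : Spec (CommRingCat.of (FractionRing A.P)) ⟶ Spec (CommRingCat.of A.P) :=
    Spec.map (CommRingCat.ofHom (algebraMap A.P (FractionRing A.P)))
  have hx : Spec.map (CommRingCat.ofHom t) ≫ gn R K = x ≫ Spec.map (CommRingCat.ofHom A.φ) := by
    change Spec.map _ ≫ Spec.map _ = Spec.map _ ≫ Spec.map _
    rw [← Spec.map_comp, ← Spec.map_comp, ← CommRingCat.ofHom_comp, ← CommRingCat.ofHom_comp, ht]
  let g₀ : Over.mk (Spec.map (CommRingCat.ofHom t)) ⟶ Over.mk E.u' :=
    Over.homMk (E.sq.lift (x ≫ A.c) (Spec.map (CommRingCat.ofHom t)) (by rw [hx, Category.assoc, A.hc]))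
      (E.sq.lift_snd _ _ _)
  -- the unit section
  let e : loc q ⟶ Over.mk (pullback.snd E.Γ.hom g) := bcLift (T' := loc q) E.e (𝟙 _) (Category.id_comp _)
  have he : e.left = E.eZ ≫ E.i := by
    apply pullback.hom_ext
    · change pullback.lift _ _ _ ≫ _ = _
      rw [pullback.lift_fst, Category.id_comp, Category.assoc, E.eZ_fst]
    · change pullback.lift _ _ _ ≫ _ = _
      rw [pullback.lift_snd, Category.assoc, E.eZ_snd]
  refine ⟨{
    P := A.P
    φ := A.φ
    flat := A.flat
    comap := A.comap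
    map := A.map
    res := A.res
    Γ := Over.mk (pullback.snd E.Γ.hom g)
    j := (yonIsoR (g := g) E.Γ).hom ≫ (K595.ChBase.R g).map E.j
    openImm := ?_
    lft := inferInstanceAs (LocallyOfFiniteType (pullback.snd E.Γ.hom g))
    e := e
    unit := ?_
    c := Over.homMk (A.c ≫ E.i) (by
      change (A.c ≫ E.i) ≫ pullback.snd E.Γ.hom g = Spec.map _
      rw [Category.assoc, A.hc])
    max_closed := ?_
    max_gen := ?_
    spec_closed := ?_
    spec_gen := ?_
    t := t
    ht := ht
    g := g₀ ≫ E.w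
    hg := ?_ }⟩
  · exact (repWith_cancel_left _ _).2 (repWith_R (g := g) E.openImm)
  · rw [eta_left]
    exact key E.e E.j η[G].left E.unit _ (Category.id_comp _)
  · exact K612.MaxFib.isMaxFib_of_closed (pullback.snd E.Γ.hom g) E.i
      (fun y y' hy hy' h0 h0' => K612.MaxFib.rtd_eq_of_open (K := K) (pullback.snd E.Γ.hom g) E.sqV E.A E.jA E.jA_hom
        hy hy' h0 h0') hgen A.max_closed
  · change IsMaxFib (pullback.snd E.Γ.hom g) ((A.c ≫ E.i) (⊥ : PrimeSpectrum A.P))
    rw [Scheme.Hom.comp_apply, A.gen]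
    exact hgen
  · change (A.c ≫ E.i) _ ⤳ e.left _
    rw [he, Scheme.Hom.comp_apply, Scheme.Hom.comp_apply]
    exact A.spec_closed.map E.i.continuous
  · intro z hz
    change (A.c ≫ E.i) (⊥ : PrimeSpectrum A.P) ⤳ e.left z
    rw [he, Scheme.Hom.comp_apply, Scheme.Hom.comp_apply, A.gen]
    exact (genericPoint_specializes _).map E.i.continuous
  · apply flG_injective
    refine (flG_h g₀ E.w h).trans ?_
    rw [E.compat]
    refine Eq.trans ?_ (flG_j _ E.j).symm
    refine (comb _ _ _ _).trans (congrArg (fun z => (yon S).map z ≫ E.j) (Over.OverMorphism.ext ?_))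
    change 𝟙 _ ≫ g₀.left ≫ E.u ≫ E.i ≫ pullback.fst E.Γ.hom g = (x ≫ A.c ≫ E.i) ≫ pullback.fst E.Γ.hom g
    have h5 : g₀.left ≫ E.u = x ≫ A.c := E.sq.lift_fst _ _ _
    rw [Category.id_comp, reassoc_of% h5, Category.assoc, Category.assoc]

end K612.ArcMk
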