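import Groth.Agent.AlgSp.K612.ArcHom

/-!
# Base change of the data `Pre`
-/

set_option autoImplicit false
universe u

open CategoryTheory CategoryTheory.Limits AlgebraicGeometry MonoidalCategory MonObj AlgSp

namespace K612.ArcPb

open K622.AnDefs K622.AnDefs2 K612.OrbFlat K624.GrpBC K612.ArcDefs K612.ArcHom

variable {S : Scheme.{u}}

/-- The projection of the base change of a group. -/
noncomputable def prj' {K K' : Type u} [Field K] [Field K']
    (k : Spec (CommRingCat.of K') ⟶ Spec (CommRingCat.of K)) {t : Spec (CommRingCat.of K) ⟶ S}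
    {t' : Spec (CommRingCat.of K') ⟶ S} (ht : k ≫ t = t') (H : Over (Spec (CommRingCat.of K))) :
    (Over.map t').obj ((Over.pullback k).obj H) ⟶ (Over.map t).obj H :=
  Over.homMk (pullback.fst H.hom k) (by
    subst ht
    exact Over.w (prj k t H))

theorem isHom_pullback' {K K' : Type u} [Field K] [Field K']
    (k : Spec (CommRingCat.of K') ⟶ Spec (CommRingCat.of K)) {t : Spec (CommRingCat.of K) ⟶ S}
    {t' : Spec (CommRingCat.of K') ⟶ S} (ht : k ≫ t = t') {G : Over (pt S)} [GrpObj G]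
    {H : Over (Spec (CommRingCat.of K))} [GrpObj H]
    {h : (yon S).obj ((Over.map t).obj H) ⟶ G.left} (hh : IsHom t G H h) :
    letI := grpPb k H
    IsHom t' G ((Over.pullback k).obj H) ((yon S).map (prj' k ht H) ≫ h) := by
  subst ht
  exact isHom_pullback k hh

section sch

variable {R K R₂ K₂ : Type u} [CommRing R] [Field K] [Algebra R K] [CommRing R₂] [Field K₂] [Algebra R₂ K₂]
  {b : Spec (CommRingCat.of R₂) ⟶ Spec (CommRingCat.of R)} {k : Spec (CommRingCat.of K₂) ⟶ Spec (CommRingCat.of K)}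

/-- The generic fibre of a base change. -/
theorem isPullback_gen (hbk : gn R₂ K₂ ≫ b = k ≫ gn R K) {Z U Z₂ : Scheme.{u}} {z : Z ⟶ Spec (CommRingCat.of R)}
    {u : U ⟶ Z} {u' : U ⟶ Spec (CommRingCat.of K)} (sq : IsPullback u u' z (gn R K)) {p : Z₂ ⟶ Z}
    {z₂ : Z₂ ⟶ Spec (CommRingCat.of R₂)} (sqZ : IsPullback p z₂ z b) {u₂ : pullback u' k ⟶ Z₂}
    (h1 : u₂ ≫ p = pullback.fst u' k ≫ u) (h2 : u₂ ≫ z₂ = pullback.snd u' k ≫ gn R₂ K₂) :
    IsPullback u₂ (pullback.snd u' k) z₂ (gn R₂ K₂) := by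
  refine IsPullback.of_right ?_ h2 sqZ
  rw [h1, hbk]
  exact (IsPullback.of_hasPullback u' k).paste_horiz sq

theorem isPullback_snd {Γ : Scheme.{u}} {f : Γ ⟶ S} {g : Spec (CommRingCat.of R) ⟶ S}
    {g₂ : Spec (CommRingCat.of R₂) ⟶ S} (hg : b ≫ g = g₂) :
    IsPullback (pullback.lift (pullback.fst f g₂) (pullback.snd f g₂ ≫ b) (by
      rw [pullback.condition, ← hg, Category.assoc]) : pullback f g₂ ⟶ pullback f g)
      (pullback.snd f g₂) (pullback.snd f g) b := by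
  have h1 := (IsPullback.of_hasPullback f g)
  refine (IsPullback.of_right (h₁₂ := pullback.fst f g) (v₁₃ := f) (h₂₂ := g) ?_ (pullback.lift_snd _ _ _) h1)
  rw [pullback.lift_fst, hg]
  exact IsPullback.of_hasPullback f g₂

theorem isOpen_range {X X' Y Y' : Scheme.{u}} {p : X' ⟶ X} {v' : X' ⟶ Y'} {v : X ⟶ Y} {r : Y' ⟶ Y}
    (sq : IsPullback p v' v r) (h : IsOpen (Set.range v)) : IsOpen (Set.range v') := by
  have h1 : Set.range v' = r ⁻¹' Set.range v := by
    ext y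
    constructor
    · rintro ⟨x, rfl⟩
      exact ⟨p x, by rw [← Scheme.Hom.comp_apply, sq.w, Scheme.Hom.comp_apply]⟩
    · rintro ⟨x, hx⟩
      obtain ⟨z, -, hz⟩ := Scheme.Pullback.exists_preimage_pullback (f := v) (g := r) x y hx
      refine ⟨sq.isoPullback.inv z, ?_⟩
      rw [← Scheme.Hom.comp_apply, sq.isoPullback_inv_snd, hz]
  rw [h1]
  exact h.preimage r.continuous

end sch

variable {R K R₂ K₂ : Type u} [CommRing R] [Field K] [Algebra R K] [CommRing R₂] [Field K₂] [Algebra R₂ K₂]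
  [Algebra R R₂] {k : Spec (CommRingCat.of K₂) ⟶ Spec (CommRingCat.of K)}

variable (R R₂) in
/-- The morphism `Spec R₂ ⟶ Spec R`. -/
noncomputable abbrev sp : Spec (CommRingCat.of R₂) ⟶ Spec (CommRingCat.of R) :=
  Spec.map (CommRingCat.ofHom (algebraMap R R₂))

/-- The morphism of local schemes. -/
noncomputable def spLoc (q : MaximalSpectrum R) (q₂ : MaximalSpectrum R₂)
    (hq : q.asIdeal = q₂.asIdeal.comap (algebraMap R R₂)) : (loc q₂).left ⟶ (loc q).left :=
  Spec.map (CommRingCat.ofHom (Localization.localRingHom q.asIdeal q₂.asIdeal (algebraMap R R₂) hq))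

theorem spLoc_hom (q : MaximalSpectrum R) (q₂ : MaximalSpectrum R₂)
    (hq : q.asIdeal = q₂.asIdeal.comap (algebraMap R R₂)) :
    spLoc q q₂ hq ≫ (loc q).hom = (loc q₂).hom ≫ sp R R₂ := by
  change Spec.map _ ≫ Spec.map _ = Spec.map _ ≫ Spec.map _
  rw [← Spec.map_comp, ← Spec.map_comp, ← CommRingCat.ofHom_comp, ← CommRingCat.ofHom_comp]
  congr 2
  ext a
  exact Localization.localRingHom_to_map _ _ _ hq a

variable {g : Spec (CommRingCat.of R) ⟶ S} {g₂ : Spec (CommRingCat.of R₂) ⟶ S} (hg : sp R R₂ ≫ g = g₂)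
  (hbk : gn R₂ K₂ ≫ sp R R₂ = k ≫ gn R K)

include hg hbk in
theorem hkt : k ≫ gn R K ≫ g = gn R₂ K₂ ≫ g₂ := by
  rw [← hg, ← Category.assoc, ← Category.assoc, hbk]

section bc

variable {G : Over (pt S)} [GrpObj G] {H : Over (Spec (CommRingCat.of K))}
  {h : (yon S).obj ((Over.map (gn R K ≫ g)).obj H) ⟶ G.left} {q : MaximalSpectrum R} (E : Pre g G H h q)

/-- `Z₂`. -/
noncomputable abbrev Z₂ : Scheme.{u} := pullback (E.i ≫ pullback.snd E.Γ.hom g) (sp R R₂)

/-- `Γ ×_S Spec R₂ ⟶ Γ ×_S Spec R`. -/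
noncomputable abbrev gam : pullback E.Γ.hom g₂ ⟶ pullback E.Γ.hom g :=
  pullback.lift (pullback.fst E.Γ.hom g₂) (pullback.snd E.Γ.hom g₂ ≫ sp R R₂) (by
      rw [pullback.condition, ← hg, Category.assoc])

/-- `Z₂ ⟶ Γ ×_S Spec R₂`. -/
noncomputable def i₂ : Z₂ (R₂ := R₂) E ⟶ pullback E.Γ.hom g₂ :=
  (isPullback_snd (f := E.Γ.hom) hg).lift (pullback.fst _ _ ≫ E.i) (pullback.snd _ _) (by
    rw [Category.assoc, pullback.condition])

theorem i₂_gam : i₂ hg E ≫ gam hg E = pullback.fst _ _ ≫ E.i := IsPullback.lift_fst _ _ _ _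

theorem i₂_snd : i₂ hg E ≫ pullback.snd E.Γ.hom g₂ = pullback.snd _ _ := IsPullback.lift_snd _ _ _ _

theorem i₂_fst : i₂ hg E ≫ pullback.fst E.Γ.hom g₂ = pullback.fst _ _ ≫ E.i ≫ pullback.fst E.Γ.hom g := by
  rw [← Category.assoc (pullback.fst _ _), ← i₂_gam hg E, Category.assoc, pullback.lift_fst]

theorem isPullback_i₂ : IsPullback (pullback.fst _ _) (i₂ hg E) E.i (gam hg E) := by
  refine IsPullback.of_bot ?_ (i₂_gam hg E).symm (isPullback_snd (f := E.Γ.hom) hg)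
  rw [i₂_snd]
  exact IsPullback.of_hasPullback _ _

/-- `U₂ ⟶ Z₂`. -/
noncomputable def u₂ : pullback E.u' k ⟶ Z₂ (R₂ := R₂) E :=
  pullback.lift (pullback.fst E.u' k ≫ E.u) (pullback.snd E.u' k ≫ gn R₂ K₂) (by
    rw [Category.assoc, E.sq.w, pullback.condition_assoc, Category.assoc, hbk])

theorem isPullback_u₂ : IsPullback (u₂ hbk E) (pullback.snd E.u' k) (i₂ hg E ≫ pullback.snd E.Γ.hom g₂) (gn R₂ K₂) := by
  rw [i₂_snd]
  exact isPullback_gen hbk E.sq (IsPullback.of_hasPullback _ _) (pullback.lift_fst _ _ _) (pullback.lift_snd _ _ _)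

/-- `V₂ ⟶ Γ ×_S Spec R₂`. -/
noncomputable def a₂ : pullback E.b k ⟶ pullback E.Γ.hom g₂ :=
  (isPullback_snd (f := E.Γ.hom) hg).lift (pullback.fst E.b k ≫ E.a) (pullback.snd E.b k ≫ gn R₂ K₂) (by
    rw [Category.assoc, E.sqV.w, pullback.condition_assoc, Category.assoc, hbk])

theorem a₂_gam : a₂ hg hbk E ≫ gam hg E = pullback.fst E.b k ≫ E.a := IsPullback.lift_fst _ _ _ _

theorem a₂_snd : a₂ hg hbk E ≫ pullback.snd E.Γ.hom g₂ = pullback.snd E.b k ≫ gn R₂ K₂ := IsPullback.lift_snd _ _ _ _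

theorem isPullback_a₂ : IsPullback (a₂ hg hbk E) (pullback.snd E.b k) (pullback.snd E.Γ.hom g₂) (gn R₂ K₂) :=
  isPullback_gen hbk E.sqV (isPullback_snd (f := E.Γ.hom) hg) (a₂_gam hg hbk E) (a₂_snd hg hbk E)

/-- `V₂ ⟶ A₂`. -/
noncomputable def jA₂ (k : Spec (CommRingCat.of K₂) ⟶ Spec (CommRingCat.of K)) :
    pullback E.b k ⟶ pullback E.A.hom k :=
  pullback.lift (pullback.fst E.b k ≫ E.jA) (pullback.snd E.b k) (by
    rw [Category.assoc, E.jA_hom, pullback.condition])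

theorem isPullback_jA₂ : IsPullback (pullback.fst E.b k) (jA₂ E k) E.jA (pullback.fst E.A.hom k) := by
  refine IsPullback.of_bot ?_ (pullback.lift_fst _ _ _).symm (IsPullback.of_hasPullback E.A.hom k)
  rw [E.jA_hom, jA₂, pullback.lift_snd]
  exact IsPullback.of_hasPullback _ _

/-- `U₂ ⟶ V₂`. -/
noncomputable def v₂ (k : Spec (CommRingCat.of K₂) ⟶ Spec (CommRingCat.of K)) :
    pullback E.u' k ⟶ pullback E.b k :=
  pullback.lift (pullback.fst E.u' k ≫ E.v) (pullback.snd E.u' k) (by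
    rw [Category.assoc, E.vb, pullback.condition])

theorem isPullback_v₂ : IsPullback (pullback.fst E.u' k) (v₂ E k) E.v (pullback.fst E.b k) := by
  refine IsPullback.of_bot ?_ (pullback.lift_fst _ _ _).symm (IsPullback.of_hasPullback E.b k)
  rw [E.vb, v₂, pullback.lift_snd]
  exact IsPullback.of_hasPullback _ _

end bc

end K612.ArcPb
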