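import Groth.Agent.AlgSp.K612.ArcHom
import Groth.Agent.AlgSp.K624.AnBC3

/-!
# Points of the base change of a group algebraic space

`sh` is the inverse of `K624.AnBC.fl`; `fl_mul`: `fl` is compatible with products. `mkH`: the data `HData` over
`R` for the base change of `G` along `g : Spec R ⟶ S`, from a homomorphism over `Spec K ⟶ S`.
-/

set_option autoImplicit false
universe u

open CategoryTheory CategoryTheory.Limits AlgebraicGeometry Opposite MonoidalCategory CartesianMonoidalCategory MonObj
open AlgSp K595.ChBase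

namespace K612.ArcUp

open K622.AnDefs K622.AnDefs2 K612.OrbFlat K624.GrpBC K624.AnBC K612.ArcDefs K612.ArcHom

section

variable {S S' : Scheme.{u}} {g : S ⟶ S'}

/-- The map `h_T ⟶ j⁻¹ X` over `S` attached to a map `h_{g_! T} ⟶ X` over `S'`. -/
def sh {X : Sp S'} {T : Over S} (x : (yon S').obj ((Over.map g).obj T) ⟶ X) : (yon S).obj T ⟶ (R g).obj X :=
  homOf (F := (R g).obj X) (x.hom.app (op ((Over.map g).obj T)) (⟨𝟙 _⟩ : ULift ((Over.map g).obj T ⟶ (Over.map g).obj T)))

theorem fl_sh {X : Sp S'} {T : Over S} (x : (yon S').obj ((Over.map g).obj T) ⟶ X) : fl (sh x) = x := by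
  unfold fl sh
  rw [homOf_app]
  exact (eq_homOf x).symm

/-- Compatibility with products. -/
theorem fl_mul {G : Over (pt S')} [GrpObj G] {T : Over S} (x y : (yon S).obj T ⟶ ((F g).obj G).left) :
    fl (X := G.left) (OrbFlat.mul x y) = OrbFlat.mul (fl (X := G.left) x) (fl (X := G.left) y) := by
  let u₀ : (yon S).obj T ⟶ (R g).obj ((yon S').obj ((Over.map g).obj T)) :=
    sh (𝟙 ((yon S').obj ((Over.map g).obj T)))
  let N : Over (pt S') := ov ((yon S').obj ((Over.map g).obj T))
  let u' : ov ((yon S).obj T) ⟶ (F g).obj N := up (N := (F g).obj N) u₀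
  have hx : ∀ x : (yon S).obj T ⟶ ((F g).obj G).left, u₀ ≫ (R g).map (fl (X := G.left) x) = x := by
    intro x
    apply fl_injective
    rw [fl_comp, fl_sh, Category.id_comp]
  have hup : ∀ x : (yon S).obj T ⟶ ((F g).obj G).left, up x = u' ≫ (F g).map (up (fl (X := G.left) x)) := by
    intro x
    apply Over.OverMorphism.ext
    exact (hx x).symm
  have h1 : up x * up y = u' ≫ (F g).map (up (fl (X := G.left) x) * up (fl (X := G.left) y)) := by
    rw [hup x, hup y, ← MonObj.comp_mul]
    congr 1
    exact (Functor.map_mul (F g) _ _).symm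
  have h2 : OrbFlat.mul x y = u₀ ≫ (R g).map (OrbFlat.mul (fl (X := G.left) x) (fl (X := G.left) y)) :=
    congrArg (·.left) h1
  rw [h2, fl_comp, fl_sh, Category.id_comp]

/-- `fl` for the points of a group. -/
def flG {G : Over (pt S')} {T : Over S} (x : (yon S).obj T ⟶ ((F g).obj G).left) :
    (yon S').obj ((Over.map g).obj T) ⟶ G.left := fl (X := G.left) x

/-- `sh` for the points of a group. -/
def shG {G : Over (pt S')} {T : Over S} (x : (yon S').obj ((Over.map g).obj T) ⟶ G.left) :
    (yon S).obj T ⟶ ((F g).obj G).left := sh (X := G.left) x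

theorem flG_shG {G : Over (pt S')} {T : Over S} (x : (yon S').obj ((Over.map g).obj T) ⟶ G.left) :
    flG (shG x) = x := fl_sh x

theorem flG_injective {G : Over (pt S')} {T : Over S} {x y : (yon S).obj T ⟶ ((F g).obj G).left}
    (h : flG x = flG y) : x = y := fl_injective (X := G.left) h

theorem flG_pre {G : Over (pt S')} {T T' : Over S} (e : T' ⟶ T) (x : (yon S).obj T ⟶ ((F g).obj G).left) :
    flG ((yon S).map e ≫ x) = (yon S').map ((Over.map g).map e) ≫ flG x := fl_pre (X := G.left) e x

theorem flG_mul {G : Over (pt S')} [GrpObj G] {T : Over S} (x y : (yon S).obj T ⟶ ((F g).obj G).left) :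
    flG (OrbFlat.mul x y) = OrbFlat.mul (flG x) (flG y) := fl_mul x y

end

variable {S : Scheme.{u}}

/-- Restriction of scalars in two steps. -/
noncomputable abbrev two {R K : Type u} [CommRing R] [Field K] [Algebra R K] (g : Spec (CommRingCat.of R) ⟶ S)
    (T : Over (Spec (CommRingCat.of K))) :
    (Over.map g).obj ((Over.map (gn R K)).obj T) ⟶ (Over.map (gn R K ≫ g)).obj T :=
  Over.homMk (𝟙 T.left) (by
    change 𝟙 T.left ≫ T.hom ≫ gn R K ≫ g = (T.hom ≫ gn R K) ≫ g
    rw [Category.id_comp, Category.assoc])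

theorem two_naturality {R K : Type u} [CommRing R] [Field K] [Algebra R K] (g : Spec (CommRingCat.of R) ⟶ S)
    {T T' : Over (Spec (CommRingCat.of K))} (φ : T ⟶ T') :
    (Over.map g).map ((Over.map (gn R K)).map φ) ≫ two g T' = two g T ≫ (Over.map (gn R K ≫ g)).map φ := by
  apply Over.OverMorphism.ext
  change φ.left ≫ 𝟙 _ = 𝟙 _ ≫ φ.left
  rw [Category.comp_id, Category.id_comp]

/-- `HData` for the base change of `G`. -/
noncomputable def mkH {R K : Type u} [CommRing R] [Field K] [Algebra R K] (g : Spec (CommRingCat.of R) ⟶ S)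
    (G : Over (pt S)) [GrpObj G] (H : Over (Spec (CommRingCat.of K))) [GrpObj H] (h1 : Smooth H.hom)
    (h2 : GeometricallyIntegral H.hom) (h3 : QuasiCompact H.hom)
    (h : (yon S).obj ((Over.map (gn R K ≫ g)).obj H) ⟶ G.left) (hh : IsHom (gn R K ≫ g) G H h) :
    HData R K ((F g).obj G) where
  H := H
  smooth := h1
  geom := h2
  qc := h3
  h := shG ((yon S).map (two g H) ≫ h)
  hmul {T} a b := by
    have key : ∀ c : T ⟶ H, flG ((yon _).map ((Over.map (gn R K)).map c) ≫ shG ((yon S).map (two g H) ≫ h)) =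
        (yon S).map (two g T) ≫ (yon S).map ((Over.map (gn R K ≫ g)).map c) ≫ h := by
      intro c
      rw [flG_pre, flG_shG, ← Category.assoc, ← Functor.map_comp, two_naturality, Functor.map_comp, Category.assoc]
    apply flG_injective
    rw [key, flG_mul, key, key, hh, OrbFlat.comp_mul]

end K612.ArcUp
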