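import Groth.Agent.Brnch.K580.NbhdCount
import Groth.Agent.AlgSp.K611.SHStalk
import Groth.Agent.AlgSp.K616.Inv
/-!
The number of geometric branches of an algebraic space at a point.
-/

set_option autoImplicit false
universe v u
open CategoryTheory CategoryTheory.Limits AlgebraicGeometry Opposite Topology TopologicalSpace
open AlgSp

set_option backward.isDefEq.respectTransparency false

namespace K612.BrnchPt

theorem comap_mem {R : Type*} {A : Type*} [CommRing R] [CommRing A] (e : R ≃+* A) {P : Ideal R}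
    (hP : P ∈ minimalPrimes R) : P.comap (e.symm : A →+* R) ∈ minimalPrimes A := by
  have hp := hP.1.1
  refine ⟨⟨Ideal.comap_isPrime _ _, bot_le⟩, fun Q hQ hle => ?_⟩
  have hq := hQ.1
  have h1 : Q.comap (e : R →+* A) ≤ P := fun x hx => by
    have h3 : e.symm (e x) ∈ P := hle (show e x ∈ Q from hx)
    rwa [e.symm_apply_apply] at h3
  have h2 := hP.2 ⟨Ideal.comap_isPrime _ _, bot_le⟩ h1
  intro y hy
  have h3 : e (e.symm y) ∈ Q := h2 (show e.symm y ∈ P from hy)
  rwa [e.apply_symm_apply] at h3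

theorem card_minimalPrimes {R : Type*} {A : Type*} [CommRing R] [CommRing A] (e : R ≃+* A) :
    (minimalPrimes R).encard = ENat.card (minimalPrimes A) := by
  refine ENat.card_congr
    { toFun := fun P => ⟨P.1.comap (e.symm : A →+* R), comap_mem e P.2⟩
      invFun := fun Q => ⟨Q.1.comap (e : R →+* A), comap_mem e.symm Q.2⟩
      left_inv := fun P => Subtype.ext (Ideal.ext fun x => ?_)
      right_inv := fun Q => Subtype.ext (Ideal.ext fun x => ?_) }
  · change e.symm (e x) ∈ P.1 ↔ x ∈ P.1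
    rw [e.symm_apply_apply]
  · change e (e.symm x) ∈ Q.1 ↔ x ∈ Q.1
    rw [e.apply_symm_apply]

variable {S : Scheme.{u}} {X : Sp S} (hX : IsAlgSpace X) (x : Points X)

/-- the number of geometric branches does not depend on the chart. -/
theorem numGeomBranchesAt_eq {U V : Over S} (a : (yon S).obj U ⟶ X) (b : (yon S).obj V ⟶ X)
    (ha : RepWith @Etale a) (hb : RepWith @Etale b) (u : ↥U.left) (v : ↥V.left)
    (h : Points.ofPt a u = Points.ofPt b v) :
    Brnch.numGeomBranchesAt U.left u = Brnch.numGeomBranchesAt V.left v := by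
  obtain ⟨W, p, q, w, -, e1, e2, rfl, rfl⟩ :=
    K616.Inv.exists_chart_refinement a b ha hb u v h
  rw [← K580.NbhdCount.numGeomBranchesAt_eq p.left w, ← K580.NbhdCount.numGeomBranchesAt_eq q.left w]

theorem card_OEtStalk {U : Over S} (a : (yon S).obj U ⟶ X) (ha : RepWith @Etale a) (u : ↥U.left)
    (p : FieldPt X) (hp : p.IsGeometric) (h : Points.ofPt a u = Points.mk p) :
    (minimalPrimes ↥(OEtStalk p)).encard = Brnch.numGeomBranchesAt U.left u := by
  obtain ⟨A, _, _, _, _, _, ⟨e⟩⟩ :=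
    K611.exists_strictHens p (K611.isSepClosed_of_isGeometric hp) a ha u h
  rw [card_minimalPrimes e]
  exact K580.CountHens.strictHenselization _ _

include hX

theorem main (n : ℕ) (hn : 1 ≤ n) :
    (((∀ (U : Over S) (a : (AlgSp.yon S).obj U ⟶ X) (u : ↥U.left),
        AlgSp.RepWith @Etale a → AlgSp.Points.ofPt a u = x → (minimalPrimes ↥(U.left.presheaf.stalk u)).encard ≤ n) ∧
        AlgSp.HasAt (fun U u => (minimalPrimes ↥(U.presheaf.stalk u)).encard = n) X x) ↔
      (∀ (U : Over S) (a : (AlgSp.yon S).obj U ⟶ X) (u : ↥U.left),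
        AlgSp.RepWith @Etale a → AlgSp.Points.ofPt a u = x → Brnch.numGeomBranchesAt U.left u = n)) ∧
    ((∀ (U : Over S) (a : (AlgSp.yon S).obj U ⟶ X) (u : ↥U.left),
        AlgSp.RepWith @Etale a → AlgSp.Points.ofPt a u = x → Brnch.numGeomBranchesAt U.left u = n) ↔
      ∀ p : AlgSp.FieldPt X, p.IsGeometric → AlgSp.Points.mk p = x →
        (minimalPrimes ↥(AlgSp.OEtStalk p)).encard = n) := by
  have hle : ∀ (U : Scheme.{u}) (u : U), (minimalPrimes ↥(U.presheaf.stalk u)).encard ≤
      Brnch.numGeomBranchesAt U u := fun U u =>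
    K580.NbhdCount.card_minimalPrimes_le_numGeomBranches _
  have hsup : ∀ (U : Scheme.{u}) (u : U), Brnch.numGeomBranchesAt U u =
      ⨆ (V : Scheme.{u}) (g : V ⟶ U) (v : V) (_ : Etale g ∧ g v = u),
        (minimalPrimes ↥(V.presheaf.stalk v)).encard := by
    intro U u
    rw [K580.NbhdCount.numGeomBranchesAt_eq_iSup]
    simp_rw [K580.GenPts.encard_components]
    rfl
  have hchart : ∀ {U : Over S} (a : (yon S).obj U ⟶ X) (_ : RepWith @Etale a) {V : Scheme.{u}}
      (g : V ⟶ U.left) (v : V) (_ : Etale g), ∃ (V' : Over S) (b : (yon S).obj V' ⟶ X)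
        (v' : ↥V'.left), RepWith @Etale b ∧ Points.ofPt b v' = Points.ofPt a (g v) ∧
          (minimalPrimes ↥(V'.left.presheaf.stalk v')).encard =
            (minimalPrimes ↥(V.presheaf.stalk v)).encard := by
    intro U a ha V g v hg
    refine ⟨Over.mk (g ≫ U.hom), (yon S).map (Over.homMk g rfl) ≫ a, v,
      (repWith_isMultiplicative (S := S) @Etale).comp_mem _ _
        ((repWith_yon_map_iff _ _).2 (show Etale g from hg)) ha, ?_, rfl⟩
    rw [K611.ofPt_yon_comp]
    rfl
  refine ⟨⟨?_, ?_⟩, ?_, ?_⟩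
  · rintro ⟨h1, V, b, v, hb, rfl, hv⟩ U a u ha hu
    refine le_antisymm ?_ ?_
    · rw [hsup]
      refine iSup_le fun U' => iSup_le fun g => iSup_le fun u' => iSup_le ?_
      rintro ⟨hg, rfl⟩
      obtain ⟨V', b', v', hb', hv', e⟩ := hchart a ha g u' hg
      rw [← e]
      exact h1 V' b' v' hb' (hv'.trans hu)
    · rw [numGeomBranchesAt_eq a b ha hb u v hu, ← hv]
      exact hle _ _
  · intro h
    refine ⟨fun U a u ha hu => (hle _ _).trans (h U a u ha hu).le, ?_⟩
    obtain ⟨U, a, u, ha, hu⟩ := K616.Inv.exists_chart hX x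
    by_contra hcon
    have hg := h U a u ha hu
    obtain ⟨m, rfl⟩ : ∃ m, n = m + 1 := ⟨n - 1, by omega⟩
    have : Brnch.numGeomBranchesAt U.left u ≤ (m : ℕ∞) := by
      rw [hsup]
      refine iSup_le fun U' => iSup_le fun g => iSup_le fun u' => iSup_le ?_
      rintro ⟨hg', rfl⟩
      obtain ⟨V', b', v', hb', hv', e⟩ := hchart a ha g u' hg'
      have h2 : (minimalPrimes ↥(V'.left.presheaf.stalk v')).encard ≤ ((m + 1 : ℕ) : ℕ∞) :=
        (hle _ _).trans (h V' b' v' hb' (hv'.trans hu)).le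
      have h3 : (minimalPrimes ↥(V'.left.presheaf.stalk v')).encard ≠ ((m + 1 : ℕ) : ℕ∞) :=
        fun h4 => hcon ⟨V', b', v', hb', hv'.trans hu, h4⟩
      rw [← e]
      have h5 := lt_of_le_of_ne h2 h3
      rw [Nat.cast_add, Nat.cast_one] at h5
      exact Order.le_of_lt_add_one h5
    rw [hg] at this
    have := Nat.cast_le.1 this
    omega
  · intro h p hp hpx
    obtain ⟨U, a, u, ha, hu⟩ := K616.Inv.exists_chart hX x
    rw [card_OEtStalk a ha u p hp (hu.trans hpx.symm)]
    exact h U a u ha hu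
  · intro h U a u ha hu
    rw [← card_OEtStalk a ha u (K611.chartPt a ha u) (K611.isGeometric_geomPt _ _)
      (K611.mk_chartPt a ha u).symm]
    exact h _ (K611.isGeometric_geomPt _ _) ((K611.mk_chartPt a ha u).trans hu)

end K612.BrnchPt
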