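import Groth.Agent.AlgSp.K612.ClImm
import Groth.Agent.AlgSp.K612.PullEx
/-!
The right adjoint of the direct image along a closed immersion on quasi-coherent modules.
-/

set_option autoImplicit false
set_option linter.unusedSectionVars false
universe v' u' u

set_option backward.isDefEq.respectTransparency false

open CategoryTheory CategoryTheory.Limits AlgebraicGeometry Opposite TensorProduct

namespace K612.ClAdj

open AlgSp Groth.Agent.Etbase.FFExact K644.Site K644.Psh K644.Alg K644.Colim K644.Exact K644.Free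
  K644.Slice K644.Pres K644.Local K644.Chart K612.PullSec K612.PullTerm K612.PullOver K612.PullLoc
  K612.PushSec K612.ModPush K612.Small K612.ClImm

theorem isLeftAdjoint_of_exists {C : Type*} [Category* C] {D : Type*} [Category* D] (F : C ⥤ D)
    (h : ∀ A : D, ∃ (N : C) (g : F.obj N ⟶ A), ∀ (M : C) (γ : F.obj M ⟶ A),
      ∃! β : M ⟶ N, F.map β ≫ g = γ) : F.IsLeftAdjoint := by
  have : ∀ A, HasTerminal (CostructuredArrow F A) := fun A => by
    obtain ⟨N, g, hN⟩ := h A
    choose β hβ hu using fun X : CostructuredArrow F A => hN X.left X.hom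
    refine IsTerminal.hasTerminal (X := CostructuredArrow.mk g) ?_
    refine IsTerminal.ofUniqueHom (fun X => CostructuredArrow.homMk (β X) (hβ X)) fun X m => ?_
    exact CostructuredArrow.hom_ext _ _ (hu X m.left (CostructuredArrow.w m))
  exact isLeftAdjoint_of_costructuredArrowTerminals F

variable {S : Scheme.{u}} {X : Sp S}

section largest

/-- A family of ideals, killing modules. -/
def Kill (I : ∀ E : EtOver X, Set Γ(E.obj.left.left, ⊤)) (M : ModEt X) : Prop :=
  ∀ (E : EtOver X), IsAffine E.obj.left.left → ∀ a ∈ I E, ∀ s : sec M E, a • s = 0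

variable (I : ∀ E : EtOver X, Set Γ(E.obj.left.left, ⊤))

theorem kill_of_epi {M N : ModEt X} (hM : IsQC (EtOver.toScheme X) M.val)
    (hN : IsQC (EtOver.toScheme X) N.val) (φ : M ⟶ N) [Epi φ] (h : Kill I M) : Kill I N := by
  intro E hE a ha s
  obtain ⟨t, rfl⟩ := surjective_of_epi (T := EtOver.toScheme X) hM hN φ E hE s
  rw [← map_smul]
  exact (congrArg (smap (EtOver.toScheme X) φ E) (h E hE a ha t)).trans
    (map_zero (smap (EtOver.toScheme X) φ E))

theorem kill_of_isColimit {K : Type (u + 1)} [Category.{u + 1} K] {G : K ⥤ ModEt X} {c : Cocone G}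
    (hc : IsColimit c) (hq : ∀ k, IsQC (EtOver.toScheme X) (G.obj k).val)
    (h : ∀ k, Kill I (G.obj k)) : Kill I c.pt := by
  intro E hE a ha s
  obtain ⟨e⟩ := isColimit_eval (T := EtOver.toScheme X) hc hq E hE
  let l : sec c.pt E →ₗ[Γ((EtOver.toScheme X).obj E, ⊤)] sec c.pt E :=
    LinearMap.lsmul Γ((EtOver.toScheme X).obj E, ⊤) (sec c.pt E) a
  let l0 : sec c.pt E →ₗ[Γ((EtOver.toScheme X).obj E, ⊤)] sec c.pt E := 0
  have h1 : l = l0 := hom_ext (T := EtOver.toScheme X) (c := (SheafOfModules.forget _).mapCocone c) e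
    l l0 fun k x => by
      change a • smap (EtOver.toScheme X) (c.ι.app k) E x = 0
      rw [← map_smul]
      exact (congrArg (smap (EtOver.toScheme X) (c.ι.app k) E) (h k E hE a ha x)).trans
        (map_zero (smap (EtOver.toScheme X) (c.ι.app k) E))
  exact LinearMap.congr_fun h1 s

/-- The largest quasi-coherent submodule killed by a family of sets of functions. -/
theorem exists_largest (F : ModEt X) [hF : F.IsQuasicoherent] :
    ∃ (G' : ModEt X) (κ : G' ⟶ F), Mono κ ∧ G'.IsQuasicoherent ∧ Kill I G' ∧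
      ∀ H : ModEt X, H.IsQuasicoherent → Kill I H → ∀ ψ : H ⟶ F, ∃ φ : H ⟶ G', φ ≫ κ = ψ := by
  have qcoh_iff : ∀ M : ModEt X, M.IsQuasicoherent ↔ IsQC (EtOver.toScheme X) M.val :=
    K644.QCoh.isQuasicoherent_iff (EtOver.toScheme X)
  let P : (Σ E : EtOver X, sec F E) → Prop := fun p => ∃ (H : ModEt X) (_ : H.IsQuasicoherent)
    (_ : Kill I H) (φ : H ⟶ F) (h : sec H p.1), smap (EtOver.toScheme X) φ p.1 h = p.2
  let II : Type (u + 1) := {p // P p}
  choose H hH hk φ h hφ using fun i : II => i.2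
  have hc : IsColimit (Cofan.mk (∐ H) (Sigma.ι H)) := coproductIsCoproduct H
  obtain ⟨Φ, hΦ⟩ : ∃ Φ : ∐ H ⟶ F, ∀ i, Sigma.ι H i ≫ Φ = φ i := ⟨Sigma.desc φ, Sigma.ι_desc φ⟩
  have hK : IsQC (EtOver.toScheme X) (∐ H).val :=
    K644.Colim.isQC_of_isColimit hc fun i => (qcoh_iff _).1 (hH i.as)
  have hFq : IsQC (EtOver.toScheme X) F.val := (qcoh_iff F).1 hF
  have hCq : IsQC (EtOver.toScheme X) (cokernel Φ).val :=
    isQC_cokernel hK hFq Φ (cokernel.π _) (cokernel.condition _) (cokernelIsCokernel _)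
  have hGq : IsQC (EtOver.toScheme X) (Abelian.image Φ).val :=
    isQC_kernel hFq hCq (kernel.ι _) (cokernel.π Φ) (kernel.condition _) (kernelIsKernel _)
  have hkK : Kill I (∐ H) := kill_of_isColimit I hc (fun i => (qcoh_iff _).1 (hH i.as))
    fun i => hk i.as
  refine ⟨Abelian.image Φ, Abelian.image.ι Φ, inferInstance, (qcoh_iff _).2 hGq,
    kill_of_epi I hK hGq (Abelian.factorThruImage Φ) hkK, fun Q hQ hkQ ψ => ?_⟩
  have key : ψ ≫ cokernel.π Φ = 0 := by
    refine hom_ext_affine (T := EtOver.toScheme X) _ _ fun E hE x => ?_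
    let i : II := ⟨⟨E, smap (EtOver.toScheme X) ψ E x⟩, Q, hQ, hkQ, ψ, x, rfl⟩
    have h1 : smap (EtOver.toScheme X) (φ i) E (h i) = smap (EtOver.toScheme X) ψ E x := hφ i
    have h2 : φ i ≫ cokernel.π Φ = 0 := by
      rw [← hΦ, Category.assoc, cokernel.condition, comp_zero]
    have h3 := congrArg (fun m => smap (EtOver.toScheme X) m E (h i)) h2
    exact (congrArg (smap (EtOver.toScheme X) (cokernel.π Φ) E) h1).symm.trans h3
  exact ⟨kernel.lift _ ψ key, kernel.lift_ι _ _ _⟩

end largest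

variable {Z : Sp S} {i : Z ⟶ X}

theorem isLeftAdjoint (hX : PullQc.HasAtlas X) (hi : RepWith @IsClosedImmersion i)
    (hq : ∀ G : ModEt Z, G.IsQuasicoherent → ((pushModEt hi.1).obj G).IsQuasicoherent) :
    ((SheafOfModules.isQuasicoherent (OEtRing X)).lift
        ((SheafOfModules.isQuasicoherent (OEtRing Z)).ι ⋙ pushModEt hi.1)
        (fun G => hq G.obj G.property)).IsLeftAdjoint := by
  let I : ∀ E : EtOver X, Set Γ(E.obj.left.left, ⊤) := fun E => {a | πR hi.1 E a = 0}
  refine isLeftAdjoint_of_exists _ fun A => ?_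
  have hA : A.obj.IsQuasicoherent := A.property
  obtain ⟨G', κ, hκ, hG', hkG', hfac⟩ := exists_largest I A.obj
  let adj := pullPushAdjModEt hi.1
  have h1 : IsIso (adj.unit.app G') := isIso_unit hi.1 hi G' fun E hE a s ha => hkG' E hE a ha s
  have hN := PullQc.isQuasicoherent_pullModEt hi.1 hX G'
  let N : (SheafOfModules.isQuasicoherent (OEtRing Z)).FullSubcategory :=
    ⟨(pullModEt hi.1).obj G', hN⟩
  let g : (pushModEt hi.1).obj N.obj ⟶ A.obj := inv (adj.unit.app G') ≫ κ
  refine ⟨N, ObjectProperty.homMk g, fun M γ => ?_⟩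
  have hM : M.obj.IsQuasicoherent := M.property
  have h2 : IsIso (adj.counit.app M.obj) := isIso_counit hi.1 hX hi M.obj
  have hkM : Kill I ((pushModEt hi.1).obj M.obj) := fun E hE a ha s => by
    have h1 := ModPush.push_smul (hf := hi.1) M.obj E a s
    have ha' : πR hi.1 E a = 0 := ha
    rw [ha'] at h1
    exact h1.trans (zero_smul Γ(((EtOver.bc hi.1).obj E).obj.left.left, ⊤)
      (show M.obj.val.presheaf.obj (Opposite.op ((EtOver.bc hi.1).obj E)) from s))
  obtain ⟨γ', hγ'⟩ := hfac _ (hq _ hM) hkM γ.hom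
  let δ : (pushModEt hi.1).obj M.obj ⟶ (pushModEt hi.1).obj N.obj := γ' ≫ adj.unit.app G'
  have hmap : ∀ (β : M.obj ⟶ N.obj), (pushModEt hi.1).map β = δ ↔
      β = inv (adj.counit.app M.obj) ≫ (adj.homEquiv _ _).symm δ := by
    intro β
    rw [IsIso.eq_inv_comp, ← (adj.homEquiv _ _).injective.eq_iff, Equiv.apply_symm_apply,
      Adjunction.homEquiv_naturality_right]
    have : (adj.homEquiv ((pushModEt hi.1).obj M.obj) M.obj) (adj.counit.app M.obj) = 𝟙 _ := by
      rw [Adjunction.homEquiv_unit]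
      exact adj.right_triangle_components M.obj
    rw [this, Category.id_comp]
  have hg : ∀ (β : M.obj ⟶ N.obj), (pushModEt hi.1).map β ≫ g = γ.hom ↔
      (pushModEt hi.1).map β = δ := by
    intro β
    constructor
    · intro h
      rw [← hγ'] at h
      have h3 : ((pushModEt hi.1).map β ≫ inv (adj.unit.app G')) ≫ κ = γ' ≫ κ := by
        rw [Category.assoc]; exact h
      have h4 := (cancel_mono κ).1 h3
      rw [IsIso.comp_inv_eq] at h4
      exact h4
    · intro h
      rw [h, ← hγ']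
      simp only [δ, g, Category.assoc, IsIso.hom_inv_id_assoc]
  refine ⟨ObjectProperty.homMk (inv (adj.counit.app M.obj) ≫ (adj.homEquiv _ _).symm δ), ?_, ?_⟩
  · ext1
    exact (hg _).2 ((hmap _).2 rfl)
  · intro β hβ
    ext1
    exact (hmap _).1 ((hg _).1 (congrArg (fun z => z.hom) hβ))

end K612.ClAdj
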