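import Groth.Agent.AlgSp.K622.AnDefs
import Groth.Agent.AlgSp.K650.QAff
import Groth.Agent.S10033

/-!
# The conclusion of Theorem B, and open subspaces

`concl_iff`: over a quasi-separated base, a locally Noetherian quasi-separated algebraic space `X` satisfies
`Concl X` if and only if it is a scheme in which every finite set of points lies in an affine open.
`concl_of_open`: the conclusion passes to open subspaces.
-/

set_option autoImplicit false
set_option backward.isDefEq.respectTransparency false
universe u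

open CategoryTheory CategoryTheory.Limits AlgebraicGeometry AlgSp

namespace K612.ConclOpn

open K622.AnDefs

variable {S : Scheme.{u}}

theorem ofPt_iso_injective {X : Sp S} {T : Over S} (e : (yon S).obj T ≅ X) :
    Function.Injective (Points.ofPt e.hom) := by
  have h2 : Points.ofPt e.hom = Points.map e.hom ∘ (Points.schemeHomeo T) := by
    ext t
    exact Points.ofPt_eq_map_ofScheme e.hom t
  rw [h2]
  refine Function.Injective.comp ?_ (Points.schemeHomeo T).injective
  intro a b hab
  have h3 := congrArg (Points.map e.inv) hab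
  rw [← Points.map_comp, ← Points.map_comp, e.hom_inv_id, Points.map_id, Points.map_id] at h3
  exact h3

/-- FinAff passes to open subschemes. -/
theorem finAff_of_isOpenImmersion {T₀ T : Scheme.{u}} (j : T₀ ⟶ T) [IsOpenImmersion j] (h : FinAff T) :
    FinAff T₀ := by
  intro E hE
  obtain ⟨V, hV, hEV⟩ := h (j '' E) (hE.image _)
  obtain ⟨V', h1, -, h3, h4⟩ := K650.ThmK.exists_affine_sub hV (Set.range j) j.isOpenEmbedding.isOpen_range
    (j '' E) (hE.image _) (fun x hx => hEV hx) (by rintro _ ⟨x, -, rfl⟩; exact ⟨x, rfl⟩)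
  exact ⟨j ⁻¹ᵁ V', h1.preimage_of_isOpenImmersion _ h3, fun x hx => h4 _ ⟨x, hx, rfl⟩⟩

/-- A scheme in which every finite set of points lies in an affine open satisfies the conclusion. -/
theorem concl_of_finAff {X : Sp S} {T : Over S} (e : (yon S).obj T ≅ X) (h : FinAff T.left) : Concl X := by
  refine ⟨T, e.hom, K598.RepKit.repWith_of_isIso _, K598.RepKit.repWith_of_isIso _, fun E hE => ?_⟩
  obtain ⟨U, hU, hEU⟩ := h (Points.ofPt e.hom ⁻¹' E) (hE.preimage (ofPt_iso_injective e).injOn)
  exact ⟨U, hU, fun z hz => hEU hz⟩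

/-- The conclusion of Theorem B implies that every finite set of points lies in an affine open. -/
theorem inAffine_of_concl [QuasiSeparatedSpace ↥S] {X : Sp S} (hX : IsAlgSpace X) (hN : IsLocNoethSp X)
    (hqs : IsQuasiSeparatedSp X) (h : Concl X) (E : Set (Points X)) (hE : E.Finite) :
    K650.Sat.InAffine X E := by
  obtain ⟨Z, π, h1, h2, h3⟩ := h
  obtain ⟨U, hU, hEU⟩ := h3 E hE
  exact K650.QAff.inAffine_of_integral (fun f => Groth.Agent.S10033.result S f) hX hN hqs π h1 h2 E hE U hU hEU

/-- If every finite set of points lies in an affine open subspace, the space is a scheme in which every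
finite set of points lies in an affine open. -/
theorem exists_scheme {X : Sp S} (hX : IsAlgSpace X)
    (h : ∀ E : Set (Points X), E.Finite → K650.Sat.InAffine X E) :
    ∃ (T : Over S) (_ : (yon S).obj T ≅ X), FinAff T.left := by
  have h1 : X.obj.IsRepresentable := by
    refine (K610.SchLocus.isRepresentable_iff_forall (X := ⟨X, hX⟩)).2 fun x => ?_
    obtain ⟨W, hW, hx⟩ := (h {x} (Set.finite_singleton x)).isSch
    exact ⟨W, hW, hx rfl⟩
  obtain ⟨H, ⟨e⟩⟩ := K610.ZarGlue.isRepresentable_iff.1 h1
  refine ⟨H, e, fun E hE => ?_⟩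
  obtain ⟨T, j, hT, hj, hEj⟩ := h (Points.ofPt e.hom '' E) (hE.image _)
  obtain ⟨t, ht⟩ := (yon S).map_surjective (j ≫ e.inv)
  have ht' : (yon S).map t ≫ e.hom = j := by rw [ht]; simp
  have h2 : RepWith @IsOpenImmersion ((yon S).map t) := by
    rw [ht]
    exact MorphismProperty.comp_mem (RepWith @IsOpenImmersion) _ _ hj (K610.SchLocus.repWith_iso e.symm)
  have h3 : IsOpenImmersion t.left := (repWith_yon_map_iff _ _).1 h2
  refine ⟨t.left.opensRange, isAffineOpen_opensRange t.left, fun z hz => ?_⟩
  obtain ⟨w, hw⟩ := hEj ⟨z, hz, rfl⟩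
  refine ⟨w, ofPt_iso_injective e ?_⟩
  rw [← hw, ← ht']
  exact (K609.Points.ofPt_yon_map_comp t e.hom w).symm

/-- The conclusion of Theorem B for a locally Noetherian quasi-separated algebraic space. -/
theorem concl_iff [QuasiSeparatedSpace ↥S] {X : Sp S} (hX : IsAlgSpace X) (hN : IsLocNoethSp X)
    (hqs : IsQuasiSeparatedSp X) :
    Concl X ↔ ∃ (T : Over S) (_ : (yon S).obj T ≅ X), FinAff T.left :=
  ⟨fun h => exists_scheme hX (inAffine_of_concl hX hN hqs h), fun ⟨_, e, h⟩ => concl_of_finAff e h⟩

/-- The conclusion of Theorem B passes to open subspaces. -/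
theorem concl_of_open [QuasiSeparatedSpace ↥S] {X X₀ : Sp S} (hX : IsAlgSpace X) (hN : IsLocNoethSp X)
    (hqs : IsQuasiSeparatedSp X) (a : X₀ ⟶ X) (ha : RepWith @IsOpenImmersion a) (h : Concl X) : Concl X₀ := by
  obtain ⟨T, e, hT⟩ := (concl_iff hX hN hqs).1 h
  obtain ⟨T₀, t, b, sq⟩ := ha.1 e.hom
  have h1 : IsOpenImmersion t.left := ha.2 e.hom b t sq
  have h2 : IsIso b := sq.isIso_fst_of_isIso
  exact concl_of_finAff (asIso b) (finAff_of_isOpenImmersion t.left hT)

end K612.ConclOpn
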