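import Groth.Agent.AlgSp.K612.ModPush
import Groth.Agent.AlgSp.K648.Push2
import Groth.Agent.AlgSp.K644.Chart

/-!
# Weakly associated points of the inverse image along a finite flat morphism
-/

set_option autoImplicit false
set_option backward.isDefEq.respectTransparency false

universe u

open CategoryTheory CategoryTheory.Limits AlgebraicGeometry Opposite AlgSp

namespace K612.FlatAss

open K648.Basic K648.Push K648.Chart K612.ModPush K612.PullTerm K612.PullSec Groth.Agent.Etbase.FFExact

theorem mem_weakAss_iff_of_isBC {A B : Type*} [CommRing A] [CommRing B] (φ : A →+* B) (hfin : φ.Finite)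
    (hflat : φ.Flat) {N N' : Type*} [AddCommGroup N] [Module A N] [AddCommGroup N'] [Module B N'] {ψ : N →+ N'}
    (h : IsBC φ ψ) (q : Ideal B) [q.IsPrime] :
    q ∈ FlatCA.weakAss B N' ↔ q.comap φ ∈ FlatCA.weakAss A N := by
  algebraize [φ]
  let _ : Module A N' := Module.compHom N' φ
  have : IsScalarTower A B N' := ⟨fun a b m => by
      change (φ a * b) • m = φ a • b • m
      rw [mul_smul]⟩
  obtain ⟨h1, h2⟩ := h
  have hp : (q.comap φ).IsPrime := Ideal.comap_isPrime _ _
  have hlo : q.LiesOver (q.comap φ) := ⟨rfl⟩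
  rw [← Groth.Agent.Flat2B.WeakAssFinite.mem_weakAss_baseChange_iff_of_finite_flat N (q.comap φ) q]
  rw [Groth.Agent.Flat2B.WeakAss.weakAss_congr (IsBaseChange.equiv h2)]

variable {S : Scheme.{u}} {X Y : Sp S}

theorem isCart_of_isQuasicoherent (M : ModEt X) [M.IsQuasicoherent] : IsCart M := fun _ _ g hE hE' =>
  K644.Chart.isBC_of_isQuasicoherent M g hE hE'

variable {f : X ⟶ Y}

theorem flat_bcπ (hf : Representable f) (hflat : LocP @Flat f) (E : EtOver Y) : Flat (EtOver.bcπ hf E).left :=
  hflat ((EtOver.bc hf).obj E).obj.hom E.obj.hom (EtOver.bcπ hf E) ((EtOver.bc hf).obj E).property E.property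
    (EtOver.isPullback_bcObj hf E).w

theorem mem_weakAssEt_pull_iff (hX : IsAlgSpace X) (hY : IsAlgSpace Y) (hf : Representable f)
    (hfin : IsFiniteMor f) (hflat : LocP @Flat f)
    [(SheafOfModules.pushforward.{u + 1} (bcRingHom hf)).IsRightAdjoint]
    (G : ModEt Y) [G.IsQuasicoherent] [((pullModEt hf).obj G).IsQuasicoherent] (x : Points X) :
    x ∈ WeakAssEt ((pullModEt hf).obj G) ↔ Points.map f x ∈ WeakAssEt G := by
  obtain ⟨E, hE, u, hu⟩ := exists_affine_chart hY (Points.map f x)
  have haff := isAffineMor_of_isFiniteMor hfin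
  have hbE := isAffine_bc hf haff E hE
  rw [Points.ofPt_eq_map_ofScheme] at hu
  obtain ⟨p, hp1, hp2⟩ := K609.Points.exists_of_isPullback (EtOver.isPullback_bcObj hf E) x
    (Points.ofScheme E.obj.left u) hu.symm
  obtain ⟨w, rfl⟩ := K609.Points.ofScheme_surjective _ p
  rw [K609.Points.map_yon_map_ofScheme] at hp2
  have hw : (EtOver.bcπ hf E).left w = u := K609.Points.ofScheme_injective _ hp2
  have hbE' : IsAffine (EtOver.bcObj hf E).obj.left.left := hbE
  have hx : Points.ofPt ((EtOver.bc hf).obj E).obj.hom w = x := by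
    rw [Points.ofPt_eq_map_ofScheme]; exact hp1
  have hy : Points.ofPt E.obj.hom u = Points.map f x := by rw [Points.ofPt_eq_map_ofScheme]; exact hu
  have key : IsWeakAssOn ((pullModEt hf).obj G) ((EtOver.bc hf).obj E) w ↔ IsWeakAssOn G E u := by
    rw [isWeakAssOn_iff, isWeakAssOn_iff, ← hw]
    have h3 : (primeAtPt ((EtOver.bc hf).obj E).obj.left.left w).comap (bcΓ hf E) =
      primeAtPt E.obj.left.left ((EtOver.bcπ hf E).left w) := comap_primeAtPt _ _
    rw [← h3]
    let ψ : Sec G E →+ Sec ((pullModEt hf).obj G) ((EtOver.bc hf).obj E) :=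
      sm (un (bcRingHom hf) G) (𝟙 ((EtOver.bc hf).obj E))
    have hbc : IsBC (bcΓ hf E) ψ := by
      have h := isBC_un_modEt hf G (𝟙 ((EtOver.bc hf).obj E)) hE hbE
      rw [θ_id] at h
      exact h
    have := isFinite_bcπ hf hfin E hE
    have := flat_bcπ hf hflat E
    exact mem_weakAss_iff_of_isBC (bcΓ hf E)
      (IsFinite.finite_app (f := (EtOver.bcπ hf E).left) ⊤ (isAffineOpen_top _))
      (HasRingHomProperty.appTop @Flat (EtOver.bcπ hf E).left this) hbc _
  constructor
  · intro h
    rw [mem_weakAssEt_iff hX (isCart_of_isQuasicoherent _)] at h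
    exact ⟨E, hE, u, hy, key.1 (h _ w hx)⟩
  · intro h
    rw [mem_weakAssEt_iff hY (isCart_of_isQuasicoherent _)] at h
    exact ⟨_, hbE, w, hx, key.2 (h _ u hy)⟩

end K612.FlatAss
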