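import Groth.Agent.AlgSp.K612.FpPull
/-!
Gluing along an elementary square: the fibre product `N ×_{f_* f^* N} f_* P` restricts to `P` on the chart.
-/

set_option autoImplicit false
universe v' u' u

set_option backward.isDefEq.respectTransparency false

open CategoryTheory CategoryTheory.Limits AlgebraicGeometry Opposite

namespace K612.FpGlue

open AlgSp K646.EtSite K606.AffSub K606.Part K606.UnionMod K612.FpV K612.FpPull K612.ResEt

section glue

variable {S : Scheme.{u}} {X : Sp S}

/-- Gluing of locally unique local sections. -/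
theorem exists_glue {M : ModEt X} {Z : EtOver X} (R : Sieve Z) (hR : R ∈ etTop X Z)
    (Q : ∀ {Z' : EtOver X} (_ : Z' ⟶ Z), M.val.presheaf.obj (op Z') → Prop)
    (huniq : ∀ {Z' : EtOver X} (g : Z' ⟶ Z) (_ : R g) (x x' : M.val.presheaf.obj (op Z')),
      Q g x → Q g x' → x = x')
    (hex : ∀ {Z' : EtOver X} (g : Z' ⟶ Z), R g → ∃ x : M.val.presheaf.obj (op Z'), Q g x)
    (hres : ∀ {Z' Z'' : EtOver X} (g : Z' ⟶ Z) (_ : R g) (x : M.val.presheaf.obj (op Z'))
      (_ : Q g x) (h : Z'' ⟶ Z'), Q (h ≫ g) (M.val.presheaf.map h.op x)) :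
    ∃ x : M.val.presheaf.obj (op Z), ∀ {Z' : EtOver X} (g : Z' ⟶ Z), R g →
      Q g (M.val.presheaf.map g.op x) := by
  have hI : Presieve.IsSheaf (etTop X) (M.val.presheaf ⋙ CategoryTheory.forget AddCommGrpCat) :=
    (isSheaf_iff_isSheaf_of_type _ _).1 (Presheaf.isSheaf_comp_of_isSheaf (etTop X) M.val.presheaf
      (CategoryTheory.forget _) M.isSheaf)
  let fam : Presieve.FamilyOfElements (M.val.presheaf ⋙ CategoryTheory.forget AddCommGrpCat)
    (R : Presieve Z) := fun Z' g hg => (hex g hg).choose
  have hfam : ∀ {Z' : EtOver X} (g : Z' ⟶ Z) (hg : R g), Q g (fam g hg) := fun g hg =>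
    (hex g hg).choose_spec
  have hc : fam.Compatible := by
    intro Y₁ Y₂ W g₁ g₂ f₁ f₂ h₁ h₂ w
    have e1 := hres f₁ h₁ _ (hfam f₁ h₁) g₁
    have e2 := hres f₂ h₂ _ (hfam f₂ h₂) g₂
    have hR1 : R (g₁ ≫ f₁) := R.downward_closed h₁ g₁
    have e3 : Q (g₁ ≫ f₁) (M.val.presheaf.map g₂.op (fam f₂ h₂)) := by rw [w]; exact e2
    exact huniq (g₁ ≫ f₁) hR1 _ _ e1 e3
  refine ⟨(hI R hR).amalgamate fam hc, fun {Z'} g hg => ?_⟩
  have h1 := (hI R hR).valid_glue hc g hg
  have h2 : M.val.presheaf.map g.op ((hI R hR).amalgamate fam hc) = fam g hg := h1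
  rw [h2]
  exact hfam g hg

/-- Bijectivity on sections over an arbitrary object from affine objects. -/
theorem bijective_of_affine {P L : ModEt X} (α : P ⟶ L) (Z : EtOver X)
    (h : ∀ (Z' : EtOver X) (_ : Z' ⟶ Z), IsAffine Z'.obj.left.left →
      Function.Bijective (lin α Z')) : Function.Bijective (lin α Z) := by
  have hinj : ∀ (Z₁ : EtOver X) (_ : Z₁ ⟶ Z), Function.Injective (lin α Z₁) := by
    intro Z₁ k s t hst
    refine sec_ext Z₁ s t fun E' g hE' => ?_
    apply (h E' (g ≫ k) hE').1
    rw [lin_map, lin_map, hst]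
  refine ⟨hinj Z (𝟙 Z), fun y => ?_⟩
  let R : Sieve Z := Sieve.generate (fun Z' _ => IsAffine Z'.obj.left.left)
  have hR : R ∈ etTop X Z := by
    refine K644.Site.QCSite.exists_aff (T := EtOver.toScheme X) Z _ fun V g hV => ?_
    exact Sieve.le_generate _ _ g hV
  obtain ⟨x, hx⟩ := exists_glue (M := P) R hR
    (fun {Z'} g x => lin α Z' x = L.val.presheaf.map g.op y)
    (fun {Z'} g _ x x' h1 h2 => hinj Z' g (h1.trans h2.symm))
    (fun {Z'} g hg => by
      obtain ⟨W, a, b, hb, rfl⟩ := hg
      obtain ⟨t, ht⟩ := (h W b hb).2 (L.val.presheaf.map b.op y)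
      refine ⟨P.val.presheaf.map a.op t, ?_⟩
      rw [lin_map, ht, map_map])
    (fun {Z' Z''} g _ x hx k => by rw [lin_map, hx, map_map])
  refine ⟨x, sec_ext Z _ _ fun E' g hE' => ?_⟩
  rw [← lin_map]
  exact hx g (Sieve.le_generate _ _ g hE')

end glue

section chart

variable {S : Scheme.{u}} {X : Sp S} {U : Over S} {f : (yon S).obj U ⟶ X} (hf : Representable f)
  (he : IsEtaleMor f)

theorem triangle (E' : EtOver ((yon S).obj U)) :
    (EtOver.postcomp f he).map (adjUnit hf he E') ≫ adjCounit hf he ((EtOver.postcomp f he).obj E') =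
      𝟙 _ := (adj hf he).left_triangle_components E'

/-- Objects over `X` with a map to the chart. -/
noncomputable def toCh {V : EtOver X} {Z : EtOver X} (k : Z ⟶ V) : EtOver ((yon S).obj V.obj.left) :=
  EtOver.mk ((yon S).map k.hom.left) ((repWith_yon_map_iff _ _).2 (EtOver.etale_left k))

noncomputable def toChHom {V : EtOver X} (heV : IsEtaleMor V.obj.hom) {Z : EtOver X} (k : Z ⟶ V) :
    Z ⟶ (EtOver.postcomp V.obj.hom heV).obj (toCh k) :=
  EtOver.homMk (𝟙 _) (by
    rw [(yon S).map_id, Category.id_comp]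
    exact EtOver.w k)

/-- The two kinds of objects over `E' ×_X V`. -/
def chSieve (T₁ : Set (Points X)) (E' : EtOver ((yon S).obj U)) :
    Sieve ((EtOver.bc hf).obj ((EtOver.postcomp f he).obj E')) where
  arrows Z' g := In T₁ ((EtOver.postcomp f he).obj Z') ∨ ∃ h' : Z' ⟶ E', g = h' ≫ adjUnit hf he E'
  downward_closed := by
    rintro Z' Z'' g (hg | ⟨h', rfl⟩) k
    · exact Or.inl (hg.down ((EtOver.postcomp f he).map k))
    · exact Or.inr ⟨k ≫ h', (Category.assoc _ _ _).symm⟩

theorem chSieve_mem {T₁ T₂ : Set (Points X)} (hfE : RepWith @Etale f)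
    (hel : K606.ExtStep.Elem T₁ T₂ (EtOver.mk f hfE)) (E' : EtOver ((yon S).obj U)) :
    chSieve hf he T₁ E' ∈ etTop ((yon S).obj U) _ := by
  rw [Et.mem_etTop_iff]
  intro x
  let Z := (EtOver.bc hf).obj ((EtOver.postcomp f he).obj E')
  let a₁ : (EtOver.postcomp f he).obj Z ⟶ EtOver.mk f hfE :=
    EtOver.homMk ((yon S).preimage Z.obj.hom) (by
      rw [(yon S).map_preimage]; rfl)
  let c : (EtOver.postcomp f he).obj E' ⟶ EtOver.mk f hfE :=
    EtOver.homMk ((yon S).preimage E'.obj.hom) (by
      rw [(yon S).map_preimage]; rfl)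
  let a₂ : (EtOver.postcomp f he).obj Z ⟶ EtOver.mk f hfE := adjCounit hf he _ ≫ c
  obtain ⟨E'', g, hx, hg⟩ := hel.uniq ((EtOver.postcomp f he).obj Z) a₁ a₂ x
  refine ⟨liftObj f he Z g, liftHom f he Z g, ?_, hx⟩
  rcases hg with hg | hg
  · exact Or.inl (hg.down (liftIso f he Z g).hom)
  · right
    have hg1 : g.hom.left ≫ a₁.hom.left = g.hom.left ≫ a₂.hom.left :=
      congrArg (fun k => k.hom.left) hg
    have hg2 : (yon S).map g.hom.left ≫ Z.obj.hom =
        (yon S).map (g ≫ adjCounit hf he _).hom.left ≫ E'.obj.hom := by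
      have h3 := congrArg (yon S).map hg1
      rw [Functor.map_comp, Functor.map_comp] at h3
      have h4 : (yon S).map a₁.hom.left = Z.obj.hom := (yon S).map_preimage _
      have h5 : (yon S).map a₂.hom.left =
          (yon S).map (adjCounit hf he ((EtOver.postcomp f he).obj E')).hom.left ≫ E'.obj.hom := by
        change (yon S).map ((adjCounit hf he ((EtOver.postcomp f he).obj E')).hom.left ≫
          (yon S).preimage E'.obj.hom) = _
        rw [Functor.map_comp, (yon S).map_preimage]
      rw [h4, h5] at h3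
      refine h3.trans ?_
      rw [← Category.assoc, ← Functor.map_comp]
      rfl
    refine ⟨EtOver.homMk (g ≫ adjCounit hf he _).hom.left hg2.symm, ?_⟩
    refine hom_ext_bc hf _ _ ?_
    have h6 : ((g ≫ adjCounit hf he _).hom.left ≫ (adjUnit hf he E').hom.left) ≫
        hf.snd ((EtOver.postcomp f he).obj E').obj.hom = (g ≫ adjCounit hf he _).hom.left := by
      rw [Category.assoc, adjUnit_snd]
      exact Category.comp_id _
    exact h6.symm

end chart

section main

variable {S : Scheme.{u}} {X : Sp S} {U : Over S} {f : (yon S).obj U ⟶ X} (hf : Representable f)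
  (he : IsEtaleMor f) {N : ModEt X} {PV : ModEt ((yon S).obj U)}
  (α : PV ⟶ (resModEt he).obj N) {P : ModEt X} (p : P ⟶ N) (q : P ⟶ (pushModEt hf).obj PV)
  (hpq : p ≫ (resAdj hf he).unit.app N = q ≫ (pushModEt hf).map α)

/-- The comparison with the module on the chart. -/
noncomputable def zt : (resModEt he).obj P ⟶ PV :=
  (resModEt he).map q ≫ (resAdj hf he).counit.app PV

theorem zt_apply (E' : EtOver ((yon S).obj U))
    (z : P.val.presheaf.obj (op ((EtOver.postcomp f he).obj E'))) :
    lin (zt hf he q) E' z = PV.val.presheaf.map (adjUnit hf he E').op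
      (lin q ((EtOver.postcomp f he).obj E') z) := rfl

include hpq in
theorem key1 (E : EtOver X) (z : P.val.presheaf.obj (op E)) :
    lin α ((EtOver.bc hf).obj E) (lin q E z) =
      N.val.presheaf.map (adjCounit hf he E).op (lin p E z) := by
  have h := congrArg (fun k => lin k E z) hpq
  exact h.symm

include hpq in
theorem key2 (E' : EtOver ((yon S).obj U))
    (z : P.val.presheaf.obj (op ((EtOver.postcomp f he).obj E'))) :
    lin α E' (lin (zt hf he q) E' z) = lin p ((EtOver.postcomp f he).obj E') z := by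
  rw [zt_apply]
  refine (lin_map α (adjUnit hf he E') _).trans ?_
  rw [key1 hf he α p q hpq]
  refine (map_map (F := N) (adjCounit hf he ((EtOver.postcomp f he).obj E'))
    ((EtOver.postcomp f he).map (adjUnit hf he E')) _).trans ?_
  rw [triangle]
  exact K606.Part.map_id _

variable (h0 : ∀ (E : EtOver X) (z : P.val.presheaf.obj (op E)), lin p E z = 0 → lin q E z = 0 → z = 0)
  (h1 : ∀ (E : EtOver X) (x : N.val.presheaf.obj (op E))
    (y : ((pushModEt hf).obj PV).val.presheaf.obj (op E)),
    lin ((resAdj hf he).unit.app N) E x = lin ((pushModEt hf).map α) E y →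
      ∃ z, lin p E z = x ∧ lin q E z = y)

/-- `α` is bijective on all objects over the open part. -/
theorem bij_all {T₁ : Set (Points X)}
    (hα : ∀ Z' : EtOver ((yon S).obj U), IsAffine Z'.obj.left.left →
      In T₁ ((EtOver.postcomp f he).obj Z') → Function.Bijective (lin α Z'))
    (Z : EtOver ((yon S).obj U)) (hZ : In T₁ ((EtOver.postcomp f he).obj Z)) :
    Function.Bijective (lin α Z) :=
  bijective_of_affine α Z fun Z' g hZ' => hα Z' hZ' (hZ.down ((EtOver.postcomp f he).map g))

include hpq h0 h1 in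
/-- The fibre product restricts to `PV` on the chart. -/
theorem bijective_zt {T₁ T₂ : Set (Points X)} (hfE : RepWith @Etale f)
    (hel : K606.ExtStep.Elem T₁ T₂ (EtOver.mk f hfE))
    (hα : ∀ Z' : EtOver ((yon S).obj U), IsAffine Z'.obj.left.left →
      In T₁ ((EtOver.postcomp f he).obj Z') → Function.Bijective (lin α Z'))
    (E' : EtOver ((yon S).obj U)) : Function.Bijective (lin (zt hf he q) E') := by
  have hR := chSieve_mem hf he hfE hel E'
  have hα' := bij_all he α hα
  constructor
  · rw [injective_iff_map_eq_zero]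
    intro z hz
    have hp : lin p ((EtOver.postcomp f he).obj E') z = 0 := by
      rw [← key2 hf he α p q hpq, hz, map_zero]
    refine h0 _ z hp ?_
    have hαq : lin α ((EtOver.bc hf).obj ((EtOver.postcomp f he).obj E'))
        (lin q ((EtOver.postcomp f he).obj E') z) = 0 := by
      rw [key1 hf he α p q hpq, hp, map_zero]
    refine K645.Ex.section_ext PV _ hR _ _ fun Z' g hg => ?_
    rcases hg with hg | ⟨h', rfl⟩
    · apply (hα' Z' hg).1
      have h2 := lin_map α g (lin q ((EtOver.postcomp f he).obj E') z)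
      rw [hαq, map_zero] at h2
      have h3 : lin α Z' (PV.val.presheaf.map g.op (0 : PV.val.presheaf.obj
          (op ((EtOver.bc hf).obj ((EtOver.postcomp f he).obj E'))))) = 0 := by
        rw [map_zero, map_zero]
      exact h2.trans h3.symm
    · have h2 : PV.val.presheaf.map (adjUnit hf he E').op
          (lin q ((EtOver.postcomp f he).obj E') z) = 0 := hz
      have h3 := map_map (F := PV) (adjUnit hf he E') h' (lin q ((EtOver.postcomp f he).obj E') z)
      have h4 := map_map (F := PV) (adjUnit hf he E') h' (0 : PV.val.presheaf.obj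
        (op ((EtOver.bc hf).obj ((EtOver.postcomp f he).obj E'))))
      rw [h2, map_zero] at h3
      rw [map_zero, map_zero] at h4
      exact h3.symm.trans h4
  · intro r
    let x : N.val.presheaf.obj (op ((EtOver.postcomp f he).obj E')) := lin α E' r
    let Q : ∀ {Z' : EtOver ((yon S).obj U)}
        (_ : Z' ⟶ (EtOver.bc hf).obj ((EtOver.postcomp f he).obj E')),
        PV.val.presheaf.obj (op Z') → Prop := fun {Z'} g y =>
      lin α Z' y = N.val.presheaf.map ((EtOver.postcomp f he).map g ≫ adjCounit hf he _).op x ∧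
      ∀ {Z'' : EtOver ((yon S).obj U)} (k : Z'' ⟶ Z') (h' : Z'' ⟶ E'),
        k ≫ g = h' ≫ adjUnit hf he E' → PV.val.presheaf.map k.op y = PV.val.presheaf.map h'.op r
    have hcan : ∀ {Z'' : EtOver ((yon S).obj U)} (h₁ h₂ : Z'' ⟶ E'),
        h₁ ≫ adjUnit hf he E' = h₂ ≫ adjUnit hf he E' → h₁ = h₂ := by
      intro Z'' h₁ h₂ h
      have h3 := congrArg (fun k => k.hom.left ≫ hf.snd _) h
      have h4 : ∀ h' : Z'' ⟶ E', (h' ≫ adjUnit hf he E').hom.left ≫
          hf.snd ((EtOver.postcomp f he).obj E').obj.hom = h'.hom.left := by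
        intro h'
        have : (h'.hom.left ≫ (adjUnit hf he E').hom.left) ≫
            hf.snd ((EtOver.postcomp f he).obj E').obj.hom = h'.hom.left := by
          rw [Category.assoc, adjUnit_snd]
          exact Category.comp_id _
        exact this
      refine EtOver.hom_ext _ _ ?_
      rw [← h4 h₁, ← h4 h₂]
      exact h3
    have hx : ∀ {Z'' : EtOver ((yon S).obj U)} (h' : Z'' ⟶ E'),
        N.val.presheaf.map ((EtOver.postcomp f he).map (h' ≫ adjUnit hf he E') ≫
          adjCounit hf he _).op x = lin α Z'' (PV.val.presheaf.map h'.op r) := by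
      intro Z'' h'
      have h3 : (EtOver.postcomp f he).map (h' ≫ adjUnit hf he E') ≫ adjCounit hf he _ =
          (EtOver.postcomp f he).map h' := by
        rw [Functor.map_comp, Category.assoc, triangle, Category.comp_id]
      rw [h3]
      exact (lin_map α h' r).symm
    obtain ⟨y, hy⟩ := exists_glue (M := PV) (chSieve hf he T₁ E') hR Q
      (by
        rintro Z' g (hg | ⟨h', rfl⟩) y y' ⟨h2, h3⟩ ⟨h4, h5⟩
        · exact (hα' Z' hg).1 (h2.trans h4.symm)
        · have h6 := h3 (𝟙 _) h' (Category.id_comp _)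
          have h7 := h5 (𝟙 _) h' (Category.id_comp _)
          rw [K606.Part.map_id] at h6 h7
          exact h6.trans h7.symm)
      (by
        rintro Z' g (hg | ⟨h', rfl⟩)
        · obtain ⟨y, hy⟩ := (hα' Z' hg).2
            (N.val.presheaf.map ((EtOver.postcomp f he).map g ≫ adjCounit hf he _).op x)
          refine ⟨y, hy, fun {Z''} k h' hk => ?_⟩
          apply (hα' Z'' (hg.down ((EtOver.postcomp f he).map k))).1
          rw [← hx h', ← hk, Functor.map_comp, Category.assoc]
          refine (lin_map α k y).trans ?_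
          rw [hy]
          exact map_map (F := N) _ ((EtOver.postcomp f he).map k) x
        · refine ⟨PV.val.presheaf.map h'.op r, (hx h').symm, fun {Z''} k h'' hk => ?_⟩
          rw [← Category.assoc] at hk
          rw [map_map, hcan _ _ hk])
      (by
        rintro Z' Z'' g hg y ⟨h2, h3⟩ k
        refine ⟨?_, fun {Z₃} k' h' hk => ?_⟩
        · refine (lin_map α k y).trans ?_
          rw [h2, Functor.map_comp, Category.assoc]
          exact map_map (F := N) _ ((EtOver.postcomp f he).map k) x
        · rw [map_map]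
          exact h3 (k' ≫ k) h' (by rw [Category.assoc, hk]))
    have hαy : lin α ((EtOver.bc hf).obj ((EtOver.postcomp f he).obj E')) y =
        N.val.presheaf.map (adjCounit hf he _).op x := by
      refine K645.Ex.section_ext ((resModEt he).obj N) _ hR _ _ fun Z' g hg => ?_
      have h2 := (hy g hg).1
      have h3 := lin_map α g y
      refine h3.symm.trans (h2.trans ?_)
      exact (map_map (F := N) (adjCounit hf he _) ((EtOver.postcomp f he).map g) x).symm
    obtain ⟨z, hz1, hz2⟩ := h1 ((EtOver.postcomp f he).obj E') x y hαy.symm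
    refine ⟨z, ?_⟩
    rw [zt_apply, hz2]
    have h2 := (hy (adjUnit hf he E') (Or.inr ⟨𝟙 _, (Category.id_comp _).symm⟩)).2 (𝟙 _) (𝟙 _)
      rfl
    rwa [K606.Part.map_id, K606.Part.map_id] at h2

end main

end K612.FpGlue
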