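import Groth.Agent.AlgSp.K612.FpOpn
/-!
Every quasi-coherent module of finite type on a quasi-compact quasi-separated space is a quotient of a module of finite
presentation.
-/

set_option autoImplicit false
universe v' u' u

set_option backward.isDefEq.respectTransparency false

open CategoryTheory CategoryTheory.Limits AlgebraicGeometry Opposite

namespace K612.FpMain

open AlgSp K646.EtSite K606.AffSub K606.Part K606.UnionMod K612.FpV K612.FpPull K612.ResEt
  K612.FpGlue K612.FpStep K612.FpOpn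

section quot

variable {S : Scheme.{u}} {X : Sp S}

/-- Quotients by submodules of finite type preserve finite presentation. -/
theorem fpOn_cokernel {T : Set (Points X)} {K P : ModEt X} [K.IsQuasicoherent] [K.IsFiniteType]
    [P.IsQuasicoherent] (ψ : K ⟶ P) (hP : FPOn T P) : FPOn T (cokernel ψ) := by
  intro E hE hT
  have h1 := cokernel_exact ψ E hE
  have h2 := hP E hE hT
  refine Module.finitePresentation_of_surjective _ h1.2 ?_
  rw [h1.1.linearMap_ker_eq]
  have : Module.Finite Γ(E.obj.left.left, ⊤) (K.val.presheaf.obj (op E)) :=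
    K644.ChartFin.finite_sec K hE
  exact Submodule.FG.of_finite

end quot

section step

variable {S : Scheme.{u}} [QuasiSeparatedSpace ↥S] {X : Space S} (hXc : IsQuasiCompactSp X.obj)
  (hXs : IsQuasiSeparatedSp X.obj)

include hXc hXs

/-- Finitely many sections lie in a submodule of finite type. -/
theorem exists_FT_fin (K : ModEt X.obj) [K.IsQuasicoherent] (E : EtOver X.obj)
    (hE : IsAffine E.obj.left.left) {n : ℕ} (k : Fin n → K.val.presheaf.obj (op E)) :
    ∃ (K' : ModEt X.obj) (κ : K' ⟶ K), Mono κ ∧ K'.IsQuasicoherent ∧ K'.IsFiniteType ∧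
      ∀ i, ∃ k', lin κ E k' = k i := by
  choose N hN hk using fun i => K606.QCMain.exists_mem hXc hXs (K606.QcSub.bcaff K) E hE (k i)
  obtain ⟨K', κ, h1, h2, h3, h4⟩ := exists_module (PSub.iSup N)
  refine ⟨K', κ, h1, h2, h4 (PSub.iSup_FG N hN), fun i => ?_⟩
  have h5 : k i ∈ LinearMap.range (lin κ E) := by
    rw [h3 E hE]
    exact PSub.le_iSup N i E hE (hk i)
  exact h5

variable {W : AlgSp.Space S} {jW : W ⟶ X}
  (hjW : AlgSp.RepWith @IsOpenImmersion jW.hom) (hWc : AlgSp.IsQuasiCompactSp W.obj)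
  (V : EtOver X.obj) (hV : IsAffine V.obj.left.left)
  (M : ModEt X.obj) [M.IsQuasicoherent] [M.IsFiniteType]
  (P₁ : ModEt X.obj) [P₁.IsQuasicoherent] (φ : P₁ ⟶ M)
  (hP₁ : FPOn (Set.range (Points.map jW.hom)) P₁) (hφ : SurjOn (Set.range (Points.map jW.hom)) φ)

include hjW hWc hV hP₁ hφ

theorem exists_improve : ∃ (N : ModEt X.obj) (ψ : N ⟶ M), N.IsQuasicoherent ∧ N.IsFiniteType ∧
    FPOn (Set.range (Points.map jW.hom)) N ∧ SurjOn (Set.range (Points.map jW.hom)) ψ ∧
    Function.Surjective (lin ψ V) := by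
  have hje : RepWith @Etale jW.hom := K610.Base.repWith_mono (fun _ _ g hg => by
    have : IsOpenImmersion g := hg
    infer_instance) hjW
  have he : IsEtaleMor jW.hom := fun _ _ ha =>
    (repWith_isMultiplicative (S := S) @Etale).comp_mem _ _ ha hje
  have hqc : IsQuasiCompactMor jW.hom :=
    K596.QC2.isQuasiCompactMor_of_qc_of_qs W.property X.property jW.hom hWc hXs
  have hmono := K610.Factor.mono_of_isOpenImmersion hjW
  have hqs : IsQuasiSeparatedMor jW.hom := K598.RepKit.repWith_of_isIso _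
  let pc := EtOver.postcomp jW.hom he
  -- a two step covering of the open part of `V`
  have hVc : CompactSpace ↥V.obj.left.left := by
    have := hV
    infer_instance
  have hVs : QuasiSeparatedSpace ↥V.obj.left.left := by
    have := hV
    infer_instance
  have h3 : QuasiCompact (EtOver.bcπ hjW.1 V).left :=
    (K596.QC.repWith_of_isQuasiCompactMor hjW.1 hqc).2 _ _ _ (hjW.1.isPullback V.obj.hom)
  have h4 : QuasiSeparated (EtOver.bcπ hjW.1 V).left :=
    ((K595.DiagBasic.isQuasiSeparatedMor_iff_repWith hjW.1).1 hqs).2 _ _ _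
      (hjW.1.isPullback V.obj.hom)
  have h5 : CompactSpace ((EtOver.bc hjW.1).obj V).obj.left.left :=
    QuasiCompact.compactSpace_of_compactSpace (EtOver.bcπ hjW.1 V).left
  have h6 : QuasiSeparatedSpace ((EtOver.bc hjW.1).obj V).obj.left.left :=
    quasiSeparatedSpace_of_quasiSeparated (EtOver.bcπ hjW.1 V).left
  obtain ⟨V₀, V₁, s, b₀, b₁, hcov, hV₀, hV₁⟩ := K612.ModQcqs.exists_cov2 ((EtOver.bc hjW.1).obj V)
  have hT₀ : In (Set.range (Points.map jW.hom)) (pc.obj V₀) :=
    K606.ElemBridge.in_of_factor V₀.obj.hom rfl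
  let s₀ : pc.obj V₀ ⟶ V := pc.map s ≫ adjCounit hjW.1 he V
  have hs₀ : pc.map b₀ ≫ s₀ = pc.map b₁ ≫ s₀ := by
    rw [← Category.assoc, ← Category.assoc, ← pc.map_comp, ← pc.map_comp, hcov.w]
  -- generators and their lifts
  have hMf : Module.Finite Γ(V.obj.left.left, ⊤) (M.val.presheaf.obj (op V)) :=
    K644.ChartFin.finite_sec M hV
  obtain ⟨n, m, hm⟩ := Module.Finite.exists_fin (R := Γ(V.obj.left.left, ⊤))
    (M := M.val.presheaf.obj (op V))
  choose t ht using fun i => hφ (pc.obj V₀) hV₀ hT₀ (M.val.presheaf.map s₀.op (m i))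
  let d : Fin n → P₁.val.presheaf.obj (op (pc.obj V₁)) := fun i =>
    P₁.val.presheaf.map (pc.map b₀).op (t i) - P₁.val.presheaf.map (pc.map b₁).op (t i)
  have hd : ∀ i, lin φ (pc.obj V₁) (d i) = 0 := by
    intro i
    rw [map_sub, lin_map, lin_map, ht, map_map, map_map, hs₀, sub_self]
  choose k hk using fun i => ((kernel_exact φ (pc.obj V₁)).2 (d i)).1 (hd i)
  obtain ⟨K', κ, _, hKqc, hKft, hk'⟩ := exists_FT_fin hXc hXs (kernel φ) (pc.obj V₁) hV₁ k
  choose k' hk' using hk'
  let ψ₀ : K' ⟶ P₁ := κ ≫ kernel.ι φ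
  have hψ₀ : ψ₀ ≫ φ = 0 := by rw [Category.assoc, kernel.condition, comp_zero]
  let P₂ : ModEt X.obj := cokernel ψ₀
  let π : P₁ ⟶ P₂ := cokernel.π ψ₀
  let φ₂ : P₂ ⟶ M := cokernel.desc ψ₀ φ hψ₀
  have hπφ : π ≫ φ₂ = φ := cokernel.π_desc _ _ _
  have hP₂ : P₂.IsQuasicoherent := inferInstance
  have hP₂fp : FPOn (Set.range (Points.map jW.hom)) P₂ := fpOn_cokernel ψ₀ hP₁
  have hφ₂ : SurjOn (Set.range (Points.map jW.hom)) φ₂ := by
    intro E hE hT x
    obtain ⟨y, rfl⟩ := hφ E hE hT x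
    refine ⟨lin π E y, ?_⟩
    rw [← lin_comp, hπφ]
  have ht₂ : ∀ i, P₂.val.presheaf.map (pc.map b₀).op (lin π (pc.obj V₀) (t i)) =
      P₂.val.presheaf.map (pc.map b₁).op (lin π (pc.obj V₀) (t i)) := by
    intro i
    rw [← sub_eq_zero, ← lin_map, ← lin_map, ← map_sub]
    have h7 : lin ψ₀ (pc.obj V₁) (k' i) = d i := by
      rw [← hk i, ← hk' i]
      rfl
    have h8 : lin π (pc.obj V₁) (lin ψ₀ (pc.obj V₁) (k' i)) = 0 := by
      rw [← lin_comp, cokernel.condition]
      rfl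
    rw [h7] at h8
    exact h8
  choose y hy using fun i => rho_exact hjW.1 he hcov P₂ (lin π (pc.obj V₀) (t i)) (ht₂ i)
  have hR₂ : ((Rm hjW.1 he).obj P₂).IsQuasicoherent := isQuasicoherent_Rm hjW he hqc hqs P₂
  have hRM : ((Rm hjW.1 he).obj M).IsQuasicoherent := isQuasicoherent_Rm hjW he hqc hqs M
  obtain ⟨H, p, q, hH, hpq, h0, h1⟩ := exists_pullback (A := (Rm hjW.1 he).obj P₂) (B := M)
    (C := (Rm hjW.1 he).obj M) ((Rm hjW.1 he).map φ₂) (ηm hjW.1 he M)
  have hsec : ∀ i, ∃ z : H.val.presheaf.obj (op V), lin q V z = m i := by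
    intro i
    have h7 : lin ((Rm hjW.1 he).map φ₂) V (y i) = lin (ηm hjW.1 he M) V (m i) := by
      apply rho_injective hjW.1 he hcov M
      rw [← rho_nat, rho_unit, hy, ← lin_comp, hπφ, ht]
    obtain ⟨z, -, hz⟩ := h1 V _ _ h7
    exact ⟨z, hz⟩
  choose z hz using hsec
  -- over the open part
  have hnat : ∀ (E : EtOver X.obj) (x : P₂.val.presheaf.obj (op E)),
      lin ((Rm hjW.1 he).map φ₂) E (lin (ηm hjW.1 he P₂) E x) =
        lin (ηm hjW.1 he M) E (lin φ₂ E x) := by
    intro E x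
    have h7 : φ₂ ≫ ηm hjW.1 he M = ηm hjW.1 he P₂ ≫ (Rm hjW.1 he).map φ₂ :=
      (resAdj hjW.1 he).unit.naturality φ₂
    exact (congrArg (fun g => lin g E x) h7).symm
  have hpb : ∀ (E : EtOver X.obj), In (Set.range (Points.map jW.hom)) E →
      Function.Bijective (lin p E) := by
    intro E hT
    have hη := unit_bijective hjW he M hT
    constructor
    · rw [injective_iff_map_eq_zero]
      intro w hw
      refine h0 E w hw ?_
      apply hη.1
      rw [map_zero]
      have h7 := congrArg (fun g => lin g E w) hpq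
      have h8 : lin ((Rm hjW.1 he).map φ₂) E (lin p E w) = lin (ηm hjW.1 he M) E (lin q E w) := h7
      rw [← h8, hw, map_zero]
    · intro x
      obtain ⟨m', hm'⟩ := hη.2 (lin ((Rm hjW.1 he).map φ₂) E x)
      obtain ⟨w, hw, -⟩ := h1 E x m' hm'.symm
      exact ⟨w, hw⟩
  have hHfp : FPOn (Set.range (Points.map jW.hom)) H := by
    intro E hE hT
    have h7 := hP₂fp E hE hT
    have h8 : Module.FinitePresentation Γ(E.obj.left.left, ⊤)
        (((Rm hjW.1 he).obj P₂).val.presheaf.obj (op E)) :=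
      Module.FinitePresentation.of_equiv
        (LinearEquiv.ofBijective (lin (ηm hjW.1 he P₂) E) (unit_bijective hjW he P₂ hT))
    exact Module.FinitePresentation.of_equiv (LinearEquiv.ofBijective (lin p E) (hpb E hT)).symm
  have hqs : SurjOn (Set.range (Points.map jW.hom)) q := by
    intro E hE hT x
    obtain ⟨w, rfl⟩ := hφ₂ E hE hT x
    obtain ⟨v, -, hv⟩ := h1 E (lin (ηm hjW.1 he P₂) E w) (lin φ₂ E w) (hnat E w)
    exact ⟨v, hv⟩
  -- a submodule of finite type
  obtain ⟨N₀, hN₀, h9⟩ := K606.QCMain.exists_ext hXc hXs (K606.QcSub.bcaff H) W jW hjW hWc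
    (top (K606.QcSub.bcaff H) (Set.range (Points.map jW.hom))) (by
      intro E hE hT
      have := hHfp E hE hT
      exact (inferInstance : Module.Finite Γ(E.obj.left.left, ⊤)
        (H.val.presheaf.obj (op E))).fg_top)
  choose N₁ hN₁ hz₁ using fun i => K606.QCMain.exists_mem hXc hXs (K606.QcSub.bcaff H) V hV (z i)
  let Nf : Option (Fin n) → PSub H Set.univ := fun o => o.elim N₀ N₁
  have hNf : ∀ o, (Nf o).FG := by
    rintro (_ | i)
    · exact hN₀
    · exact hN₁ i
  obtain ⟨N', ν, hν, hNqc, hr, hft⟩ := exists_module (PSub.iSup Nf)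
  have hN'ft := hft (PSub.iSup_FG Nf hNf)
  have htop : ∀ (E : EtOver X.obj), IsAffine E.obj.left.left →
      In (Set.range (Points.map jW.hom)) E → Function.Bijective (lin ν E) := by
    intro E hE hT
    refine ⟨injective_lin ν E, fun x => ?_⟩
    have h10 : x ∈ LinearMap.range (lin ν E) := by
      rw [hr E hE]
      refine PSub.le_iSup Nf none E hE ?_
      have h11 : (Nf none).sub E hE = ⊤ := h9 E hE hT
      rw [h11]
      trivial
    exact h10
  refine ⟨N', ν ≫ q, hNqc, hN'ft, ?_, ?_, ?_⟩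
  · intro E hE hT
    have := hHfp E hE hT
    exact Module.FinitePresentation.of_equiv (LinearEquiv.ofBijective (lin ν E) (htop E hE hT)).symm
  · intro E hE hT x
    obtain ⟨w, rfl⟩ := hqs E hE hT x
    obtain ⟨v, rfl⟩ := (htop E hE hT).2 w
    exact ⟨v, rfl⟩
  · rw [← LinearMap.range_eq_top, eq_top_iff, ← hm, Submodule.span_le]
    rintro _ ⟨i, rfl⟩
    have h10 : z i ∈ LinearMap.range (lin ν V) := by
      rw [hr V hV]
      exact PSub.le_iSup Nf (some i) V hV (hz₁ i)
    obtain ⟨v, hv⟩ := h10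
    refine ⟨v, ?_⟩
    rw [lin_comp, hv, hz]

end step

section main

variable {S : Scheme.{u}} [QuasiSeparatedSpace ↥S] {X : Space S} (hXc : IsQuasiCompactSp X.obj)
  (hXs : IsQuasiSeparatedSp X.obj)

include hXc hXs

/-- Every quasi-coherent module of finite type is a quotient of a module of finite presentation. -/
theorem exists_fp_cover (M : ModEt X.obj) [M.IsQuasicoherent] [M.IsFiniteType] :
    ∃ (P : ModEt X.obj) (φ : P ⟶ M), P.IsFinitePresentation ∧ Epi φ ∧
      ∀ E : EtOver X.obj, IsAffine E.obj.left.left → Function.Surjective (lin φ E) := by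
  obtain ⟨W, jW, hjW, hW⟩ := K610.Sub.exists_open_subspace X ∅ isOpen_empty
  have hWe : IsEmpty (Points W.obj) := by
    rw [Set.range_eq_empty_iff] at hW
    exact hW
  have hWc : IsQuasiCompactSp W.obj := by
    rw [K609.QC.isQuasiCompactSp_iff W.property]
    infer_instance
  have key := K606.QCMain.ind hXc hXs (fun U j => ∀ (M : ModEt X.obj) (_ : M.IsQuasicoherent)
    (_ : M.IsFiniteType), ∃ (P : ModEt X.obj) (φ : P ⟶ M), P.IsQuasicoherent ∧
      FPOn (Set.range (Points.map j.hom)) P ∧ SurjOn (Set.range (Points.map j.hom)) φ)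
    W jW hjW hWc ?_ ?_ M inferInstance inferInstance
  · obtain ⟨P, φ, h1, h2, h3⟩ := key
    have hr := K606.Ext.range_map_id X
    have hs : ∀ E : EtOver X.obj, IsAffine E.obj.left.left → Function.Surjective (lin φ E) :=
      fun E hE => h3 E hE fun x => by rw [hr]; trivial
    refine ⟨P, φ, ?_, epi_of_lin φ hs, hs⟩
    rw [K644.ChartFin.isFinitePresentation_iff]
    exact ⟨(K644.Chart.isQuasicoherent_iff_isCart P).1 h1, fun E hE => h2 E hE fun x => by
      rw [hr]; trivial⟩
  · intro M _ _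
    refine ⟨M, 𝟙 M, inferInstance, fun E hE hT => ?_, fun E hE hT x => ⟨x, rfl⟩⟩
    have h1 : IsEmpty ↥(K646.EtSite.sch E) := ⟨fun x => by
      have h2 := hT x
      rw [hW] at h2
      exact h2⟩
    have h2 : Subsingleton (M.val.presheaf.obj (op E)) :=
      ⟨fun a b => (eq_zero_of_isEmpty E h1 a).trans (eq_zero_of_isEmpty E h1 b).symm⟩
    exact Module.FinitePresentation.of_subsingleton _
  · intro W₁ W₂ V j₁ j₂ k m f hj₁ hj₂ hk hm hW₁ hW₂ hV hel IH M hM hM'
    obtain ⟨E, hE, hel', -⟩ := K606.Ext.exists_step hXs hj₁ hj₂ hk hW₁ hV hel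
    obtain ⟨P₁, φ, hP₁, h1, h2⟩ := IH M hM hM'
    obtain ⟨N, ψ, hN, hNf, h3, h4, h5⟩ := exists_improve hXc hXs hj₁ hW₁ E hE M P₁ φ h1 h2
    obtain ⟨P, p, hP, h6, h7, -, -⟩ := exists_fp_step hXs hj₁ hW₁ E hE hel' N h3
    refine ⟨P, p ≫ ψ, hP, h6, fun E' hE' hT => ?_⟩
    have h8 : Function.Surjective (lin ψ E') := by
      refine surjective_of_local ψ E' hE' fun x => ?_
      obtain ⟨E'', g, hx, hg⟩ := hel'.cov E' hT x
      obtain ⟨E₃, l, hE₃, hx'⟩ := K606.ExtStep.exists_affine_refine g hx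
      refine ⟨E₃, l ≫ g, hE₃, hx', ?_⟩
      rcases hg with hg | ⟨⟨r⟩⟩
      · exact h4 E₃ hE₃ (hg.down l)
      · exact surjective_of_map ψ (l ≫ r) hE₃ hE h5
    intro x
    obtain ⟨y, rfl⟩ := h8 x
    obtain ⟨w, rfl⟩ := h7 E' hE' hT y
    exact ⟨w, rfl⟩

/-- Every section over an affine object is hit by a module of finite presentation. -/
theorem exists_fp_hit (M : ModEt X.obj) [M.IsQuasicoherent] (E : EtOver X.obj)
    (hE : IsAffine E.obj.left.left) (s : M.val.presheaf.obj (op E)) :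
    ∃ (P : ModEt X.obj) (φ : P ⟶ M), P.IsFinitePresentation ∧ ∃ t, lin φ E t = s := by
  obtain ⟨K', κ, -, h2, h3, h4⟩ := exists_FT_fin hXc hXs M E hE (n := 1) (fun _ => s)
  obtain ⟨k', hk'⟩ := h4 0
  obtain ⟨P, φ, h5, -, h6⟩ := exists_fp_cover hXc hXs K'
  obtain ⟨t, rfl⟩ := h6 E hE k'
  exact ⟨P, φ ≫ κ, h5, t, hk'⟩

end main

end K612.FpMain
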