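import Groth.Agent.AlgSp.K612.FpStep
/-!
The functor `j_* j^*` for an open subspace, on sections.

-/

set_option autoImplicit false
universe v' u' u

set_option backward.isDefEq.respectTransparency false

open CategoryTheory CategoryTheory.Limits AlgebraicGeometry Opposite

namespace K612.FpOpn

open AlgSp K646.EtSite K606.AffSub K606.Part K606.UnionMod K612.FpV K612.FpPull K612.ResEt
  K612.FpGlue K612.FpStep

section opn

variable {S : Scheme.{u}} {X Y : Sp S} {j : Y ⟶ X} (hj : RepWith @IsOpenImmersion j)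
  (he : IsEtaleMor j)

omit he in
theorem snd_lift {f : Y ⟶ X} [Mono f] (hf : Representable f) {U : Over S} (a : (yon S).obj U ⟶ X)
    (g : (yon S).obj U ⟶ Y) (hw : g ≫ f = (yon S).map (𝟙 U) ≫ a) :
    hf.snd a ≫ hf.lift g (𝟙 U) hw = 𝟙 _ := by
  refine hf.hom_ext ?_ ?_
  · have h1 : (yon S).map (hf.snd a ≫ hf.lift g (𝟙 U) hw) ≫ hf.fst a = (yon S).map (hf.snd a) ≫ g := by
      rw [Functor.map_comp, Category.assoc, hf.lift_fst]
    rw [← cancel_mono f, h1, Category.assoc, hw, (yon S).map_id, Category.id_comp,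
      (yon S).map_id, Category.id_comp, hf.w]
  · rw [Category.assoc, hf.lift_snd, Category.comp_id, Category.id_comp]

include hj in
/-- The section of the counit over objects lying in the open subspace. -/
theorem exists_section {E : EtOver X} (hE : In (Set.range (Points.map j)) E) :
    ∃ σ : E ⟶ (EtOver.postcomp j he).obj ((EtOver.bc hj.1).obj E),
      σ ≫ adjCounit hj.1 he E = 𝟙 _ ∧ adjCounit hj.1 he E ≫ σ = 𝟙 _ := by
  have hmono := K610.Factor.mono_of_isOpenImmersion hj
  obtain ⟨g, hg⟩ := K606.ElemBridge.mem_range_of_In hj hE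
  have hw : g ≫ j = (yon S).map (𝟙 E.obj.left) ≫ E.obj.hom := by
    rw [(yon S).map_id, Category.id_comp, hg]
  have hl1 : (yon S).map (hj.1.lift g (𝟙 E.obj.left) hw) ≫ hj.1.fst E.obj.hom = g :=
    hj.1.lift_fst _ _ _
  have hl2 := hj.1.lift_snd g (𝟙 E.obj.left) hw
  have hl3 := snd_lift hj.1 E.obj.hom g hw
  have hl4 : (yon S).map (hj.1.lift g (𝟙 E.obj.left) hw) ≫ (hj.1.fst E.obj.hom ≫ j) = E.obj.hom := by
    rw [← Category.assoc, hl1, hg]
  exact ⟨EtOver.homMk _ hl4, EtOver.hom_ext _ _ hl2, EtOver.hom_ext _ _ hl3⟩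

theorem bijective_map_of_inv (M : ModEt X) {E E' : EtOver X} (c : E' ⟶ E) (σ : E ⟶ E')
    (h1 : σ ≫ c = 𝟙 _) (h2 : c ≫ σ = 𝟙 _) :
    Function.Bijective (M.val.presheaf.map c.op) := by
  constructor
  · intro x y hxy
    have h3 : M.val.presheaf.map σ.op (M.val.presheaf.map c.op x) =
        M.val.presheaf.map σ.op (M.val.presheaf.map c.op y) := by rw [hxy]
    rw [map_map, map_map, h1, K606.Part.map_id, K606.Part.map_id] at h3
    exact h3
  · intro y
    refine ⟨M.val.presheaf.map σ.op y, ?_⟩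
    rw [map_map, h2, K606.Part.map_id]

/-- `j_* j^*` for an open subspace. -/
noncomputable def Rm (hf : Representable j) (he' : IsEtaleMor j) : ModEt X ⥤ ModEt X :=
  resModEt he' ⋙ pushModEt hf

/-- The unit of the functor `j_* j^*`. -/
noncomputable def ηm (hf : Representable j) (he' : IsEtaleMor j) (M : ModEt X) : M ⟶ (Rm hf he').obj M :=
  (resAdj hf he').unit.app M

/-- The unit is bijective over the open subspace. -/
theorem unit_bijective (M : ModEt X) {E : EtOver X} (hE : In (Set.range (Points.map j)) E) :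
    Function.Bijective (lin (ηm hj.1 he M) E) := by
  obtain ⟨σ, h1, h2⟩ := exists_section hj he hE
  exact bijective_map_of_inv M (adjCounit hj.1 he E) σ h1 h2

theorem isQuasicoherent_Rm (hqc : IsQuasiCompactMor j) (hqs : IsQuasiSeparatedMor j) (M : ModEt X)
    [M.IsQuasicoherent] : ((Rm hj.1 he).obj M).IsQuasicoherent := by
  have h1 : ((resModEt he).obj M).IsQuasicoherent := isQuasicoherent_res he M
  exact K612.ModQcqs.isQuasicoherent_pushModEt_of_qcqs hj.1 hqc hqs _

/-- Sections of `j_* j^* M` over `V`. -/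
noncomputable def rho (hf : Representable j) (he' : IsEtaleMor j) {V : EtOver X} {V₀ : EtOver Y}
    (s : V₀ ⟶ (EtOver.bc hf).obj V) (M : ModEt X) :
    ((Rm hf he').obj M).val.presheaf.obj (op V) →+
      M.val.presheaf.obj (op ((EtOver.postcomp j he').obj V₀)) :=
  (M.val.presheaf.map ((EtOver.postcomp j he').map s).op).hom

theorem rho_nat (hf : Representable j) (he' : IsEtaleMor j) {V : EtOver X} {V₀ : EtOver Y}
    (s : V₀ ⟶ (EtOver.bc hf).obj V) {M N : ModEt X} (φ : M ⟶ N)
    (y : ((Rm hf he').obj M).val.presheaf.obj (op V)) :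
    lin φ _ (rho hf he' s M y) = rho hf he' s N (lin ((Rm hf he').map φ) V y) :=
  lin_map φ ((EtOver.postcomp j he').map s) y

theorem rho_unit (hf : Representable j) (he' : IsEtaleMor j) {V : EtOver X} {V₀ : EtOver Y}
    (s : V₀ ⟶ (EtOver.bc hf).obj V) {M : ModEt X} (m : M.val.presheaf.obj (op V)) :
    rho hf he' s M (lin (ηm hf he' M) V m) =
      M.val.presheaf.map ((EtOver.postcomp j he').map s ≫ adjCounit hf he' V).op m :=
  map_map (F := M) (adjCounit hf he' V) ((EtOver.postcomp j he').map s) m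

/-- Elements of `j_* j^* M` over `V` from two step coverings. -/
theorem rho_injective (hf : Representable j) (he' : IsEtaleMor j) {V : EtOver X} {V₀ V₁ : EtOver Y}
    {s : V₀ ⟶ (EtOver.bc hf).obj V} {b₀ b₁ : V₁ ⟶ V₀} (h : K612.QcqsSec.Cov2 (etTop Y) s b₀ b₁)
    (M : ModEt X) : Function.Injective (rho hf he' s M) :=
  h.injective ((resModEt he').obj M)

theorem rho_exact (hf : Representable j) (he' : IsEtaleMor j) {V : EtOver X} {V₀ V₁ : EtOver Y}
    {s : V₀ ⟶ (EtOver.bc hf).obj V} {b₀ b₁ : V₁ ⟶ V₀} (h : K612.QcqsSec.Cov2 (etTop Y) s b₀ b₁)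
    (M : ModEt X) (x : M.val.presheaf.obj (op ((EtOver.postcomp j he').obj V₀)))
    (hx : M.val.presheaf.map ((EtOver.postcomp j he').map b₀).op x =
      M.val.presheaf.map ((EtOver.postcomp j he').map b₁).op x) :
    ∃ y, rho hf he' s M y = x :=
  (h.exact ((resModEt he').obj M) x).1 hx

end opn

end K612.FpOpn
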