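import Groth.Agent.AlgSp.K612.PullOver
/-!
Quasi-coherence, finite type and finite presentation of the inverse image of a sheaf of modules, general sites.
-/

set_option autoImplicit false
universe w v₁ v₂ u₁ u₂ u

open CategoryTheory CategoryTheory.Limits Opposite

namespace K612.QcPull

open SheafOfModules K612.PullOver

variable {C : Type u₁} [Category.{v₁} C] {D : Type u₂} [Category.{v₂} D]
  [HasBinaryProducts C] [HasBinaryProducts D]
  {J : GrothendieckTopology C} {K : GrothendieckTopology D} {F : C ⥤ D}
  {S : Sheaf J RingCat.{u}} {R : Sheaf K RingCat.{u}}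
  [Functor.IsContinuous F J K]
  (φ : S ⟶ (F.sheafPushforwardContinuous RingCat.{u} J K).obj R)
  [∀ E, (Over.post (X := E) F).IsContinuous (J.over E) (K.over (F.obj E))]
  [∀ E c, PreservesLimit (pair E c) F]
  [(pushforward.{u} φ).IsRightAdjoint] [∀ E, (pushforward.{u} (ringOver φ E)).IsRightAdjoint]
  [∀ X, HasSheafify (J.over X) AddCommGrpCat.{u}]
  [∀ X, (J.over X).WEqualsLocallyBijective AddCommGrpCat.{u}]
  [∀ X, HasSheafify (K.over X) AddCommGrpCat.{u}]
  [∀ X, (K.over X).WEqualsLocallyBijective AddCommGrpCat.{u}]

/-- the inverse image of the structure sheaf of a slice. -/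
noncomputable def unitIso (E : C) :
    unit (R.over (F.obj E)) ≅ (pullback.{u} (ringOver φ E)).obj (unit (S.over E)) :=
  have := Post.final_post F E
  (asIso (pullbackObjUnitToUnit (ringOver φ E))).symm

variable {M : SheafOfModules.{u} S}

/-- presentations of the inverse image. -/
noncomputable def presentation (E : C) (P : (M.over E).Presentation) :
    (((pullback.{u} φ).obj M).over (F.obj E)).Presentation :=
  (P.map (pullback.{u} (ringOver φ E)) (unitIso φ E)).ofIsIso ((pullOverIso φ E).inv.app M)

instance presentation_isFinite (E : C) (P : (M.over E).Presentation) [P.IsFinite] :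
    (presentation φ E P).IsFinite where
  isFiniteType_generators :=
    ⟨inferInstanceAs (Finite P.generators.I)⟩
  isFiniteType_relations :=
    ⟨inferInstanceAs (Finite P.relations.I)⟩

/-- quasi-coherent data of the inverse image. -/
noncomputable def quasicoherentData (P : QuasicoherentData.{w} M)
    (h : K.CoversTop fun i => F.obj (P.X i)) : QuasicoherentData.{w} ((pullback.{u} φ).obj M) where
  I := P.I
  X i := F.obj (P.X i)
  coversTop := h
  presentation i := presentation φ (P.X i) (P.presentation i)

/-- generators of the inverse image. -/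
noncomputable def generators (E : C) (P : (M.over E).GeneratingSections) :
    (((pullback.{u} φ).obj M).over (F.obj E)).GeneratingSections :=
  (P.map (pullback.{u} (ringOver φ E)) (unitIso φ E)).ofEpi ((pullOverIso φ E).inv.app M)

/-- local generators of the inverse image. -/
noncomputable def localGeneratorsData (P : LocalGeneratorsData.{w} M)
    (h : K.CoversTop fun i => F.obj (P.X i)) : LocalGeneratorsData.{w} ((pullback.{u} φ).obj M) where
  I := P.I
  X i := F.obj (P.X i)
  coversTop := h
  generators i := generators φ (P.X i) (P.generators i)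

theorem isQuasicoherent_pullback [M.IsQuasicoherent]
    (h : ∀ (I : Type u₁) (X : I → C), J.CoversTop X → K.CoversTop fun i => F.obj (X i)) :
    ((pullback.{u} φ).obj M).IsQuasicoherent := by
  obtain ⟨P⟩ := IsQuasicoherent.nonempty_quasicoherentData (M := M)
  exact (quasicoherentData φ P (h _ _ P.coversTop)).isQuasicoherent

theorem isFinitePresentation_pullback [M.IsFinitePresentation]
    (h : ∀ (I : Type u₁) (X : I → C), J.CoversTop X → K.CoversTop fun i => F.obj (X i)) :
    ((pullback.{u} φ).obj M).IsFinitePresentation := by
  obtain ⟨P, hP⟩ := IsFinitePresentation.exists_quasicoherentData M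
  refine ⟨(quasicoherentData φ P (h _ _ P.coversTop)).shrink, ⟨fun i => ?_⟩⟩
  exact presentation_isFinite φ _ _

theorem isFiniteType_pullback [M.IsFiniteType]
    (h : ∀ (I : Type u₁) (X : I → C), J.CoversTop X → K.CoversTop fun i => F.obj (X i)) :
    ((pullback.{u} φ).obj M).IsFiniteType := by
  obtain ⟨P, hP⟩ := IsFiniteType.exists_localGeneratorsData M
  refine ⟨(localGeneratorsData φ P (h _ _ P.coversTop)).shrink, ⟨fun i => ⟨?_⟩⟩⟩
  have := hP.isFiniteType
  exact (this _).finite

end K612.QcPull
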