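import Groth.Agent.AlgSp.K612.BcProd
import Groth.Agent.AlgSp.K612.QcPull
import Groth.Agent.AlgSp.K612.PullEx
/-!
The inverse image of modules along a representable morphism preserves quasi-coherence, finite type and finite presentation.
-/

set_option autoImplicit false
universe v' u' u

set_option backward.isDefEq.respectTransparency false

open CategoryTheory CategoryTheory.Limits AlgebraicGeometry Opposite

namespace K612.PullQc

open AlgSp

variable {S : Scheme.{u}} {X Y : Sp S} {f : X ⟶ Y} (hf : Representable f)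

instance isContinuous_post_bc (E : EtOver Y) :
    (Over.post (X := E) (EtOver.bc hf)).IsContinuous ((etTop Y).over E)
      ((etTop X).over ((EtOver.bc hf).obj E)) :=
  Post.isContinuous_post' _ _ _ _

/-- base change preserves coverings of the final object. -/
theorem coversTop_bc {A : Over S} (p : (yon S).obj A ⟶ Y) (hp : RepWith @Etale p)
    (hp' : RepWith @Surjective p) {I : Type*} (Z : I → EtOver Y) (hZ : (etTop Y).CoversTop Z) :
    (etTop X).CoversTop fun i => (EtOver.bc hf).obj (Z i) := by
  let E : EtOver Y := EtOver.mk p hp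
  have h1 : (etTop X).CoversTop fun _ : PUnit.{1} => (EtOver.bc hf).obj E := by
    refine BcProd.coversTop_of_surjective _ ?_
    exact MorphismProperty.of_isPullback (P := RepWith @Surjective) (hf.isPullback p).flip hp'
  have h2 : Sieve.ofObjects (fun i => (EtOver.bc hf).obj (Z i)) ((EtOver.bc hf).obj E) ∈
      etTop X ((EtOver.bc hf).obj E) := by
    have h3 := (CoverPreserving.of_isContinuous (EtOver.bc hf) (etTop Y) (etTop X)).cover_preserve
      (hZ E)
    refine (etTop X).superset_covering ?_ h3
    rw [Sieve.functorPushforward_le_iff_le_functorPullback]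
    rintro W g ⟨i, ⟨k⟩⟩
    exact ⟨i, ⟨(EtOver.bc hf).map k⟩⟩
  intro V
  refine (etTop X).transitive (h1 V) _ ?_
  rintro W g ⟨_, ⟨k⟩⟩
  refine (etTop X).superset_covering ?_ ((etTop X).pullback_stable k h2)
  rintro W' g' ⟨i, ⟨k'⟩⟩
  exact ⟨i, ⟨k'⟩⟩

/-- The target is covered by a scheme. -/
def HasAtlas (Y : Sp S) : Prop :=
  ∃ (A : Over S) (p : (yon S).obj A ⟶ Y), RepWith @Etale p ∧ RepWith @Surjective p

theorem hasAtlas_of_isAlgSpace (h : IsAlgSpace Y) : HasAtlas Y := by
  obtain ⟨A, p, h1, h2⟩ := h.atlas
  exact ⟨A, p, h1, h2⟩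

variable (hY : HasAtlas Y)

include hY in
theorem isQuasicoherent_pullModEt (G : ModEt Y) [G.IsQuasicoherent] :
    ((pullModEt hf).obj G).IsQuasicoherent := by
  obtain ⟨A, p, h1, h2⟩ := hY
  exact QcPull.isQuasicoherent_pullback (bcRingHom hf) fun _ Z hZ => coversTop_bc hf p h1 h2 Z hZ

include hY in
theorem isFinitePresentation_pullModEt (G : ModEt Y) [G.IsFinitePresentation] :
    ((pullModEt hf).obj G).IsFinitePresentation := by
  obtain ⟨A, p, h1, h2⟩ := hY
  exact QcPull.isFinitePresentation_pullback (bcRingHom hf)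
    fun _ Z hZ => coversTop_bc hf p h1 h2 Z hZ

include hY in
theorem isFiniteType_pullModEt (G : ModEt Y) [G.IsFiniteType] :
    ((pullModEt hf).obj G).IsFiniteType := by
  obtain ⟨A, p, h1, h2⟩ := hY
  exact QcPull.isFiniteType_pullback (bcRingHom hf) fun _ Z hZ => coversTop_bc hf p h1 h2 Z hZ

end K612.PullQc
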