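import Groth.Agent.AlgSp.K612.PullLoc
/-!
Direct images of quasi-coherent modules along "affine" morphisms of sites over schemes.
-/

set_option autoImplicit false
set_option linter.unusedSectionVars false
universe w₁ w₂ v₁ v₂ u₁ u₂ u

open CategoryTheory CategoryTheory.Limits AlgebraicGeometry Opposite TensorProduct

namespace K612.PushSec

open Groth.Agent.Etbase.FFExact K644.Site K644.Psh K644.Alg K644.Colim K644.Exact K644.Free
  K644.Slice K644.Pres K644.Local SheafOfModules K612.PullSec K612.PullTerm K612.PullOver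
  K612.PullLoc

/-- Base change along pullback squares of affine schemes, in the form used for modules. -/
theorem isBC_of_isPullback {P U V W : Scheme.{u}} {a : P ⟶ V} {b : P ⟶ W} {f : V ⟶ U} {g : W ⟶ U}
    (sq : IsPullback a b f g) (hU : IsAffine U) (hV : IsAffine V)
    (hW : IsAffine W) {M M' : Type*} [AddCommGroup M] [AddCommGroup M']
    [Module Γ(W, ⊤) M] [Module Γ(P, ⊤) M'] [Module Γ(U, ⊤) M]
    [Module Γ(V, ⊤) M'] (hM : ∀ (r : Γ(U, ⊤)) (m : M), r • m = g.appTop.hom r • m)
    (hM' : ∀ (r : Γ(V, ⊤)) (m : M'), r • m = a.appTop.hom r • m) (ψ : M →+ M')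
    (h : IsBC b.appTop.hom ψ) : IsBC f.appTop.hom ψ := by
  have : IsAffine P := IsAffine.of_isIso sq.isoPullback.hom
  have hpo := isPushout_appTop_of_isPullback sq
  have comm : b.appTop.hom.comp g.appTop.hom = a.appTop.hom.comp f.appTop.hom :=
    (congrArg (fun z => z.hom) hpo.w).symm
  refine IsBC.of_isPushout g.appTop.hom f.appTop.hom b.appTop.hom a.appTop.hom comm ?_ _ hM hM' h
  let := g.appTop.hom.toAlgebra
  let := f.appTop.hom.toAlgebra
  let := b.appTop.hom.toAlgebra
  let := a.appTop.hom.toAlgebra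
  let := (b.appTop.hom.comp g.appTop.hom).toAlgebra
  have : IsScalarTower Γ(U, ⊤) Γ(W, ⊤) Γ(P, ⊤) := IsScalarTower.of_algebraMap_eq' rfl
  have : IsScalarTower Γ(U, ⊤) Γ(V, ⊤) Γ(P, ⊤) := IsScalarTower.of_algebraMap_eq' comm
  exact ((CommRingCat.isPushout_iff_isPushout (R := Γ(U, ⊤)) (R' := Γ(V, ⊤)) (S := Γ(W, ⊤))
    (S' := Γ(P, ⊤))).1 hpo)

variable {C : Type u₁} [Category.{v₁} C] {D : Type u₂} [Category.{v₂} D]
  {J : GrothendieckTopology C} {K : GrothendieckTopology D} {F : C ⥤ D}
  {TC : C ⥤ Scheme.{u}} {TD : D ⥤ Scheme.{u}}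
  {S : Sheaf J RingCat.{u + 1}} {R : Sheaf K RingCat.{u + 1}} [Str TC S.obj] [Str TD R.obj]
  [Functor.IsContinuous F J K]
  {φ : S ⟶ (F.sheafPushforwardContinuous RingCat.{u + 1} J K).obj R}
  (P : SchHom TC TD φ)

/-- The site level form of an affine morphism. -/
structure IsAff (P : SchHom TC TD φ) : Prop where
  aff : ∀ c : C, IsAffine (TC.obj c) → IsAffine (TD.obj (F.obj c))
  sq : ∀ {c' c : C} (g : c' ⟶ c), IsPullback (TD.map (F.map g)) (P.p.app c') (P.p.app c) (TC.map g)

include P in
/-- The scalar action on sections of a direct image. -/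
theorem push_smul (M : SheafOfModules.{u + 1} R) (c : C) (a : Γ(TC.obj c, ⊤))
    (m : sec ((pushforward φ).obj M) c) :
    a • m = (show sec ((pushforward φ).obj M) c from
      (show Γ(TD.obj (F.obj c), ⊤) from (P.p.app c).appTop.hom a) •
        (show sec M (F.obj c) from m)) := by
  have h := sm_smul P (𝟙 ((pushforward φ).obj M)) (𝟙 (F.obj c)) a m
  rw [sm_apply, sm_apply, res_id, res_id, P.θ_apply] at h
  refine h.trans ?_
  have h2 : (TD.map (𝟙 (F.obj c))).appTop.hom ((P.p.app c).appTop.hom a) =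
      (P.p.app c).appTop.hom a := by
    rw [TD.map_id, Scheme.Hom.id_appTop]
    rfl
  rw [h2]
  rfl

variable {P}

/-- Direct images of quasi-coherent modules along affine morphisms. -/
theorem isQC_pushforward (hP : IsAff P) {M : SheafOfModules.{u + 1} R} (hM : IsQC TD M.val) :
    IsQC TC ((pushforward φ).obj M).val := by
  intro V U g hV hU
  have hb := hM (F.map g) (hP.aff V hV) (hP.aff U hU)
  let _ : Module Γ(TC.obj U, ⊤) (sec M (F.obj U)) :=
    (inferInstance : Module Γ(TC.obj U, ⊤) (sec ((pushforward φ).obj M) U))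
  let _ : Module Γ(TC.obj V, ⊤) (sec M (F.obj V)) :=
    (inferInstance : Module Γ(TC.obj V, ⊤) (sec ((pushforward φ).obj M) V))
  exact isBC_of_isPullback (hP.sq g).flip hU hV (hP.aff U hU)
    (M := sec M (F.obj U)) (M' := sec M (F.obj V))
    (push_smul P M U) (push_smul P M V) _ hb

/-- The canonical maps from the sections of the direct image to the sections. -/
theorem isBC_push (hP : IsAff P) {M : SheafOfModules.{u + 1} R} (hM : IsQC TD M.val) {c : C}
    {V : D} (k : V ⟶ F.obj c) (hc : IsAffine (TC.obj c)) (hV : IsAffine (TD.obj V)) :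
    IsBC (TD.map k).appTop.hom (res M k) := hM k hV (hP.aff c hc)

section exact

variable [QCSite J TC] [HasPullbacks D] [PreservesLimitsOfShape WalkingCospan TD] [QCSite K TD]
  [HasWeakSheafify K AddCommGrpCat.{u + 1}] [K.WEqualsLocallyBijective AddCommGrpCat.{u + 1}]

/-- Direct images along affine morphisms are right exact on quasi-coherent modules. -/
theorem epi_pushforward (hP : IsAff P) {M N : SheafOfModules.{u + 1} R} (hM : IsQC TD M.val)
    (hN : IsQC TD N.val) (ψ : M ⟶ N) [Epi ψ] : Epi ((pushforward φ).map ψ) :=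
  epi_of_affine (T := TC) _ fun U hU => surjective_of_epi (T := TD) hM hN ψ (F.obj U) (hP.aff U hU)

end exact

end K612.PushSec
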