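import Groth.Agent.AlgSp.K644.Chart
import Groth.Agent.AlgSp.K643.PushEt
import Groth.Agent.AlgSp.K612.PushSec
import Groth.Agent.AlgSp.K612.PullQc
import Groth.Agent.AlgSp.K612.ResEt
/-!
Direct and inverse images of quasi-coherent modules along representable morphisms of spaces, on affine objects.
-/

set_option autoImplicit false
set_option linter.unusedSectionVars false
universe v' u' u

set_option backward.isDefEq.respectTransparency false

open CategoryTheory CategoryTheory.Limits AlgebraicGeometry Opposite

namespace K612.ModPush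

open AlgSp Groth.Agent.Etbase.FFExact K644.Site K644.Psh K644.Alg K644.Colim K644.Exact K644.Free
  K644.Slice K644.Pres K644.Local K644.Chart K612.PullSec K612.PullTerm K612.PullOver K612.PullLoc
  K612.PushSec

variable {S : Scheme.{u}} {X Y : Sp S} {f : X ⟶ Y} (hf : Representable f)

/-- The projections `V ×_Y X ⟶ V`. -/
noncomputable def schHom : SchHom (EtOver.toScheme Y) (EtOver.toScheme X) (bcRingHom hf) where
  p :=
    { app := fun E => (hf.snd E.obj.hom).left
      naturality := fun _ _ g => congrArg (fun k => k.left) (EtOver.bcMap_snd hf g) }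
  compat _ _ := rfl

theorem schHom_p_app (E : EtOver Y) : (schHom hf).p.app E = (EtOver.bcπ hf E).left := rfl

/-- The pullback of functions along `E ×_Y X ⟶ E`. -/
noncomputable def πR (E : EtOver Y) :
    Γ(E.obj.left.left, ⊤) →+* Γ(((EtOver.bc hf).obj E).obj.left.left, ⊤) :=
  (EtOver.bcπ hf E).left.appTop.hom

theorem θ_eq_comp {E : EtOver Y} {V : EtOver X} (k : V ⟶ (EtOver.bc hf).obj E) :
    (schHom hf).θ k = k.hom.left.left.appTop.hom.comp (πR hf E) :=
  RingHom.ext fun a => (schHom hf).θ_apply k a

theorem θ_id (E : EtOver Y) : (schHom hf).θ (𝟙 ((EtOver.bc hf).obj E)) = πR hf E := by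
  refine RingHom.ext fun a => ?_
  rw [SchHom.θ_apply, (EtOver.toScheme X).map_id, Scheme.Hom.id_appTop]
  rfl

/-- The ring map attached to `V ⟶ E ×_Y X`. -/
theorem schHom_θ {E : EtOver Y} {V : EtOver X} (k : V ⟶ (EtOver.bc hf).obj E) :
    (schHom hf).θ k = (k.hom.left.left ≫ (EtOver.bcπ hf E).left).appTop.hom := rfl

theorem isAff_of (h : ∀ E : EtOver Y, IsAffine E.obj.left.left →
    IsAffine ((EtOver.bc hf).obj E).obj.left.left) : IsAff (schHom hf) where
  aff := h
  sq g := EtOver.isPullback_bcMap_left hf g

theorem isAff_of_isAffineMor (h : IsAffineMor f) : IsAff (schHom hf) :=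
  isAff_of hf fun E hE => K643.PushEt.isAffine_bcObj hf h E hE

theorem isAff_of_repWith (h : RepWith @IsAffineHom f) : IsAff (schHom hf) :=
  isAff_of hf fun E hE => by
    have h1 : IsAffineHom (EtOver.bcπ hf E).left := h.2 _ _ _ (hf.isPullback E.obj.hom)
    exact isAffine_of_isAffineHom (EtOver.bcπ hf E).left

variable {hf}

/-- Direct images of quasi-coherent modules along affine morphisms are quasi-coherent. -/
theorem isQuasicoherent_pushModEt (hP : IsAff (schHom hf)) (M : ModEt X) [M.IsQuasicoherent] :
    ((pushModEt hf).obj M).IsQuasicoherent :=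
  (K644.QCoh.isQuasicoherent_iff (EtOver.toScheme Y) _).2 (isQC_pushforward hP (isQC M))

theorem epi_pushModEt (hP : IsAff (schHom hf)) {M N : ModEt X} [M.IsQuasicoherent]
    [N.IsQuasicoherent] (ψ : M ⟶ N) [Epi ψ] : Epi ((pushModEt hf).map ψ) :=
  epi_pushforward hP (isQC M) (isQC N) ψ

/-- The scalar action on sections of a direct image. -/
theorem push_smul (M : ModEt X) (E : EtOver Y) (a : Γ(E.obj.left.left, ⊤))
    (m : ((pushModEt hf).obj M).val.presheaf.obj (op E)) :
    a • m = (show ((pushModEt hf).obj M).val.presheaf.obj (op E) from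
      πR hf E a •
        (show M.val.presheaf.obj (op ((EtOver.bc hf).obj E)) from m)) :=
  PushSec.push_smul (schHom hf) M E a m

variable (hf)
variable [(SheafOfModules.pushforward.{u + 1} (bcRingHom hf)).IsRightAdjoint]

/-- Sections of the inverse image of a quasi-coherent module over affine objects. -/
theorem isBC_un_modEt (N : ModEt Y) [N.IsQuasicoherent] {E : EtOver Y} {V : EtOver X}
    (k : V ⟶ (EtOver.bc hf).obj E) (hE : IsAffine E.obj.left.left) (hV : IsAffine V.obj.left.left) :
    IsBC ((schHom hf).θ k) (sm (un (bcRingHom hf) N) k) :=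
  isBC_un (schHom hf) N (isQC N) k hE hV

end K612.ModPush
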