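import Groth.Agent.AlgSp.K612.FpV
import Groth.Agent.AlgSp.K612.ModQcqs
import Groth.Agent.AlgSp.K612.ResEt
/-!
Fibre products of quasi-coherent modules and the step over an elementary square.
-/

set_option autoImplicit false
universe u

set_option backward.isDefEq.respectTransparency false

open CategoryTheory CategoryTheory.Limits AlgebraicGeometry Opposite

namespace K612.FpPull

open AlgSp K646.EtSite K606.AffSub K606.Part K606.UnionMod K612.FpV

variable {S : Scheme.{u}} {X : Sp S}

/-- Fibre products of quasi-coherent modules, with their sections. -/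
theorem exists_pullback {A B C : ModEt X} [A.IsQuasicoherent] [B.IsQuasicoherent]
    [C.IsQuasicoherent] (a : A ⟶ C) (b : B ⟶ C) :
    ∃ (P : ModEt X) (p : P ⟶ A) (q : P ⟶ B), P.IsQuasicoherent ∧ p ≫ a = q ≫ b ∧
      (∀ (E : EtOver X) (z : P.val.presheaf.obj (op E)), lin p E z = 0 → lin q E z = 0 → z = 0) ∧
      ∀ (E : EtOver X) (x : A.val.presheaf.obj (op E)) (y : B.val.presheaf.obj (op E)),
        lin a E x = lin b E y → ∃ z, lin p E z = x ∧ lin q E z = y := by
  have hAB : (A ⊞ B).IsQuasicoherent := by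
    refine (K644.QCoh.isQuasicoherent_iff (EtOver.toScheme X) _).2
      (K644.Colim.isQC_of_isColimit (BinaryBiproduct.isColimit A B) ?_)
    rintro ⟨_ | _⟩
    · exact K644.Chart.isQC A
    · exact K644.Chart.isQC B
  let φ : A ⊞ B ⟶ C := biprod.fst ≫ a - biprod.snd ≫ b
  have hφ : kernel.ι φ ≫ biprod.fst ≫ a = kernel.ι φ ≫ biprod.snd ≫ b := by
    rw [← sub_eq_zero, ← Preadditive.comp_sub]
    exact kernel.condition φ
  have hdec : ∀ (E : EtOver X) (z : (A ⊞ B).val.presheaf.obj (op E)),
      z = lin biprod.inl E (lin biprod.fst E z) + lin biprod.inr E (lin biprod.snd E z) := by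
    intro E z
    have h : lin (𝟙 (A ⊞ B)) E z = lin (biprod.fst ≫ biprod.inl + biprod.snd ≫ biprod.inr) E z := by
      rw [biprod.total]
    exact h
  refine ⟨kernel φ, kernel.ι φ ≫ biprod.fst, kernel.ι φ ≫ biprod.snd, inferInstance, ?_, ?_, ?_⟩
  · rw [Category.assoc, Category.assoc, hφ]
  · intro E z h1 h2
    apply (kernel_exact φ E).1
    rw [map_zero, hdec E (lin (kernel.ι φ) E z)]
    rw [lin_comp] at h1 h2
    rw [h1, h2, map_zero, map_zero, add_zero]
  · intro E x y hxy
    let w : (A ⊞ B).val.presheaf.obj (op E) := lin biprod.inl E x + lin biprod.inr E y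
    have hw1 : lin biprod.fst E w = x := by
      rw [map_add, ← lin_comp, ← lin_comp, biprod.inl_fst, biprod.inr_fst]
      exact add_zero x
    have hw2 : lin biprod.snd E w = y := by
      rw [map_add, ← lin_comp, ← lin_comp, biprod.inl_snd, biprod.inr_snd]
      exact zero_add y
    have hw : lin φ E w = 0 := by
      have : lin φ E w = lin a E (lin biprod.fst E w) - lin b E (lin biprod.snd E w) := rfl
      rw [this, hw1, hw2, hxy, sub_self]
    obtain ⟨z, hz⟩ := ((kernel_exact φ E).2 w).1 hw
    exact ⟨z, by rw [lin_comp, hz, hw1], by rw [lin_comp, hz, hw2]⟩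

end K612.FpPull
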