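import Groth.Agent.AlgSp.K612.FpGlue
/-!
The step over an elementary square: finite presentation over a larger open part.
-/

set_option autoImplicit false
universe v' u' u

set_option backward.isDefEq.respectTransparency false

open CategoryTheory CategoryTheory.Limits AlgebraicGeometry Opposite

namespace K612.FpStep

open AlgSp K646.EtSite K606.AffSub K606.Part K606.UnionMod K612.FpV K612.FpPull K612.ResEt
  K612.FpGlue

section basics

variable {S : Scheme.{u}} {X : Sp S}

/-- The terminal object of the small étale site of a scheme. -/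
noncomputable def term (U : Over S) : EtOver ((yon S).obj U) := EtOver.mk (𝟙 _) (repWith_id _ _)

noncomputable def termIs (U : Over S) : IsTerminal (term U) :=
  IsTerminal.ofUniqueHom (fun E => EtOver.homMk ((yon S).preimage E.obj.hom) (by
      rw [(yon S).map_preimage]; exact Category.comp_id _)) (fun E m => by
    refine EtOver.hom_ext _ _ ?_
    apply (yon S).map_injective
    have h1 : (yon S).map m.hom.left ≫ 𝟙 _ = E.obj.hom := EtOver.w m
    rw [Category.comp_id] at h1
    refine h1.trans ?_
    exact ((yon S).map_preimage _).symm)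

theorem isQuasicoherent_res {Y : Sp S} {f : X ⟶ Y} (he : IsEtaleMor f) (N : ModEt Y)
    [N.IsQuasicoherent] : ((resModEt he).obj N).IsQuasicoherent :=
  (K606.QcSub.isQuasicoherent_iff _).2 fun {_ _} g h1 h2 =>
    K606.QcSub.bcaff N ((EtOver.postcomp f he).map g) h1 h2

theorem fp_of_map {P : ModEt X} [P.IsQuasicoherent] {Z Z' : EtOver X} (g : Z ⟶ Z')
    (hZ : IsAffine Z.obj.left.left) (hZ' : IsAffine Z'.obj.left.left)
    (h : Module.FinitePresentation Γ(Z'.obj.left.left, ⊤) (P.val.presheaf.obj (op Z'))) :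
    Module.FinitePresentation Γ(Z.obj.left.left, ⊤) (P.val.presheaf.obj (op Z)) :=
  K644.FinAlg.fp_of_bc (K644.Chart.isBC_of_isQuasicoherent P g hZ' hZ)

/-- Surjectivity over an affine object can be tested étale locally. -/
theorem surjective_of_local {P N : ModEt X} [P.IsQuasicoherent] [N.IsQuasicoherent] (p : P ⟶ N)
    (E : EtOver X) (hE : IsAffine E.obj.left.left)
    (h : ∀ x : K646.EtSite.sch E, ∃ (E' : EtOver X) (g : E' ⟶ E), IsAffine E'.obj.left.left ∧
      x ∈ Set.range (K646.EtSite.mor g) ∧ Function.Surjective (lin p E')) :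
    Function.Surjective (lin p E) := by
  intro s
  have h1 : s ∈ LinearMap.range (lin p E) := by
    refine mem_of_local_span (K606.QcSub.bcaff N) E hE _ s fun x => ?_
    obtain ⟨E', g, hE', hx, hs⟩ := h x
    refine ⟨E', g, hE', hx, ?_⟩
    refine (ofHom p (K606.QcSub.bcaff P)).le_ext g hE hE' (fun _ => trivial) ?_
    exact hs _
  exact h1

theorem surjective_of_map {P N : ModEt X} [P.IsQuasicoherent] [N.IsQuasicoherent] (p : P ⟶ N)
    {Z Z' : EtOver X} (g : Z ⟶ Z')
    (hZ : IsAffine Z.obj.left.left) (hZ' : IsAffine Z'.obj.left.left)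
    (h : Function.Surjective (lin p Z')) : Function.Surjective (lin p Z) := by
  intro s
  have h1 : s ∈ LinearMap.range (lin p Z) := by
    have h2 : s ∈ ext g (⊤ : Submodule Γ(Z'.obj.left.left, ⊤) (N.val.presheaf.obj (op Z'))) :=
      mem_ext_top (K606.QcSub.bcaff N) g hZ' hZ s
    refine ext_le g _ (fun t _ => ?_) h2
    obtain ⟨t, rfl⟩ := h t
    exact ⟨P.val.presheaf.map g.op t, lin_map p g t⟩
  exact h1

end basics

section step

variable {S : Scheme.{u}} [QuasiSeparatedSpace ↥S] {X : Space S} (hXs : IsQuasiSeparatedSp X.obj)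
  {T₂ : Set (Points X.obj)} {W : AlgSp.Space S} {jW : W ⟶ X}
  (hjW : AlgSp.RepWith @IsOpenImmersion jW.hom) (hWc : AlgSp.IsQuasiCompactSp W.obj)
  (V : EtOver X.obj) (hV : IsAffine V.obj.left.left)
  (hel : K606.ExtStep.Elem (Set.range (Points.map jW.hom)) T₂ V)
  (N : ModEt X.obj) [N.IsQuasicoherent] [N.IsFiniteType]
  (hN : FPOn (Set.range (Points.map jW.hom)) N)

include hXs hjW hWc hV hN

/-- The module on the chart. -/
theorem exists_chart_module : ∃ (PV : ModEt ((yon S).obj V.obj.left))
    (α : PV ⟶ (resModEt (isEtaleMor_of_repWith _ V.property)).obj N), PV.IsQuasicoherent ∧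
      FPOn Set.univ PV ∧ SurjOn Set.univ α ∧
      ∀ Z' : EtOver ((yon S).obj V.obj.left), IsAffine Z'.obj.left.left →
        In (Set.range (Points.map jW.hom))
          ((EtOver.postcomp V.obj.hom (isEtaleMor_of_repWith _ V.property)).obj Z') →
        Function.Bijective (lin α Z') := by
  let he := isEtaleMor_of_repWith _ V.property
  let V₀ : Space S := ⟨(yon S).obj V.obj.left, IsAlgSpace.yon_obj _⟩
  let L : ModEt V₀.obj := (resModEt he).obj N
  have hL : L.IsQuasicoherent := isQuasicoherent_res he N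
  have hVc : CompactSpace ↥V.obj.left.left := by
    have := hV
    infer_instance
  have hV₀c : IsQuasiCompactSp V₀.obj := K596.QC.isQuasiCompactSp_yon V.obj.left
  have hV₀s : IsQuasiSeparatedSp V₀.obj := by
    refine (repWith_diag_yon_iff _ _).2 ?_
    have := hV
    have : QuasiSeparated V.obj.left.hom := inferInstance
    exact QuasiSeparated.quasiCompact_diagonal
  obtain ⟨R, c, z, sq⟩ := hjW.1 V.obj.hom
  have hc : IsOpenImmersion c.left := hjW.2 _ z c sq
  have hqc := K596.QC2.isQuasiCompactMor_of_qc_of_qs W.property X.property jW.hom hWc hXs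
  have hR : IsQuasiCompactSp ((yon S).obj R) := hqc (IsAlgSpace.yon_obj _) hV₀c _ _ _ sq
  let W' : Space S := ⟨(yon S).obj R, IsAlgSpace.yon_obj _⟩
  let jW' : W' ⟶ V₀ := ObjectProperty.homMk ((yon S).map c)
  have hjW' : RepWith @IsOpenImmersion jW'.hom := (repWith_yon_map_iff _ _).2 hc
  have hLfp : FPOn (Set.range (Points.map jW'.hom)) L := by
    intro E hE hT
    refine hN ((EtOver.postcomp V.obj.hom he).obj E) hE fun x => ?_
    obtain ⟨w, hw⟩ := hT x
    refine ⟨Points.map z w, ?_⟩
    rw [← Points.map_comp, sq.w, Points.map_comp]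
    have h1 : Points.map ((yon S).map c) w = Points.ofPt E.obj.hom x := hw
    rw [h1]
    exact (K610.Base.ofPt_comp _ _ _).symm
  have ht : Module.Finite Γ((term V.obj.left).obj.left.left, ⊤)
      (L.val.presheaf.obj (op (term V.obj.left))) :=
    K644.ChartFin.finite_sec N (E := (EtOver.postcomp V.obj.hom he).obj (term V.obj.left)) hV
  have ht' : Module.Finite Γ((EtOver.toScheme V₀.obj).obj (term V.obj.left), ⊤)
      (K644.Exact.sec L (term V.obj.left)) := ht
  obtain ⟨σ, hσ⟩ := K644.Pres.exists_generating (T := EtOver.toScheme V₀.obj) (termIs V.obj.left)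
    hV (K644.Chart.isQC L)
  obtain ⟨PV, α, h1, h2, h3, h4⟩ := exists_fp_of_generated hV₀c hV₀s L σ hσ W' jW' hjW' hR hLfp
  refine ⟨PV, α, h1, h2, h3, fun Z' hZ' hT => ⟨h4 Z' hZ' fun x => ?_, h3 Z' hZ' fun _ => trivial⟩⟩
  obtain ⟨w, hw⟩ := hT x
  have h5 : Points.map jW.hom w = Points.map V.obj.hom (Points.ofPt Z'.obj.hom x) := hw
  obtain ⟨y, -, hy⟩ := K610.Base.exists_of_isPullback sq w _ h5
  exact ⟨y, hy⟩

include hel in
/-- Finite presentation can be extended over an elementary square. -/
theorem exists_fp_step : ∃ (P : ModEt X.obj) (p : P ⟶ N), P.IsQuasicoherent ∧ FPOn T₂ P ∧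
    SurjOn T₂ p ∧ InjOn (Set.range (Points.map jW.hom)) p ∧
    SurjOn (Set.range (Points.map jW.hom)) p := by
  obtain ⟨PV, α, hPV, hPVfp, hαs, hα⟩ := exists_chart_module hXs hjW hWc V hV N hN
  let he := isEtaleMor_of_repWith _ V.property
  let hf : Representable V.obj.hom := V.property.1
  have hL : ((resModEt he).obj N).IsQuasicoherent := isQuasicoherent_res he N
  have hVc : CompactSpace ↥V.obj.left.left := by
    have := hV
    infer_instance
  have hV₀c : IsQuasiCompactSp ((yon S).obj V.obj.left) := K596.QC.isQuasiCompactSp_yon V.obj.left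
  have hV₀s : IsQuasiSeparatedSp ((yon S).obj V.obj.left) := by
    refine (repWith_diag_yon_iff _ _).2 ?_
    have := hV
    have : QuasiSeparated V.obj.left.hom := inferInstance
    exact QuasiSeparated.quasiCompact_diagonal
  have hqc : IsQuasiCompactMor V.obj.hom :=
    K596.QC2.isQuasiCompactMor_of_qc_of_qs (IsAlgSpace.yon_obj _) X.property _ hV₀c hXs
  have hqs : IsQuasiSeparatedMor V.obj.hom := K613.Diag.repWith_diagonal_of_diag hV₀s _
  have hB1 : ((pushModEt hf).obj PV).IsQuasicoherent :=
    K612.ModQcqs.isQuasicoherent_pushModEt_of_qcqs hf hqc hqs PV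
  have hB2 : ((pushModEt hf).obj ((resModEt he).obj N)).IsQuasicoherent :=
    K612.ModQcqs.isQuasicoherent_pushModEt_of_qcqs hf hqc hqs _
  obtain ⟨P, p, q, hP, hpq, h0, h1⟩ := exists_pullback (A := N) (B := (pushModEt hf).obj PV)
    (C := (pushModEt hf).obj ((resModEt he).obj N)) ((resAdj hf he).unit.app N)
    ((pushModEt hf).map α)
  -- over the open part
  have hT₁ : ∀ (E : EtOver X.obj), IsAffine E.obj.left.left →
      In (Set.range (Points.map jW.hom)) E → Function.Bijective (lin p E) := by
    intro E hE hT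
    have hb : Function.Bijective (lin α ((EtOver.bc hf).obj E)) :=
      bij_all he α hα _ (hT.down (adjCounit hf he E))
    constructor
    · rw [injective_iff_map_eq_zero]
      intro z hz
      refine h0 E z hz ?_
      apply hb.1
      rw [key1 hf he α p q hpq, hz, map_zero]
      exact (map_zero (lin α ((EtOver.bc hf).obj E))).symm
    · intro x
      obtain ⟨y, hy⟩ := hb.2 (lin ((resAdj hf he).unit.app N) E x)
      obtain ⟨z, hz, -⟩ := h1 E x y hy.symm
      exact ⟨z, hz⟩
  -- over the chart
  have hch : ∀ (E' : EtOver ((yon S).obj V.obj.left)), IsAffine E'.obj.left.left →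
      Module.FinitePresentation Γ(((EtOver.postcomp V.obj.hom he).obj E').obj.left.left, ⊤)
        (P.val.presheaf.obj (op ((EtOver.postcomp V.obj.hom he).obj E'))) ∧
      Function.Surjective (lin p ((EtOver.postcomp V.obj.hom he).obj E')) := by
    intro E' hE'
    have hb := bijective_zt hf he α p q hpq h0 h1 V.property hel hα E'
    constructor
    · have h2 := hPVfp E' hE' fun _ => trivial
      have h3 : Module.FinitePresentation Γ(E'.obj.left.left, ⊤)
          (((resModEt he).obj P).val.presheaf.obj (op E')) :=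
        Module.FinitePresentation.of_equiv (LinearEquiv.ofBijective (lin (zt hf he q) E') hb).symm
      exact h3
    · intro x
      obtain ⟨y, hy⟩ := hαs E' hE' (fun _ => trivial) x
      obtain ⟨z, hz⟩ := hb.2 y
      refine ⟨z, ?_⟩
      rw [← key2 hf he α p q hpq, hz, hy]
  have hcase : ∀ (Z : EtOver X.obj), IsAffine Z.obj.left.left →
      (In (Set.range (Points.map jW.hom)) Z ∨ Nonempty (Z ⟶ V)) →
      Module.FinitePresentation Γ(Z.obj.left.left, ⊤) (P.val.presheaf.obj (op Z)) ∧
        Function.Surjective (lin p Z) := by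
    rintro Z hZ (hT | ⟨⟨k⟩⟩)
    · have h2 := hN Z hZ hT
      exact ⟨Module.FinitePresentation.of_equiv
        (LinearEquiv.ofBijective (lin p Z) (hT₁ Z hZ hT)).symm, (hT₁ Z hZ hT).2⟩
    · have h2 := hch (toCh k) hZ
      exact ⟨fp_of_map (toChHom he k) hZ hZ h2.1, surjective_of_map p (toChHom he k) hZ hZ h2.2⟩
  refine ⟨P, p, hP, ?_, ?_, fun E hE hT => (hT₁ E hE hT).1, fun E hE hT => (hT₁ E hE hT).2⟩
  · intro E hE hT
    let R : Sieve E :=
      { arrows := fun Z _ => In (Set.range (Points.map jW.hom)) Z ∨ Nonempty (Z ⟶ V)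
        downward_closed := by
          rintro Z Z' g (hg | ⟨⟨k⟩⟩) h
          · exact Or.inl (hg.down h)
          · exact Or.inr ⟨h ≫ k⟩ }
    have hR : R ∈ etTop X.obj E := by
      rw [Et.mem_etTop_iff]
      intro x
      obtain ⟨E', g, hx, hg⟩ := hel.cov E hT x
      exact ⟨E', g, hg, hx⟩
    exact K644.Fin.fp_descend (T := EtOver.toScheme X.obj) (K644.Chart.isQC P) hE hR
      fun Z g hg hZ => (hcase Z hZ hg).1
  · intro E hE hT
    refine surjective_of_local p E hE fun x => ?_
    obtain ⟨E', g, hx, hg⟩ := hel.cov E hT x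
    obtain ⟨E'', k, hE'', hx'⟩ := K606.ExtStep.exists_affine_refine g hx
    refine ⟨E'', k ≫ g, hE'', hx', (hcase E'' hE'' ?_).2⟩
    rcases hg with hg | ⟨⟨l⟩⟩
    · exact Or.inl (hg.down k)
    · exact Or.inr ⟨k ≫ l⟩

end step

end K612.FpStep
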