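import Groth.Agent.AlgSp.K606.QCMain
import Groth.Agent.AlgSp.K644.ChartFin
/-!
Finitely presented modules over an open part: the affine case.
-/

set_option autoImplicit false
universe u

open CategoryTheory CategoryTheory.Limits AlgebraicGeometry Opposite

namespace K612.FpV

open AlgSp K646.EtSite K606.AffSub K606.Part K606.UnionMod Groth.Agent.Etbase.FFExact

section defs

variable {S : Scheme.{u}} {X : Sp S}

/-- Finite presentation over the objects over `T`. -/
def FPOn (T : Set (Points X)) (P : ModEt X) : Prop :=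
  ∀ E : EtOver X, IsAffine E.obj.left.left → In T E →
    Module.FinitePresentation Γ(E.obj.left.left, ⊤) (P.val.presheaf.obj (op E))

/-- Surjectivity over the affine objects over `T`. -/
def SurjOn (T : Set (Points X)) {P M : ModEt X} (φ : P ⟶ M) : Prop :=
  ∀ E : EtOver X, IsAffine E.obj.left.left → In T E → Function.Surjective (lin φ E)

/-- Injectivity over the affine objects over `T`. -/
def InjOn (T : Set (Points X)) {P M : ModEt X} (φ : P ⟶ M) : Prop :=
  ∀ E : EtOver X, IsAffine E.obj.left.left → In T E → Function.Injective (lin φ E)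

/-- The family of all sections. -/
noncomputable def top {F : ModEt X} (hF : BCaff F) (T : Set (Points X)) : PSub F T where
  sub _ _ := ⊤
  map_mem _ _ _ _ _ _ := trivial
  le_ext g hE hE' _ := fun s _ => mem_ext_top hF g hE hE' s

theorem lin_eq_smap {P M : ModEt X} (φ : P ⟶ M) (E : EtOver X) (s : P.val.presheaf.obj (op E)) :
    lin φ E s = K644.Exact.smap (EtOver.toScheme X) φ E s := rfl

variable {F G : ModEt X} [F.IsQuasicoherent] [G.IsQuasicoherent]

instance isQuasicoherent_kernel (φ : F ⟶ G) : (kernel φ).IsQuasicoherent :=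
  (K644.QCoh.isQuasicoherent_iff (EtOver.toScheme X) _).2
    (K644.Exact.isQC_kernel (K644.Chart.isQC F) (K644.Chart.isQC G) (kernel.ι φ) φ
      (kernel.condition _) (kernelIsKernel φ))

instance isQuasicoherent_cokernel (φ : F ⟶ G) : (cokernel φ).IsQuasicoherent :=
  (K644.QCoh.isQuasicoherent_iff (EtOver.toScheme X) _).2
    (K644.Exact.isQC_cokernel (K644.Chart.isQC F) (K644.Chart.isQC G) φ (cokernel.π φ)
      (cokernel.condition _) (cokernelIsCokernel φ))

omit [F.IsQuasicoherent] [G.IsQuasicoherent] in
theorem kernel_exact (φ : F ⟶ G) (E : EtOver X) :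
    Function.Injective (lin (kernel.ι φ) E) ∧ Function.Exact (lin (kernel.ι φ) E) (lin φ E) :=
  K644.Exact.exact_kernel (T := EtOver.toScheme X) (kernel.ι φ) φ (kernel.condition _)
    (kernelIsKernel φ) E

theorem cokernel_exact (φ : F ⟶ G) (E : EtOver X) (hE : IsAffine E.obj.left.left) :
    Function.Exact (lin φ E) (lin (cokernel.π φ) E) ∧ Function.Surjective (lin (cokernel.π φ) E) :=
  K644.Exact.exact_cokernel (T := EtOver.toScheme X) (K644.Chart.isQC F) (K644.Chart.isQC G) φ
    (cokernel.π φ) (cokernel.condition _) (cokernelIsCokernel φ) E hE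

end defs

section main

variable {S : Scheme.{u}} [QuasiSeparatedSpace ↥S] {X : Space S}
  (hXc : IsQuasiCompactSp X.obj) (hXs : IsQuasiSeparatedSp X.obj)

include hXc hXs

/-- A quasi-coherent module of finite type which is finitely presented over an open part is,
if it is a quotient of a finite free module, a quotient of a finitely presented module
which agrees with it over the open part. -/
theorem exists_fp_of_generated (L : ModEt X.obj) [L.IsQuasicoherent] (σ : L.GeneratingSections)
    (hσ : σ.IsFiniteType) (W : AlgSp.Space S) (jW : W ⟶ X)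
    (hjW : AlgSp.RepWith @IsOpenImmersion jW.hom) (hWc : AlgSp.IsQuasiCompactSp W.obj)
    (hL : FPOn (Set.range (Points.map jW.hom)) L) :
    ∃ (P : ModEt X.obj) (α : P ⟶ L), P.IsQuasicoherent ∧ FPOn Set.univ P ∧ SurjOn Set.univ α ∧
      InjOn (Set.range (Points.map jW.hom)) α := by
  have hfree : (SheafOfModules.free (R := OEtRing X.obj) σ.I).IsQuasicoherent :=
    (K644.QCoh.isQuasicoherent_iff (EtOver.toScheme X.obj) _).2 (K644.Free.isQC_free _ _)
  have hfin : Finite σ.I := hσ.1
  let K := kernel σ.π
  have hK : K.IsQuasicoherent := inferInstance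
  have hsurj : ∀ E : EtOver X.obj, IsAffine E.obj.left.left →
      Function.Surjective (lin σ.π E) := fun E hE =>
    K644.Exact.surjective_of_epi (T := EtOver.toScheme X.obj) (K644.Chart.isQC _)
      (K644.Chart.isQC L) σ.π E hE
  have hfreefp : ∀ E : EtOver X.obj, IsAffine E.obj.left.left →
      Module.FinitePresentation Γ(E.obj.left.left, ⊤)
        ((SheafOfModules.free (R := OEtRing X.obj) σ.I).val.presheaf.obj (op E)) := fun E hE =>
    K644.Pres.finite_free (T := EtOver.toScheme X.obj) σ.I E hE
  -- the kernel is finitely generated over the open part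
  have hfg : (top (K606.QcSub.bcaff K) (Set.range (Points.map jW.hom))).FG := by
    intro E hE hT
    have h1 := hL E hE hT
    have h2 := hfreefp E hE
    have h3 := Module.FinitePresentation.fg_ker (lin σ.π E) (hsurj E hE)
    have h4 := kernel_exact σ.π E
    rw [h4.2.linearMap_ker_eq] at h3
    have : Module.Finite Γ(E.obj.left.left, ⊤) (LinearMap.range (lin (kernel.ι σ.π) E)) :=
      Module.Finite.iff_fg.2 h3
    have : Module.Finite Γ(E.obj.left.left, ⊤) (K.val.presheaf.obj (op E)) :=
      Module.Finite.equiv (LinearEquiv.ofInjective (lin (kernel.ι σ.π) E) h4.1).symm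
    exact this.fg_top
  obtain ⟨N', hN', h5⟩ := K606.QCMain.exists_ext hXc hXs (K606.QcSub.bcaff K) W jW hjW hWc _ hfg
  obtain ⟨K', ι, hι, hK', hr, hft⟩ := exists_module N'
  have := hft hN'
  let ψ : K' ⟶ SheafOfModules.free σ.I := ι ≫ kernel.ι σ.π
  have hψ : ψ ≫ σ.π = 0 := by rw [Category.assoc, kernel.condition, comp_zero]
  refine ⟨cokernel ψ, cokernel.desc ψ σ.π hψ, inferInstance, ?_, ?_, ?_⟩
  · intro E hE _
    have h1 := cokernel_exact ψ E hE
    have h2 := hfreefp E hE
    refine Module.finitePresentation_of_surjective _ h1.2 ?_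
    rw [h1.1.linearMap_ker_eq]
    have : Module.Finite Γ(E.obj.left.left, ⊤) (K'.val.presheaf.obj (op E)) :=
      K644.ChartFin.finite_sec K' hE
    exact Submodule.FG.of_finite
  · intro E hE _ s
    obtain ⟨t, rfl⟩ := hsurj E hE s
    refine ⟨lin (cokernel.π ψ) E t, ?_⟩
    rw [← lin_comp, cokernel.π_desc]
  · intro E hE hT
    rw [← LinearMap.ker_eq_bot, eq_bot_iff]
    intro s hs
    rw [LinearMap.mem_ker] at hs
    obtain ⟨t, rfl⟩ := (cokernel_exact ψ E hE).2 s
    rw [← lin_comp, cokernel.π_desc] at hs
    obtain ⟨k, hk⟩ := ((kernel_exact σ.π E).2 t).1 hs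
    have h6 : k ∈ LinearMap.range (lin ι E) := by
      rw [hr E hE, h5 E hE hT]
      trivial
    obtain ⟨k', rfl⟩ := h6
    have h7 : lin ψ E k' = t := hk
    rw [Submodule.mem_bot, ← h7, ← lin_comp, cokernel.condition]
    rfl

end main

end K612.FpV
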