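import Groth.Agent.AlgSp.K611.GeomPt
/-!
Lifting a geometric point of an object of the small etale site along a morphism whose image contains its image point.
-/

set_option autoImplicit false
universe u
open CategoryTheory CategoryTheory.Limits AlgebraicGeometry Opposite Topology TopologicalSpace
open AlgSp

set_option backward.isDefEq.respectTransparency false

namespace K612.Lift

variable {S : Scheme.{u}} {X : Sp S} (p : FieldPt X)

/-- Lifting a geometric point along an etale morphism whose image contains the image point. -/
theorem exists_lift_of_point (hp : IsSepClosed p.K) {V U : EtOver X} (φ : V ⟶ U)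
    (l : (FieldPt.liftsTo p).obj U) (v : ↥V.obj.left.left)
    (hv : φ.hom.left.left v = l.1.left (IsLocalRing.closedPoint p.K)) :
    ∃ m : (FieldPt.liftsTo p).obj V, (FieldPt.liftsTo p).map φ m = l := by
  have hgi : Etale φ.hom.left.left := EtOver.etale_left φ
  obtain ⟨k, hk, -⟩ := Scheme.exists_fac_of_etale_of_isSepClosed φ.hom.left.left
    l.1.left v (hv.trans (congrArg _ (Subsingleton.elim _ _)))
  let l' : p.pt ⟶ V.obj.left := Over.homMk k (by
    rw [← Over.w φ.hom.left, ← Category.assoc]
    exact (congrArg (· ≫ U.obj.left.hom) hk).trans (Over.w l.1))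
  have hl' : l' ≫ φ.hom.left = l.1 := Over.OverMorphism.ext hk
  refine ⟨⟨l', ?_⟩, Subtype.ext hl'⟩
  rw [← EtOver.w φ, ← Category.assoc, ← Functor.map_comp, hl']
  exact l.2

end K612.Lift
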