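import Groth.Agent.AlgSp.K612.ResEt
/-!
The slice of the small etale site of `X` over a chart `E = (U, p)` is the small etale site of `h_U`; modules on the slice;
quasi-coherence can be tested after restriction to a surjective chart.
-/

set_option autoImplicit false
universe v' u' u

set_option backward.isDefEq.respectTransparency false

open CategoryTheory CategoryTheory.Limits AlgebraicGeometry Opposite

namespace K612.OverChart

open AlgSp

variable {S : Scheme.{u}} {X : Sp S} (E : EtOver X)

/-- the structure map of a chart is etale. -/
theorem he : IsEtaleMor E.obj.hom := isEtaleMor_of_repWith _ E.property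

/-- the functor from the slice to the small etale site of the chart. -/
noncomputable def toChart : Over E ⥤ EtOver ((yon S).obj E.obj.left) where
  obj A := EtOver.mk ((yon S).map A.hom.hom.left) ((repWith_yon_map_iff _ _).2 (EtOver.etale_left A.hom))
  map {A B} g := EtOver.homMk g.left.hom.left (by
    change (yon S).map g.left.hom.left ≫ (yon S).map B.hom.hom.left = (yon S).map A.hom.hom.left
    rw [← Functor.map_comp]
    exact congrArg (yon S).map (congrArg (fun k => k.hom.left) (Over.w g)))
  map_id A := EtOver.hom_ext _ _ rfl
  map_comp g h := EtOver.hom_ext _ _ rfl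

instance toChart_faithful : (toChart E).Faithful where
  map_injective {A B} g h e := by
    apply Over.OverMorphism.ext
    apply EtOver.hom_ext
    exact congrArg (fun k => k.hom.left) e

instance toChart_full : (toChart E).Full where
  map_surjective {A B} k := by
    have hk : k.hom.left ≫ B.hom.hom.left = A.hom.hom.left := by
      apply (yon S).map_injective
      rw [Functor.map_comp]
      exact EtOver.w k
    refine ⟨Over.homMk (EtOver.homMk k.hom.left ?_) ?_, ?_⟩
    · rw [← EtOver.w A.hom, ← EtOver.w B.hom, ← hk, Functor.map_comp, Category.assoc]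
    · exact EtOver.hom_ext _ _ hk
    · exact EtOver.hom_ext _ _ rfl

/-- preimage of an object. -/
noncomputable def ofChart (V : EtOver ((yon S).obj E.obj.left)) : Over E :=
  Over.mk (Y := EtOver.mk (V.obj.hom ≫ E.obj.hom) (he E V.obj.hom V.property))
    (EtOver.homMk ((yon S).preimage V.obj.hom) (by
      rw [(yon S).map_preimage]; rfl))

noncomputable def ofChartIso (V : EtOver ((yon S).obj E.obj.left)) :
    (toChart E).obj (ofChart E V) ≅ V where
  hom := EtOver.homMk (𝟙 _) (by
    rw [(yon S).map_id, Category.id_comp]
    exact ((yon S).map_preimage V.obj.hom).symm)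
  inv := EtOver.homMk (𝟙 _) (by
    rw [(yon S).map_id, Category.id_comp]
    exact ((yon S).map_preimage V.obj.hom))
  hom_inv_id := EtOver.hom_ext _ _ (Category.id_comp _)
  inv_hom_id := EtOver.hom_ext _ _ (Category.id_comp _)

instance toChart_essSurj : (toChart E).EssSurj where
  mem_essImage V := ⟨ofChart E V, ⟨ofChartIso E V⟩⟩

instance toChart_isEquivalence : (toChart E).IsEquivalence where

instance toChart_isCocontinuous :
    (toChart E).IsCocontinuous ((etTop X).over E) (etTop ((yon S).obj E.obj.left)) where
  cover_lift {A R} hR := by
    rw [GrothendieckTopology.mem_over_iff, Et.mem_etTop_iff]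
    rw [Et.mem_etTop_iff] at hR
    intro x
    obtain ⟨V, g, hg, hx⟩ := hR x
    let g' : ofChart E V ⟶ A := (toChart E).preimage ((ofChartIso E V).hom ≫ g)
    have hg' : (toChart E).map g' = (ofChartIso E V).hom ≫ g := (toChart E).map_preimage _
    refine ⟨(ofChart E V).left, g'.left, ?_, ?_⟩
    · refine Sieve.image_mem_functorPushforward (Over.forget E) (R.functorPullback (toChart E))
        (f := g') ?_
      change R _
      rw [hg']
      exact R.downward_closed hg _
    · have h1 : g'.left.hom.left = g.hom.left :=
        (congrArg (fun k => k.hom.left) hg').trans (Category.id_comp _)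
      rw [h1]
      exact hx

theorem toChart_coverPreserving :
    CoverPreserving ((etTop X).over E) (etTop ((yon S).obj E.obj.left)) (toChart E) where
  cover_preserve {A R} hR := by
    rw [GrothendieckTopology.mem_over_iff, Et.mem_etTop_iff] at hR
    rw [Et.mem_etTop_iff]
    intro x
    obtain ⟨V, g, hg, hx⟩ := hR x
    rw [Sieve.overEquiv_iff] at hg
    exact ⟨_, _, Sieve.image_mem_functorPushforward (toChart E) R hg, hx⟩

instance toChart_isContinuous :
    (toChart E).IsContinuous ((etTop X).over E) (etTop ((yon S).obj E.obj.left)) :=
  Functor.isContinuous_of_coverPreserving (compatiblePreservingOfFlat _ _)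
    (toChart_coverPreserving E)

instance toChart_post_isContinuous (A : Over E) :
    (Over.post (X := A) (toChart E)).IsContinuous (((etTop X).over E).over A)
      ((etTop ((yon S).obj E.obj.left)).over ((toChart E).obj A)) :=
  Post.isContinuous_post _ _ (toChart_coverPreserving E)

/-- the restriction functor to the slice through the chart. -/
noncomputable def forgetIso : Over.forget E ≅ toChart E ⋙ EtOver.postcomp E.obj.hom (he E) :=
  NatIso.ofComponents (fun A =>
    { hom := EtOver.homMk (𝟙 _) (by
        rw [(yon S).map_id, Category.id_comp]
        exact EtOver.w A.hom)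
      inv := EtOver.homMk (𝟙 _) (by
        rw [(yon S).map_id, Category.id_comp]
        exact (EtOver.w A.hom).symm)
      hom_inv_id := EtOver.hom_ext _ _ (Category.id_comp _)
      inv_hom_id := EtOver.hom_ext _ _ (Category.id_comp _) })
    (fun {A B} g => EtOver.hom_ext _ _ ((Category.comp_id _).trans (Category.id_comp _).symm))

/-- the structure sheaf of the chart restricted to the slice. -/
noncomputable def ringChart : (OEtRing X).over E ⟶
    ((toChart E).sheafPushforwardContinuous RingCat.{u + 1} ((etTop X).over E)
      (etTop ((yon S).obj E.obj.left))).obj (OEtRing ((yon S).obj E.obj.left)) := 𝟙 _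

noncomputable abbrev pushChart :
    ModEt ((yon S).obj E.obj.left) ⥤ SheafOfModules.{u + 1} ((OEtRing X).over E) :=
  SheafOfModules.pushforward (ringChart E)

instance toChart_comp_isContinuous :
    (toChart E ⋙ EtOver.postcomp E.obj.hom (he E)).IsContinuous ((etTop X).over E) (etTop X) :=
  Functor.isContinuous_comp _ _ _ (etTop ((yon S).obj E.obj.left)) _

noncomputable def ringComp : (OEtRing X).over E ⟶
    ((toChart E ⋙ EtOver.postcomp E.obj.hom (he E)).sheafPushforwardContinuous RingCat.{u + 1}
      ((etTop X).over E) (etTop X)).obj (OEtRing X) := 𝟙 _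

theorem ringComp_eq : ringComp E ≫ (Functor.sheafPushforwardContinuousNatTrans (forgetIso E).hom
    RingCat.{u + 1} ((etTop X).over E) (etTop X)).app (OEtRing X) = 𝟙 ((OEtRing X).over E) := by
  apply Sheaf.hom_ext
  apply NatTrans.ext
  funext A
  exact (Category.id_comp _).trans
    ((BigSite.ORing Scheme.etalePrecoverage S).obj.map_id (op A.unop.left.obj.left))

/-- the restriction to the slice factors through the chart. -/
noncomputable def resPushIso :
    ResEt.resModEt (he E) ⋙ pushChart E ≅ SheafOfModules.overFunctor (OEtRing X) E :=
  (Iso.refl _ : _ ≅ SheafOfModules.pushforward (ringComp E)) ≪≫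
    SheafOfModules.pushforwardCongr₂ (ringComp E) (forgetIso E) (ringComp_eq E)

theorem isQuasicoherent_pushChart (N : ModEt ((yon S).obj E.obj.left)) [N.IsQuasicoherent] :
    ((pushChart E).obj N).IsQuasicoherent := by
  have : IsIso (ringChart E) := inferInstanceAs (IsIso (𝟙 _))
  exact SheafOfModules.isQuasicoherent_pushforward_of_isLeftAdjoint (toChart E) (ringChart E)
    (Iso.refl _)

end K612.OverChart
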