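import Groth.Agent.AlgSp.K612.PullTerm
/-!
Sections of the inverse image of a quasi-coherent module over affine objects, general sites: localisation.
-/

set_option autoImplicit false
set_option linter.unusedSectionVars false
universe w₁ w₂ v₁ v₂ u₁ u₂ u

open CategoryTheory CategoryTheory.Limits AlgebraicGeometry Opposite TensorProduct

namespace K612.PullLoc

open Groth.Agent.Etbase.FFExact K644.Site K644.Psh K644.Alg K644.Colim K644.Exact K644.Free
  K644.Slice K644.Pres K644.Local SheafOfModules K612.PullSec K612.PullTerm K612.PullOver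

theorem unit_ofNatIsoRight {C : Type u₁} [Category.{v₁} C] {D : Type u₂} [Category.{v₂} D]
    {F : C ⥤ D} {G H : D ⥤ C} (adj : F ⊣ G) (iso : G ≅ H) (X : C) :
    (adj.ofNatIsoRight iso).unit.app X = adj.unit.app X ≫ iso.hom.app (F.obj X) := by
  have := Adjunction.homEquiv_ofNatIsoRight_apply adj iso (𝟙 (F.obj X))
  rw [Adjunction.homEquiv_id, Adjunction.homEquiv_id] at this
  exact this

section unit

variable {C : Type u₁} [Category.{v₁} C] {D : Type u₂} [Category.{v₂} D]
  [HasBinaryProducts C] [HasBinaryProducts D]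
  {J : GrothendieckTopology C} {K : GrothendieckTopology D} {F : C ⥤ D}
  {S : Sheaf J RingCat.{u}} {R : Sheaf K RingCat.{u}}
  [Functor.IsContinuous F J K]
  (φ : S ⟶ (F.sheafPushforwardContinuous RingCat.{u} J K).obj R) (E : C)
  [(Over.post (X := E) F).IsContinuous (J.over E) (K.over (F.obj E))]
  [(pushforward.{u} φ).IsRightAdjoint] [(pushforward.{u} (ringOver φ E)).IsRightAdjoint]

theorem map_val_app {M : SheafOfModules.{u} R} {U V W : D} (f : V ⟶ U) (g : W ⟶ V)
    (x : M.val.obj (op U)) :
    M.val.presheaf.map g.op (M.val.presheaf.map f.op x) = M.val.presheaf.map (g ≫ f).op x := by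
  rw [op_comp, M.val.presheaf.map_comp]
  rfl

/-- the unit of the localisation adjunction on elements. -/
theorem overAdj_unit (M : SheafOfModules.{u} R) (U W : D) (x : M.val.presheaf.obj (op W)) :
    ((overPushforwardOverAdj (R := R) U).unit.app M).val.app (op W) x =
      M.val.presheaf.map (((Over.forgetAdjStar U).counit.app W)).op x := rfl

theorem counit_eq (U W : D) :
    (Over.forgetAdjStar U).counit.app W = (prod.snd : U ⨯ W ⟶ W) := by
  simp

theorem unit_snd {U : D} (A : Over U) :
    ((Over.forgetAdjStar U).unit.app A).left ≫ (prod.snd : U ⨯ A.left ⟶ A.left) = 𝟙 _ := by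
  rw [← counit_eq]
  exact (Over.forgetAdjStar U).left_triangle_components A

/-- The comparison of the two inverse images on slices is compatible with the units. -/
theorem pullOverIso_unit [∀ c, PreservesLimit (pair E c) F] (N : SheafOfModules.{u} S)
    (A : Over E) (n : N.val.presheaf.obj (op A.left)) :
    ((pullOverIso φ E).hom.app N).val.app (op ((Over.post F).obj A))
      (((pullbackPushforwardAdjunction φ).unit.app N).val.app (op A.left) n) =
    ((pullbackPushforwardAdjunction (ringOver φ E)).unit.app (N.over E)).val.app (op A) n := by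
  let adj0 := (pullbackPushforwardAdjunction φ).comp (overPushforwardOverAdj (R := R) (F.obj E))
  let adj1 := adj0.ofNatIsoRight (rightIso φ E).symm
  let adj2 := (overPushforwardOverAdj (R := S) E).comp (pullbackPushforwardAdjunction (ringOver φ E))
  have h := Adjunction.unit_leftAdjointUniq_hom_app adj1 adj2 N
  have h1 : adj1.unit.app N = adj0.unit.app N ≫ (rightIso φ E).inv.app _ :=
    unit_ofNatIsoRight adj0 (rightIso φ E).symm N
  rw [h1] at h
  let M := (SheafOfModules.pullback φ).obj N
  let W := A.left
  let Φ : M.over (F.obj E) ⟶ (SheafOfModules.pullback (ringOver φ E)).obj (N.over E) :=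
    (pullOverIso φ E).hom.app N
  let un : N.val.presheaf.obj (op W) → M.val.presheaf.obj (op (F.obj W)) := fun n =>
    ((pullbackPushforwardAdjunction φ).unit.app N).val.app (op W) n
  let un' := (pullbackPushforwardAdjunction (ringOver φ E)).unit.app (N.over E)
  -- evaluate
  have h2 : Φ.val.app (op ((Over.post F).obj ((Over.star E).obj W)))
      (M.val.presheaf.map (((starIso F E).hom.app W).left).op
        (M.val.presheaf.map ((Over.forgetAdjStar (F.obj E)).counit.app (F.obj W)).op (un n))) =
      un'.val.app (op ((Over.star E).obj W))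
        (N.val.presheaf.map ((Over.forgetAdjStar E).counit.app W).op n) :=
    congrArg (fun z => z.val.app (op W) n) h
  have e0 : ((starIso F E).hom.app W).left ≫ (Over.forgetAdjStar (F.obj E)).counit.app (F.obj W) =
      F.map (prod.snd : E ⨯ W ⟶ W) :=
    (congrArg (prodComparison F E W ≫ ·) (counit_eq (F.obj E) (F.obj W))).trans
      (prodComparison_snd F _ _)
  have e1 : M.val.presheaf.map (((starIso F E).hom.app W).left).op
        (M.val.presheaf.map ((Over.forgetAdjStar (F.obj E)).counit.app (F.obj W)).op (un n)) =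
      M.val.presheaf.map (F.map (prod.snd : E ⨯ W ⟶ W)).op (un n) :=
    (map_val_app (M := M) _ _ _).trans (congrArg (fun k => M.val.presheaf.map k.op (un n)) e0)
  have h2' : Φ.val.app (op ((Over.post F).obj ((Over.star E).obj W)))
      (M.val.presheaf.map (F.map (prod.snd : E ⨯ W ⟶ W)).op (un n)) =
      un'.val.app (op ((Over.star E).obj W)) (N.val.presheaf.map (prod.snd : E ⨯ W ⟶ W).op n) :=
    (congrArg (Φ.val.app (op ((Over.post F).obj ((Over.star E).obj W)))) e1).symm.trans
      (h2.trans (congrArg (fun k => un'.val.app (op ((Over.star E).obj W))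
        (N.val.presheaf.map (Quiver.Hom.op k) n)) (counit_eq E W)))
  let γ : A ⟶ (Over.star E).obj W := (Over.forgetAdjStar E).unit.app A
  have hγ : γ.left ≫ (prod.snd : E ⨯ W ⟶ W) = 𝟙 _ := unit_snd A
  have h3 := congrArg (((SheafOfModules.pullback (ringOver φ E)).obj
    (N.over E)).val.presheaf.map ((Over.post F).map γ).op) h2'
  have e2 : M.val.presheaf.map (F.map γ.left).op
      (M.val.presheaf.map (F.map (prod.snd : E ⨯ W ⟶ W)).op (un n)) = un n := by
    have hF : F.map γ.left ≫ F.map (prod.snd : E ⨯ W ⟶ W) = 𝟙 _ :=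
      (F.map_comp _ _).symm.trans ((congrArg F.map hγ).trans (F.map_id _))
    exact (map_val_app (M := M) _ _ _).trans
      ((congrArg (fun k => M.val.presheaf.map (Quiver.Hom.op k) (un n)) hF).trans
        (res_id M (un n)))
  have e3 : N.val.presheaf.map γ.left.op (N.val.presheaf.map (prod.snd : E ⨯ W ⟶ W).op n) = n := by
    exact (map_val_app (M := N) _ _ _).trans
      ((congrArg (fun k => N.val.presheaf.map (Quiver.Hom.op k) n) hγ).trans (res_id N n))
  have e4 := naturality_apply (ab Φ.val) ((Over.post F).map γ)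
    (M.val.presheaf.map (F.map (prod.snd : E ⨯ W ⟶ W)).op (un n))
  have e5 := naturality_apply (ab un'.val) γ (N.val.presheaf.map (prod.snd : E ⨯ W ⟶ W).op n)
  refine (congrArg (Φ.val.app (op ((Over.post F).obj A))) e2).symm.trans ?_
  refine e4.trans (h3.trans (e5.symm.trans ?_))
  exact congrArg (un'.val.app (op A)) e3

end unit

section main

variable {C : Type u₁} [Category.{v₁} C] {D : Type u₂} [Category.{v₂} D]
  {J : GrothendieckTopology C} {K : GrothendieckTopology D} {F : C ⥤ D}
  {TC : C ⥤ Scheme.{u}} {TD : D ⥤ Scheme.{u}}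
  {S : Sheaf J RingCat.{u + 1}} {R : Sheaf K RingCat.{u + 1}} [Str TC S.obj] [Str TD R.obj]
  [Functor.IsContinuous F J K]
  {φ : S ⟶ (F.sheafPushforwardContinuous RingCat.{u + 1} J K).obj R}
  (P : SchHom TC TD φ)

/-- The localised family of morphisms of schemes. -/
noncomputable def SchHom.over (E : C)
    [(Over.post (X := E) F).IsContinuous (J.over E) (K.over (F.obj E))] :
    SchHom (oT TC E) (oT TD (F.obj E)) (ringOver φ E) where
  p := Functor.whiskerLeft (Over.forget E) P.p
  compat c a := P.compat c.left a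

variable [HasBinaryProducts C] [HasBinaryProducts D]
  [∀ E, (Over.post (X := E) F).IsContinuous (J.over E) (K.over (F.obj E))]
  [∀ E c, PreservesLimit (pair E c) F]
  [(pushforward.{u + 1} φ).IsRightAdjoint] [∀ E, (pushforward.{u + 1} (ringOver φ E)).IsRightAdjoint]
  [∀ X, HasSheafify (J.over X) AddCommGrpCat.{u + 1}]
  [∀ X, (J.over X).WEqualsLocallyBijective AddCommGrpCat.{u + 1}]
  [∀ X, HasSheafify (K.over X) AddCommGrpCat.{u + 1}]
  [∀ X, (K.over X).WEqualsLocallyBijective AddCommGrpCat.{u + 1}]
  [HasPullbacks C] [PreservesLimitsOfShape WalkingCospan TC] [QCSite J TC] [FlatMaps TC]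
  [HasPullbacks D] [PreservesLimitsOfShape WalkingCospan TD] [QCSite K TD]

/-- Sections of the inverse image of a quasi-coherent module over affine objects: `(f^* N)(V) = N(c) ⊗ O(V)`. -/
theorem isBC_un (N : SheafOfModules.{u + 1} S) (hN : IsQC TC N.val) {c : C} {V : D}
    (k : V ⟶ F.obj c) (hc : IsAffine (TC.obj c)) (hV : IsAffine (TD.obj V)) :
    IsBC (P.θ k) (sm (un φ N) k) := by
  obtain ⟨Q⟩ := nonempty_presentation (T := oT TC c) (t := Over.mk (𝟙 c)) Over.mkIdTerminal hc
    (K644.QCoh.isQC_over hN c)
  let k' : Over.mk k ⟶ (Over.post F).obj (Over.mk (𝟙 c)) := Over.homMk k (by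
    change k ≫ F.map (𝟙 c) = k
    rw [F.map_id, Category.comp_id])
  have := Post.final_post F c
  have h := isBC_un_of_presentation (SchHom.over P c) Q (t := Over.mk (𝟙 c)) (V := Over.mk k) k' hc hV
  let e := smapEquiv (oT TD (F.obj c)) ((pullOverIso φ c).app N) (Over.mk k)
  refine IsBC.of_equiv h (LinearEquiv.refl _ _) e.symm _ fun n => ?_
  rw [LinearEquiv.eq_symm_apply]
  refine (smap_res (T := oT TD (F.obj c)) ((pullOverIso φ c).hom.app N) k' _).trans ?_
  exact congrArg (res _ k') (pullOverIso_unit φ c N (Over.mk (𝟙 c)) n)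

end main

end K612.PullLoc
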