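import Mathlib.Algebra.Category.ModuleCat.Sheaf.Quasicoherent
import Mathlib.Algebra.Category.ModuleCat.Sheaf.PullbackFree
import Groth.Agent.AlgSp.K612.Post
/-!
Inverse image of sheaves of modules and localisation: `(f^* M)|_{F E} = f_E^* (M|_E)`; presentations and quasi-coherence
of the inverse image.
-/

set_option autoImplicit false
universe v₁ v₂ u₁ u₂ u

open CategoryTheory CategoryTheory.Limits Opposite

namespace K612.PullOver

open SheafOfModules

variable {C : Type u₁} [Category.{v₁} C] {D : Type u₂} [Category.{v₂} D]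
  [HasBinaryProducts C] [HasBinaryProducts D]
  {J : GrothendieckTopology C} {K : GrothendieckTopology D} {F : C ⥤ D}
  {S : Sheaf J RingCat.{u}} {R : Sheaf K RingCat.{u}}
  [Functor.IsContinuous F J K]
  (φ : S ⟶ (F.sheafPushforwardContinuous RingCat.{u} J K).obj R) (E : C)
  [(Over.post (X := E) F).IsContinuous (J.over E) (K.over (F.obj E))]

/-- the localised ring map. -/
noncomputable def ringOver :
    S.over E ⟶ ((Over.post (X := E) F).sheafPushforwardContinuous RingCat.{u} (J.over E)
      (K.over (F.obj E))).obj (R.over (F.obj E)) :=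
  ((Over.forget E).sheafPushforwardContinuous RingCat.{u} (J.over E) J).map φ

theorem star_hom {C : Type u₁} [Category.{v₁} C] [HasBinaryProducts C] (X Y : C) :
    ((Over.star X).obj Y).hom = (prod.fst : X ⨯ Y ⟶ X) := by
  simp only [Over.star_obj_hom]
  exact prod.lift_fst _ _

theorem star_map_left {C : Type u₁} [Category.{v₁} C] [HasBinaryProducts C] (X : C) {Y Z : C}
    (g : Y ⟶ Z) :
    ((Over.star X).map g).left = (prod.map (𝟙 X) g : X ⨯ Y ⟶ X ⨯ Z) := by simp

theorem starIso_aux₁ (F : C ⥤ D) (E : C) (c : C) :
    prodComparison F E c ≫ ((Over.star (F.obj E)).obj (F.obj c)).hom =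
        F.map ((Over.star E).obj c).hom := by
  rw [star_hom, star_hom]
  exact prodComparison_fst F _ _

theorem starIso_aux₂ (F : C ⥤ D) (E : C) {c c' : C} (g : c ⟶ c') :
    F.map ((Over.star E).map g).left ≫ prodComparison F E c' = prodComparison F E c ≫
        ((Over.star (F.obj E)).map (F.map g)).left := by
  rw [star_map_left, star_map_left]
  refine (prodComparison_natural F (𝟙 E) g).trans ?_
  rw [F.map_id]
  rfl

/-- comparison of the two functors to the slice. -/
noncomputable def starIso (F : C ⥤ D) (E : C) [∀ c, PreservesLimit (pair E c) F] :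
    Over.star E ⋙ Over.post (X := E) F ≅ F ⋙ Over.star (F.obj E) :=
  NatIso.ofComponents (fun c => Over.isoMk (PreservesLimitPair.iso F E c) (starIso_aux₁ F E c))
    (fun {_ _} g => Over.OverMorphism.ext (starIso_aux₂ F E g))

theorem starIso_hom_app_left (F : C ⥤ D) (E : C) [∀ c, PreservesLimit (pair E c) F] (c : C) :
    ((starIso F E).hom.app c).left = prodComparison F E c := rfl

section

instance isContinuous_starPost :
    (Over.star E ⋙ Over.post (X := E) F).IsContinuous J (K.over (F.obj E)) :=
  Functor.isContinuous_comp _ _ _ (J.over E) _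

instance isContinuous_compStar :
    (F ⋙ Over.star (F.obj E)).IsContinuous J (K.over (F.obj E)) :=
  Functor.isContinuous_comp _ _ _ K _

/-- ring map, first way. -/
noncomputable def ringA : S ⟶ ((Over.star E ⋙ Over.post (X := E) F).sheafPushforwardContinuous
    RingCat.{u} J (K.over (F.obj E))).obj (R.over (F.obj E)) :=
  pushforwardOver (R := S) E ≫
    ((Over.star E).sheafPushforwardContinuous RingCat.{u} J (J.over E)).map (ringOver φ E)

/-- ring map, second way. -/
noncomputable def ringB : S ⟶ ((F ⋙ Over.star (F.obj E)).sheafPushforwardContinuous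
    RingCat.{u} J (K.over (F.obj E))).obj (R.over (F.obj E)) :=
  φ ≫ (F.sheafPushforwardContinuous RingCat.{u} J K).map (pushforwardOver (R := R) (F.obj E))

theorem ringAB [∀ c, PreservesLimit (pair E c) F] :
    ringB φ E ≫ (Functor.sheafPushforwardContinuousNatTrans (starIso F E).hom RingCat.{u} J
      (K.over (F.obj E))).app (R.over (F.obj E)) = ringA φ E := by
  apply Sheaf.hom_ext
  apply NatTrans.ext
  funext c
  change (φ.hom.app c ≫ R.obj.map (prod.snd : F.obj E ⨯ F.obj c.unop ⟶ _).op) ≫
    R.obj.map (prodComparison F E c.unop).op =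
      S.obj.map (prod.snd : E ⨯ c.unop ⟶ _).op ≫ φ.hom.app (op (E ⨯ c.unop))
  have key : R.obj.map (prod.snd : F.obj E ⨯ F.obj c.unop ⟶ _).op ≫
      R.obj.map (prodComparison F E c.unop).op =
        R.obj.map (F.map (prod.snd : E ⨯ c.unop ⟶ _)).op := by
    rw [← R.obj.map_comp, ← op_comp, prodComparison_snd]
  exact (Category.assoc _ _ _).trans ((congrArg (φ.hom.app c ≫ ·) key).trans
    (φ.hom.naturality (prod.snd : E ⨯ c.unop ⟶ _).op).symm)

/-- the two right adjoints agree. -/
noncomputable def rightIso₁ :
    pushforward.{u} (ringOver φ E) ⋙ pushforward.{u} (pushforwardOver (R := S) E) ≅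
      pushforward.{u} (ringA φ E) :=
  pushforwardComp _ _

noncomputable def rightIso₂ :
    pushforward.{u} (pushforwardOver (R := R) (F.obj E)) ⋙ pushforward.{u} φ ≅
      pushforward.{u} (ringB φ E) :=
  pushforwardComp _ _

noncomputable def rightIso [∀ c, PreservesLimit (pair E c) F] :
    pushforward.{u} (ringOver φ E) ⋙ pushforward.{u} (pushforwardOver (R := S) E) ≅
      pushforward.{u} (pushforwardOver (R := R) (F.obj E)) ⋙ pushforward.{u} φ :=
  rightIso₁ φ E ≪≫ (pushforwardCongr₂ (ringB φ E) (starIso F E) (ringAB φ E)).symm ≪≫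
    (rightIso₂ φ E).symm

variable [(pushforward.{u} φ).IsRightAdjoint] [(pushforward.{u} (ringOver φ E)).IsRightAdjoint]

/-- inverse image commutes with localisation. -/
noncomputable def pullOverIso [∀ c, PreservesLimit (pair E c) F] :
    pullback.{u} φ ⋙ overFunctor R (F.obj E) ≅ overFunctor S E ⋙ pullback.{u} (ringOver φ E) :=
  (((pullbackPushforwardAdjunction φ).comp (overPushforwardOverAdj (R := R) (F.obj E))).ofNatIsoRight
    (rightIso φ E).symm).leftAdjointUniq
      ((overPushforwardOverAdj (R := S) E).comp (pullbackPushforwardAdjunction (ringOver φ E)))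

end

end K612.PullOver
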