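import Groth.Agent.AlgSp.K644.QCoh
import Groth.Agent.AlgSp.K612.PullOver
/-!
Sections of the inverse image of a quasi-coherent module over affine objects, general sites: sites with a terminal affine
object.
-/

set_option autoImplicit false
universe w₁ w₂ v₁ v₂ u₁ u₂ u

open CategoryTheory CategoryTheory.Limits AlgebraicGeometry Opposite TensorProduct

namespace K612.PullSec

open Groth.Agent.Etbase.FFExact K644.Site K644.Psh K644.Alg K644.Colim K644.Exact K644.Free
  K644.Slice K644.Pres K644.Local SheafOfModules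

variable {C : Type u₁} [Category.{v₁} C] {D : Type u₂} [Category.{v₂} D]
  {J : GrothendieckTopology C} {K : GrothendieckTopology D} {F : C ⥤ D}
  {TC : C ⥤ Scheme.{u}} {TD : D ⥤ Scheme.{u}}
  {S : Sheaf J RingCat.{u + 1}} {R : Sheaf K RingCat.{u + 1}} [Str TC S.obj] [Str TD R.obj]
  [Functor.IsContinuous F J K]
  (φ : S ⟶ (F.sheafPushforwardContinuous RingCat.{u + 1} J K).obj R)

/-- A natural family of morphisms of schemes inducing the morphism of sheaves of rings. -/
structure SchHom (TC : C ⥤ Scheme.{u}) (TD : D ⥤ Scheme.{u}) [Str TC S.obj] [Str TD R.obj]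
    (φ : S ⟶ (F.sheafPushforwardContinuous RingCat.{u + 1} J K).obj R) where
  /-- the morphisms -/
  p : F ⋙ TD ⟶ TC
  compat : ∀ (c : C) (a : Γ(TC.obj c, ⊤)),
    (φ.hom.app (op c)).hom (Str.ρ (T := TC) (R := S.obj) c a) =
      Str.ρ (T := TD) (R := R.obj) (F.obj c) ((p.app c).appTop.hom a)

variable {φ} (P : SchHom TC TD φ)

/-- The ring map attached to `V ⟶ F c`. -/
noncomputable def SchHom.θ (P : SchHom TC TD φ) {c : C} {V : D} (k : V ⟶ F.obj c) :
    Γ(TC.obj c, ⊤) →+* Γ(TD.obj V, ⊤) := (TD.map k ≫ P.p.app c).appTop.hom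

theorem SchHom.θ_apply {c : C} {V : D} (k : V ⟶ F.obj c) (a : Γ(TC.obj c, ⊤)) :
    P.θ k a = (TD.map k).appTop.hom ((P.p.app c).appTop.hom a) := by
  unfold SchHom.θ
  rw [Scheme.Hom.comp_appTop]
  rfl

/-- The semilinear map on sections given by a morphism to the direct image. -/
noncomputable def sm {N : SheafOfModules.{u + 1} S} {M : SheafOfModules.{u + 1} R}
    (α : N ⟶ (pushforward φ).obj M) {c : C} {V : D} (k : V ⟶ F.obj c) :
    sec N c →+ sec M V :=
  (res M k).comp (((ab α.val).app (op c)).hom : sec N c →+ sec M (F.obj c))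

theorem sm_apply {N : SheafOfModules.{u + 1} S} {M : SheafOfModules.{u + 1} R}
    (α : N ⟶ (pushforward φ).obj M) {c : C} {V : D} (k : V ⟶ F.obj c) (n : sec N c) :
    sm α k n = res M k (show sec M (F.obj c) from α.val.app (op c) n) := rfl

/-- restriction on the target. -/
theorem res_sm {N : SheafOfModules.{u + 1} S} {M : SheafOfModules.{u + 1} R}
    (α : N ⟶ (pushforward φ).obj M) {c : C} {V V' : D} (k : V ⟶ F.obj c) (g : V' ⟶ V)
    (n : sec N c) : res M g (sm α k n) = sm α (g ≫ k) n := by
  rw [sm_apply, sm_apply, res_comp]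

/-- restriction on the source. -/
theorem sm_res {N : SheafOfModules.{u + 1} S} {M : SheafOfModules.{u + 1} R}
    (α : N ⟶ (pushforward φ).obj M) {c c' : C} {V : D} (k : V ⟶ F.obj c') (g : c' ⟶ c)
    (n : sec N c) : sm α k (res N g n) = sm α (k ≫ F.map g) n := by
  rw [sm_apply, sm_apply, res_comp]
  congr 1
  exact naturality_apply (ab α.val) g n

theorem smap_sm {N : SheafOfModules.{u + 1} S} {M M' : SheafOfModules.{u + 1} R}
    (α : N ⟶ (pushforward φ).obj M) (β : M ⟶ M') {c : C} {V : D} (k : V ⟶ F.obj c)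
    (n : sec N c) : smap TD β V (sm α k n) = sm (α ≫ (pushforward φ).map β) k n :=
  smap_res β k _

theorem sm_smap {N N' : SheafOfModules.{u + 1} S} {M : SheafOfModules.{u + 1} R}
    (β : N' ⟶ N) (α : N ⟶ (pushforward φ).obj M) {c : C} {V : D} (k : V ⟶ F.obj c)
    (n : sec N' c) : sm α k (smap TC β c n) = sm (β ≫ α) k n := rfl

include P in
theorem sm_smul {N : SheafOfModules.{u + 1} S} {M : SheafOfModules.{u + 1} R}
    (α : N ⟶ (pushforward φ).obj M) {c : C} {V : D} (k : V ⟶ F.obj c)
    (a : Γ(TC.obj c, ⊤)) (n : sec N c) : sm α k (a • n) = P.θ k a • sm α k n := by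
  rw [sm_apply, sm_apply, P.θ_apply, ← res_smul]
  congr 1
  have h := (α.val.app (op c)).hom.map_smul (Str.ρ (T := TC) (R := S.obj) c a) n
  refine h.trans ?_
  have h2 := congrArg (fun z : R.obj.obj (op (F.obj c)) =>
    z • (show M.val.obj (op (F.obj c)) from α.val.app (op c) n)) (P.compat c a)
  exact h2

section colim

variable [HasPullbacks C] [PreservesLimitsOfShape WalkingCospan TC] [QCSite J TC]
  [HasWeakSheafify J AddCommGrpCat.{u + 1}] [J.WEqualsLocallyBijective AddCommGrpCat.{u + 1}]
  [HasPullbacks D] [PreservesLimitsOfShape WalkingCospan TD] [QCSite K TD]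
  [HasWeakSheafify K AddCommGrpCat.{u + 1}] [K.WEqualsLocallyBijective AddCommGrpCat.{u + 1}]
  {I : Type w₁} [Category.{w₂} I] [HasColimitsOfShape I AddCommGrpCat.{u + 1}]

/-- The base change property for a compatible family passes to colimits. -/
theorem isBC_of_isColimit {G : I ⥤ SheafOfModules.{u + 1} S} {G' : I ⥤ SheafOfModules.{u + 1} R}
    (β : G ⟶ G' ⋙ pushforward φ) {c : Cocone G} {c' : Cocone G'} (hc : IsColimit c)
    (hc' : IsColimit c') (α : c.pt ⟶ (pushforward φ).obj c'.pt)
    (hα : ∀ i, β.app i ≫ (pushforward φ).map (c'.ι.app i) = c.ι.app i ≫ α)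
    (h1 : ∀ i, IsQC TC (G.obj i).val) (h2 : ∀ i, IsQC TD (G'.obj i).val)
    {t : C} {V : D} (k : V ⟶ F.obj t) (ht : IsAffine (TC.obj t)) (hV : IsAffine (TD.obj V))
    (h : ∀ i, IsBC (P.θ k) (sm (β.app i) k)) : IsBC (P.θ k) (sm α k) := by
  obtain ⟨e⟩ := isColimit_eval (T := TC) hc h1 t ht
  obtain ⟨e'⟩ := isColimit_eval (T := TD) hc' h2 V hV
  have hcomm : ∀ i (x : sec (G.obj i) t), sm α k (smap TC (c.ι.app i) t x) =
      smap TD (c'.ι.app i) V (sm (β.app i) k x) := by
    intro i x
    rw [sm_smap, smap_sm]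
    exact congrArg (fun z => sm z k x) (hα i).symm
  refine IsBC.of_lift.{u, u + 1} (fun a m => sm_smul P α k a m) ?_
  intro Q _ _ f hf
  have key : ∀ i, ∃! g' : sec (G'.obj i) V →ₗ[Γ(TD.obj V, ⊤)] Q,
      ∀ m, g' (sm (β.app i) k m) = f (smap TC (c.ι.app i) t m) := fun i =>
    IsBC.existsUnique_lift (h i)
      (f.comp (smap TC (N := c.pt) (c.ι.app i) t : sec (G.obj i) t →+ sec c.pt t))
      (fun a m => by
        change f (smap TC (c.ι.app i) t (a • m)) = _
        rw [map_smul, hf]
        rfl)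
  choose g' hg' huniq using key
  obtain ⟨l, hl⟩ := desc_exists (T := TD) (c := (SheafOfModules.forget R).mapCocone c') e' g' (by
    intro i i' p x
    have := IsBC.hom_ext (h i) ((g' i').comp (smap TD (G'.map p) V)) (g' i) (fun m => by
      rw [hg']
      change g' i' (smap TD (G'.map p) V (sm (β.app i) k m)) = _
      have h3 : smap TD (G'.map p) V (sm (β.app i) k m) =
          sm (β.app i') k (smap TC (G.map p) t m) := by
        rw [smap_sm, sm_smap]
        exact congrArg (fun z => sm z k m) (β.naturality p).symm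
      rw [h3, hg']
      congr 1
      rw [← smap_comp, c.w])
    exact LinearMap.congr_fun this x)
  refine ⟨l, ?_, ?_⟩
  · let _ : Module Γ(TC.obj t, ⊤) Q := Module.compHom Q (P.θ k)
    let l1 : sec c.pt t →ₗ[Γ(TC.obj t, ⊤)] Q :=
      { toFun := fun m => l (sm α k m)
        map_add' := fun x y => (congrArg l (map_add (sm α k) x y)).trans (map_add l _ _)
        map_smul' := fun a x => (congrArg l (sm_smul P α k a x)).trans (map_smul l _ _) }
    let l2 : sec c.pt t →ₗ[Γ(TC.obj t, ⊤)] Q :=
      { toFun := fun m => f m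
        map_add' := map_add f
        map_smul' := hf }
    have := hom_ext (T := TC) (c := (SheafOfModules.forget S).mapCocone c) e (Q := Q) l1 l2 (by
        intro i x
        change l (sm α k (smap TC (c.ι.app i) t x)) = f (smap TC (c.ι.app i) t x)
        rw [hcomm]
        exact (hl i _).trans (hg' i x))
    intro m
    exact LinearMap.congr_fun this m
  · intro l' hl'
    refine hom_ext (T := TD) (c := (SheafOfModules.forget R).mapCocone c') e' _ _ fun i x => ?_
    rw [hl]
    have := huniq i (l'.comp (smap TD (c'.ι.app i) V)) (fun m => by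
      change l' (smap TD (c'.ι.app i) V (sm (β.app i) k m)) = _
      rw [← hcomm]
      exact hl' _)
    exact LinearMap.congr_fun this x

end colim

end K612.PullSec
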