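import Groth.Agent.AlgSp.K612.PullSec
/-!
Sections of the inverse image of a quasi-coherent module over affine objects, general sites: sites with a terminal affine
object.
-/

set_option autoImplicit false
set_option linter.unusedSectionVars false
universe w₁ w₂ v₁ v₂ u₁ u₂ u

open CategoryTheory CategoryTheory.Limits AlgebraicGeometry Opposite TensorProduct

namespace K612.PullTerm

open Groth.Agent.Etbase.FFExact K644.Site K644.Psh K644.Alg K644.Colim K644.Exact K644.Free
  K644.Slice K644.Pres K644.Local SheafOfModules K612.PullSec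

section iso

variable {D : Type u₂} [Category.{v₂} D] {K : GrothendieckTopology D} {TD : D ⥤ Scheme.{u}}
  {R : Sheaf K RingCat.{u + 1}} [Str TD R.obj]

variable (TD) in
/-- Isomorphic modules have isomorphic sections. -/
noncomputable def smapEquiv {M M' : SheafOfModules.{u + 1} R} (e : M ≅ M') (V : D) :
    sec M V ≃ₗ[Γ(TD.obj V, ⊤)] sec M' V :=
  LinearEquiv.ofLinearMap (smap TD e.hom V) (smap TD e.inv V)
    (LinearMap.ext fun x => by
      rw [LinearMap.comp_apply, ← smap_comp, e.inv_hom_id, smap_id]; rfl)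
    (LinearMap.ext fun x => by
      rw [LinearMap.comp_apply, ← smap_comp, e.hom_inv_id, smap_id]; rfl)

theorem isQC_of_iso {M M' : SheafOfModules.{u + 1} R} (e : M ≅ M') (h : IsQC TD M.val) :
    IsQC TD M'.val := fun _ _ g hV hU =>
  IsBC.of_equiv (h g hV hU) (smapEquiv TD e _) (smapEquiv TD e _) _
    fun m => (smap_res e.hom g m).symm

end iso

variable {C : Type u₁} [Category.{v₁} C] {D : Type u₂} [Category.{v₂} D]
  {J : GrothendieckTopology C} {K : GrothendieckTopology D} {F : C ⥤ D}
  {TC : C ⥤ Scheme.{u}} {TD : D ⥤ Scheme.{u}}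
  {S : Sheaf J RingCat.{u + 1}} {R : Sheaf K RingCat.{u + 1}} [Str TC S.obj] [Str TD R.obj]
  [Functor.IsContinuous F J K]
  {φ : S ⟶ (F.sheafPushforwardContinuous RingCat.{u + 1} J K).obj R}
  (P : SchHom TC TD φ)

theorem sm_unit {c : C} {V : D} (k : V ⟶ F.obj c) (a : Γ(TC.obj c, ⊤)) :
    sm (unitToPushforwardObjUnit φ) k (unitEq TC S c a) = unitEq TD R V (P.θ k a) := by
  rw [sm_apply, P.θ_apply]
  have h1 : (unitToPushforwardObjUnit φ).val.app (op c) (unitEq TC S c a) =
      unitEq TD R (F.obj c) ((P.p.app c).appTop.hom a) := P.compat c a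
  exact (congrArg (res (SheafOfModules.unit R) k) h1).trans
    (Str.nat (T := TD) (R := R.obj) k _)

theorem isBC_unit {c : C} {V : D} (k : V ⟶ F.obj c) :
    IsBC (P.θ k) (sm (unitToPushforwardObjUnit φ) k) :=
  IsBC.of_equiv (IsBC.self (P.θ k)) (unitEq TC S c) (unitEq TD R V) _ (fun a => sm_unit P k a)

variable [(pushforward.{u + 1} φ).IsRightAdjoint]

variable (φ) in
/-- The unit of the adjunction between inverse and direct image. -/
noncomputable abbrev un (N : SheafOfModules.{u + 1} S) :
    N ⟶ (pushforward φ).obj ((SheafOfModules.pullback φ).obj N) :=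
  (pullbackPushforwardAdjunction.{u + 1} φ).unit.app N

theorem un_unit : un φ (unit S) ≫ (pushforward φ).map (pullbackObjUnitToUnit φ) =
    unitToPushforwardObjUnit φ := by
  have := pullbackPushforwardAdjunction_homEquiv_pullbackObjUnitToUnit φ
  rw [Adjunction.homEquiv_unit] at this
  exact this

theorem isBC_un_unit [F.Final] {c : C} {V : D} (k : V ⟶ F.obj c) :
    IsBC (P.θ k) (sm (un φ (unit S)) k) := by
  refine IsBC.of_equiv (isBC_unit P k) (LinearEquiv.refl _ _)
    (smapEquiv TD (asIso (pullbackObjUnitToUnit φ)) V).symm _ fun n => ?_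
  rw [LinearEquiv.eq_symm_apply]
  change smap TD (pullbackObjUnitToUnit φ) V (sm (un φ (unit S)) k n) = _
  rw [smap_sm, un_unit]

variable [HasPullbacks C] [PreservesLimitsOfShape WalkingCospan TC] [QCSite J TC]
  [HasSheafify J AddCommGrpCat.{u + 1}] [J.WEqualsLocallyBijective AddCommGrpCat.{u + 1}]
  [HasPullbacks D] [PreservesLimitsOfShape WalkingCospan TD] [QCSite K TD]
  [HasSheafify K AddCommGrpCat.{u + 1}] [K.WEqualsLocallyBijective AddCommGrpCat.{u + 1}]

/-- The base change property for the unit passes to colimits. -/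
theorem isBC_un_of_isColimit {I : Type w₁} [Category.{w₂} I]
    [HasColimitsOfShape I AddCommGrpCat.{u + 1}] {G : I ⥤ SheafOfModules.{u + 1} S}
    {c : Cocone G} (hc : IsColimit c) (h1 : ∀ i, IsQC TC (G.obj i).val)
    (h2 : ∀ i, IsQC TD ((SheafOfModules.pullback φ).obj (G.obj i)).val)
    {t : C} {V : D} (k : V ⟶ F.obj t) (ht : IsAffine (TC.obj t)) (hV : IsAffine (TD.obj V))
    (h : ∀ i, IsBC (P.θ k) (sm (un φ (G.obj i)) k)) : IsBC (P.θ k) (sm (un φ c.pt) k) :=
  isBC_of_isColimit P (G' := G ⋙ SheafOfModules.pullback φ)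
    (Functor.whiskerLeft G (pullbackPushforwardAdjunction.{u + 1} φ).unit) hc
    (isColimitOfPreserves (SheafOfModules.pullback φ) hc) (un φ c.pt)
    (fun i => ((pullbackPushforwardAdjunction.{u + 1} φ).unit.naturality (c.ι.app i)).symm)
    h1 h2 k ht hV h

theorem isQC_pullback_unit [F.Final] : IsQC TD ((SheafOfModules.pullback φ).obj (unit S)).val :=
  isQC_of_iso (asIso (pullbackObjUnitToUnit φ)).symm isQC_unit

theorem isQC_pullback_free [F.Final] (I : Type (u + 1)) :
    IsQC TD ((SheafOfModules.pullback φ).obj (free (R := S) I)).val :=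
  isQC_of_iso (pullbackObjFreeIso φ I).symm (isQC_free TD I)

theorem isBC_un_free [F.Final] (I : Type (u + 1)) {t : C} {V : D} (k : V ⟶ F.obj t)
    (ht : IsAffine (TC.obj t)) (hV : IsAffine (TD.obj V)) :
    IsBC (P.θ k) (sm (un φ (free (R := S) I)) k) :=
  isBC_un_of_isColimit P (isColimitFreeCofan (R := S) I) (fun _ => isQC_unit)
    (fun _ => isQC_pullback_unit) k ht hV (fun _ => isBC_un_unit P k)

/-- Inverse images of modules with presentations. -/
theorem isBC_un_of_presentation [F.Final] {N : SheafOfModules.{u + 1} S} (Q : N.Presentation)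
    {t : C} {V : D} (k : V ⟶ F.obj t) (ht : IsAffine (TC.obj t)) (hV : IsAffine (TD.obj V)) :
    IsBC (P.θ k) (sm (un φ N) k) :=
  isBC_un_of_isColimit P Q.isColimit
    (by
      rintro (_ | _)
      · exact isQC_free TC _
      · exact isQC_free TC _)
    (by
      rintro (_ | _)
      · exact isQC_pullback_free _
      · exact isQC_pullback_free _) k ht hV
    (by
      rintro (_ | _)
      · exact isBC_un_free P _ k ht hV
      · exact isBC_un_free P _ k ht hV)

end K612.PullTerm
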