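import Groth.Agent.AlgSp.K612.OverChart
import Groth.Agent.AlgSp.K612.BcProd
/-!
Quasi-coherence is tested on a surjective etale chart.
-/

set_option autoImplicit false
universe v' u' u

set_option backward.isDefEq.respectTransparency false

open CategoryTheory CategoryTheory.Limits AlgebraicGeometry Opposite

namespace K612.QcDesc

open AlgSp K612.OverChart

variable {S : Scheme.{u}} {X : Sp S}

/-- quasi-coherence is invariant under isomorphisms. -/
theorem isQuasicoherent_of_iso {M N : ModEt X} (e : M ≅ N) [h : M.IsQuasicoherent] :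
    N.IsQuasicoherent :=
  (SheafOfModules.isQuasicoherent (OEtRing X)).prop_of_iso e h

/-- quasi-coherence on the slice from quasi-coherence of the restriction to the chart. -/
theorem isQuasicoherent_over_of_res (E : EtOver X) (M : ModEt X)
    (h : ((ResEt.resModEt (he E)).obj M).IsQuasicoherent) : (M.over E).IsQuasicoherent :=
  (SheafOfModules.isQuasicoherent ((OEtRing X).over E)).prop_of_iso ((resPushIso E).app M)
    (isQuasicoherent_pushChart E _)

theorem isQuasicoherent_of_res (E : EtOver X) (hE : RepWith @Surjective E.obj.hom) (M : ModEt X)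
    (h : ((ResEt.resModEt (he E)).obj M).IsQuasicoherent) : M.IsQuasicoherent := by
  have h1 := BcProd.coversTop_of_surjective E hE
  have h2 : (etTop X).CoversTop fun _ : PUnit.{u + 2} => E := by
    intro V
    refine (etTop X).superset_covering ?_ (h1 V)
    rintro W g ⟨_, k⟩
    exact ⟨PUnit.unit, k⟩
  have h3 : ∀ _ : PUnit.{u + 2}, (SheafOfModules.over M E).IsQuasicoherent :=
    fun _ => isQuasicoherent_over_of_res E M h
  exact @SheafOfModules.IsQuasicoherent.of_coversTop (EtOver X) _ (etTop X) _ _ _ _ (OEtRing X) M
    PUnit.{u + 2} (fun _ : PUnit.{u + 2} => E) h2 h3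

theorem isQuasicoherent_of_pullModEt {U : Over S} (p : (yon S).obj U ⟶ X)
    (hrep : Representable p) (hp : RepWith @Etale p) (hs : RepWith @Surjective p) (M : ModEt X)
    (h : ((pullModEt hrep).obj M).IsQuasicoherent) : M.IsQuasicoherent :=
  isQuasicoherent_of_res (EtOver.mk p hp) hs M
    (isQuasicoherent_of_iso ((ResEt.pullIsoRes hrep (isEtaleMor_of_repWith p hp)).app M))

end K612.QcDesc
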