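import Groth.Prelude.Def_AlgSp
import Mathlib.CategoryTheory.Sites.RegularEpi
import Mathlib.CategoryTheory.Sites.LocallySurjective
import Mathlib.CategoryTheory.Sites.EpiMono
/-!
An fppf covering `q : U ⟶ M` exhibits `M` as the fppf quotient sheaf of `U` by its kernel pair.
-/

universe u

open CategoryTheory CategoryTheory.Limits AlgebraicGeometry Opposite

namespace K612.QuotLem

open AlgSp

variable {S : Scheme.{u}}

/-- A morphism `q` of schemes over `S` which is a covering (for the precoverage `K`) after every base change gives a locally surjective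
map of representable presheaves. -/
theorem isLocallySurjective_yoneda {U M : Over S} (q : U ⟶ M) [Flat q.left] [Surjective q.left]
    [LocallyOfFinitePresentation q.left] :
    Presheaf.IsLocallySurjective (QuotSh.J Scheme.fppfPrecoverage S)
      (Functor.whiskerRight (yoneda.map q) uliftFunctor.{u + 1, u}) := by
  constructor
  intro T s
  obtain ⟨s⟩ := s
  change (T ⟶ M) at s
  rw [GrothendieckTopology.mem_over_iff]
  refine GrothendieckTopology.superset_covering _ ?_
    (Precoverage.generate_mem_toGrothendieck
      (Scheme.Hom.singleton_mem_fppfPrecoverage (pullback.fst s.left q.left)))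
  rw [Sieve.generate_le_iff]
  rintro Z _ ⟨⟩
  rw [Sieve.overEquiv_iff]
  refine ⟨⟨Over.homMk (pullback.snd s.left q.left) ?_⟩, ?_⟩
  · change pullback.snd s.left q.left ≫ U.hom = pullback.fst s.left q.left ≫ T.hom
    rw [← Over.w q, ← Over.w s, pullback.condition_assoc]
  · apply ULift.ext
    apply Over.OverMorphism.ext
    exact pullback.condition.symm

theorem epi_repMap {U M : Over S} (q : U ⟶ M) [Flat q.left] [Surjective q.left]
    [LocallyOfFinitePresentation q.left] : Epi (QuotSh.repMap Scheme.fppfPrecoverage q) := by
  have := isLocallySurjective_yoneda q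
  have : Sheaf.IsLocallySurjective (QuotSh.repMap Scheme.fppfPrecoverage q) :=
    (Presheaf.isLocallySurjective_presheafToSheaf_map_iff _ _).2 this
  infer_instance

theorem isPullback_repMap (K : Precoverage Scheme.{u}) {R U V M : Over S} {t : R ⟶ U} {s : R ⟶ V} {q : U ⟶ M}
    {r : V ⟶ M} (h : IsPullback t s q r) :
    IsPullback (QuotSh.repMap K t) (QuotSh.repMap K s) (QuotSh.repMap K q) (QuotSh.repMap K r) := by
  have h1 : IsPullback (Functor.whiskerRight (yoneda.map t) uliftFunctor.{u + 1, u})
      (Functor.whiskerRight (yoneda.map s) uliftFunctor.{u + 1, u})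
      (Functor.whiskerRight (yoneda.map q) uliftFunctor.{u + 1, u})
      (Functor.whiskerRight (yoneda.map r) uliftFunctor.{u + 1, u}) :=
    h.map (yoneda ⋙ (Functor.whiskeringRight _ _ _).obj uliftFunctor.{u + 1, u})
  exact h1.map (presheafToSheaf (QuotSh.J K S) (Type (u + 1)))

/-- the quotient lemma -/
theorem isQuotient {R U M : Over S} {s t : R ⟶ U} {q : U ⟶ M} (h : IsPullback t s q q)
    [Flat q.left] [Surjective q.left] [LocallyOfFinitePresentation q.left] :
    QuotSh.IsQuotient Scheme.fppfPrecoverage s t q := by
  refine ⟨h.w.symm, ?_⟩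
  have := epi_repMap q
  have hp := isPullback_repMap Scheme.fppfPrecoverage h.flip
  have hr : IsRegularEpi (QuotSh.repMap Scheme.fppfPrecoverage q) :=
    IsRegularEpiCategory.regularEpiOfEpi _
  have : EffectiveEpi (QuotSh.repMap Scheme.fppfPrecoverage q) := inferInstance
  have hc := isColimitCoforkOfEffectiveEpi (QuotSh.repMap Scheme.fppfPrecoverage q) hp.cone hp.isLimit
  let e := (colimit.isColimit (parallelPair (QuotSh.repMap Scheme.fppfPrecoverage s)
    (QuotSh.repMap Scheme.fppfPrecoverage t))).coconePointUniqueUpToIso hc
  have he : QuotSh.quotDesc Scheme.fppfPrecoverage q h.w.symm = e.hom := by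
    apply coequalizer.hom_ext
    refine (coequalizer.π_desc _ _).trans ?_
    exact ((colimit.isColimit _).comp_coconePointUniqueUpToIso_hom hc WalkingParallelPair.one).symm
  rw [he]
  exact e.isIso_hom

end K612.QuotLem
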