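import Groth.Agent.AlgSp.K612.QuotLem
/-!
Covering sieves of the fppf topology over `S` are jointly surjective, and `q` is surjective if it is an fppf quotient map.
-/

universe u

open CategoryTheory CategoryTheory.Limits AlgebraicGeometry Opposite

namespace K612.QuotLem

variable {S : Scheme.{u}}

theorem fppf_jointly_surjective {X : Scheme.{u}} {Sv : Sieve X} (h : Sv ∈ Scheme.fppfPrecoverage.toGrothendieck X) (x : X) :
    ∃ (Y : Scheme.{u}) (f : Y ⟶ X) (y : Y), Sv f ∧ Flat f ∧ LocallyOfFinitePresentation f ∧ f y = x := by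
  have j1 : MorphismProperty.RespectsIso (@Flat : MorphismProperty Scheme.{u}) :=
    MorphismProperty.IsStableUnderBaseChange.respectsIso
  have j2 : MorphismProperty.RespectsIso (@LocallyOfFinitePresentation : MorphismProperty Scheme.{u}) :=
    MorphismProperty.IsStableUnderBaseChange.respectsIso
  have i1 : (@Flat ⊓ @LocallyOfFinitePresentation : MorphismProperty Scheme.{u}).RespectsIso :=
    MorphismProperty.RespectsIso.inf _ _
  have i2 : (@Flat ⊓ @LocallyOfFinitePresentation : MorphismProperty Scheme.{u}).ContainsIdentities :=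
    ⟨fun X => ⟨inferInstanceAs (Flat (𝟙 X)), inferInstanceAs (LocallyOfFinitePresentation (𝟙 X))⟩⟩
  have : Scheme.fppfPrecoverage.{u}.HasIsos := by unfold Scheme.fppfPrecoverage; infer_instance
  have : Scheme.fppfPrecoverage.{u}.HasPullbacks := by unfold Scheme.fppfPrecoverage; infer_instance
  obtain ⟨R, hR, hle⟩ := Precoverage.mem_toGrothendieck_iff_of_isStableUnderComposition.1 h
  obtain ⟨ι, Z, g, rfl⟩ := R.exists_eq_ofArrows
  rw [Scheme.fppfPrecoverage, Scheme.ofArrows_mem_precoverage_iff] at hR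
  obtain ⟨i, y, hy⟩ := hR.1 x
  exact ⟨Z i, g i, y, hle _ _ (Presieve.ofArrows.mk i), (hR.2 i).1, (hR.2 i).2, hy⟩

theorem surjective_of_epi_repMap {U M : Over S} (q : U ⟶ M)
    (h : Epi (QuotSh.repMap Scheme.fppfPrecoverage q)) : Surjective q.left := by
  have h1 : Sheaf.IsLocallySurjective (QuotSh.repMap Scheme.fppfPrecoverage q) :=
    (Sheaf.isLocallySurjective_iff_epi' (Type (u + 1)) _).2 h
  have h2 := (Presheaf.isLocallySurjective_presheafToSheaf_map_iff _ _).1 h1
  have h3 := h2.imageSieve_mem (U := M) ⟨𝟙 M⟩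
  rw [GrothendieckTopology.mem_over_iff] at h3
  refine ⟨fun x => ?_⟩
  obtain ⟨Y, f, y, hf, -, -, hy⟩ := fppf_jointly_surjective h3 x
  rw [Sieve.overEquiv_iff] at hf
  obtain ⟨⟨a⟩, ha⟩ := hf
  have h4 : a ≫ q = Over.homMk f ≫ 𝟙 M := congrArg ULift.down ha
  refine ⟨a.left y, ?_⟩
  rw [← Scheme.Hom.comp_apply, ← Over.comp_left, h4, Category.comp_id]
  exact hy

theorem surjective_of_isQuotient {R U M : Over S} {s t : R ⟶ U} {q : U ⟶ M}
    (h : QuotSh.IsQuotient Scheme.fppfPrecoverage s t q) : Surjective q.left := by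
  obtain ⟨w, hw⟩ := h
  refine surjective_of_epi_repMap q ?_
  have h1 : QuotSh.quotπ Scheme.fppfPrecoverage s t ≫ QuotSh.quotDesc Scheme.fppfPrecoverage q w =
      QuotSh.repMap Scheme.fppfPrecoverage q := coequalizer.π_desc _ _
  rw [← h1]
  have : Epi (QuotSh.quotπ Scheme.fppfPrecoverage s t) := coequalizer.π_epi
  exact epi_comp _ _

end K612.QuotLem
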