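import Groth.Agent.AlgSp.K612.ArcG
import Groth.Agent.AlgSp.K635.LvlMain
import Groth.Agent.AlgSp.K603.ModFin
import Groth.Agent.AlgSp.K622.CoreD
import Groth.Agent.AlgSp.K601.CoreC1
import Groth.Agent.AlgSp.K650.CoreC2
import Groth.Agent.AlgSp.K624.CoreC4
import Groth.Agent.AlgSp.K624.AnThmB

/-!
# Theorem B (homogeneous spaces over semi-local Dedekind domains), unconditionally
-/

set_option autoImplicit false
universe u

namespace K612.ThmB

/-- **Theorem B.** -/
theorem thmB : K622.AnDefs.ThmB.{u} :=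
  K624.AnThmB.thmB (K612.ArcG.arcG K635.LvlFib.lvl1) K603.ModNode.modN
    (K622.CoreD.coreD K601.CoreC1.main K650.CoreC2.main K624.CoreC4.nodeC4)

end K612.ThmB
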